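import Mathlib
import Cfsg.Agent.Helper1.NilAlt

/-! Part A3 of S2255 (same content as `nil_two_complement`, conjuncts reordered). -/

namespace Cfsg.Agent.Helper1

theorem altnil_hall {G : Type} [Group G] [Finite G] (hG : Group.IsNilpotent G)
    (P : Sylow 2 G) :
    ∃ Q : Subgroup G, Odd (Nat.card Q) ∧ Nat.card P * Nat.card Q = Nat.card G ∧
      ∀ a ∈ (P : Subgroup G), ∀ q ∈ Q, a * q = q * a := by
  obtain ⟨Q, h1, h2, h3⟩ := nil_two_complement hG P
  exact ⟨Q, h1, h3.symm, h2⟩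

end Cfsg.Agent.Helper1
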