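import Mathlib
import Cfsg.Agent.Helper1.Basic2

set_option autoImplicit false

namespace Cfsg.Agent.Helper1

theorem frattini_key {G : Type*} [Group G] [Finite G] (p : ℕ) [Fact p.Prime]
    (hG : IsPGroup p G) (H : Subgroup G) (hH : frattini G ≤ H) (s : G) (hs : s ∉ H) :
    (H ⊔ Subgroup.zpowers s).index * p = H.index := by
  have hp : p.Prime := Fact.out
  have hcomm : ∀ x y : G, x * y * x⁻¹ * y⁻¹ ∈ frattini G := by
    intro x y
    rw [mem_frattini_iff]
    intro M hM
    exact (coatom_pgroup p hG M hM).2.1 x y
  have hpow : ∀ x : G, x ^ p ∈ frattini G := by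
    intro x
    rw [mem_frattini_iff]
    intro M hM
    exact (coatom_pgroup p hG M hM).2.2 x
  haveI hHn : H.Normal := by
    refine ⟨fun h hh g => ?_⟩
    have h1 : g * h * g⁻¹ = (g * h * g⁻¹ * h⁻¹) * h := by group
    rw [h1]
    exact H.mul_mem (hH (hcomm g h)) hh
  have h1 : (QuotientGroup.mk' H s) ^ p = 1 := by
    rw [← map_pow]
    exact (QuotientGroup.eq_one_iff _).mpr (hH (hpow s))
  have h2 : QuotientGroup.mk' H s ≠ 1 := by
    intro h
    exact hs ((QuotientGroup.eq_one_iff _).mp h)
  have h3 : orderOf (QuotientGroup.mk' H s) = p := orderOf_eq_prime h1 h2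
  have h4 : H ⊔ Subgroup.zpowers s
      = (Subgroup.zpowers (QuotientGroup.mk' H s)).comap (QuotientGroup.mk' H) := by
    rw [← MonoidHom.map_zpowers, Subgroup.comap_map_eq, QuotientGroup.ker_mk', sup_comm]
  rw [h4, Subgroup.index_comap_of_surjective _ (QuotientGroup.mk'_surjective H),
    Subgroup.index_eq_card H]
  rw [← h3, ← Nat.card_zpowers]
  exact Subgroup.index_mul_card _

theorem burnside_lower {G : Type*} [Group G] [Finite G] (p n : ℕ) [Fact p.Prime]
    (hG : IsPGroup p G) (hn : (frattini G).index = p ^ n) (T : Finset G) :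
    p ^ n ≤ (Subgroup.closure (T : Set G) ⊔ frattini G).index * p ^ T.card := by
  classical
  have hp : p.Prime := Fact.out
  induction T using Finset.induction_on with
  | empty =>
    rw [Finset.coe_empty, Subgroup.closure_empty, bot_sup_eq, hn, Finset.card_empty, pow_zero,
      mul_one]
  | insert s T hsT ih =>
    have h1 : Subgroup.closure ((insert s T : Finset G) : Set G) ⊔ frattini G
        = (Subgroup.closure (T : Set G) ⊔ frattini G) ⊔ Subgroup.zpowers s := by
      rw [Finset.coe_insert, Set.insert_eq, Subgroup.closure_union, Subgroup.zpowers_eq_closure,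
        sup_comm (Subgroup.closure {s}) (Subgroup.closure (T : Set G)), sup_right_comm]
    rw [h1, Finset.card_insert_of_notMem hsT]
    by_cases hs : s ∈ Subgroup.closure (T : Set G) ⊔ frattini G
    · have h2 : (Subgroup.closure (T : Set G) ⊔ frattini G) ⊔ Subgroup.zpowers s
          = Subgroup.closure (T : Set G) ⊔ frattini G := by
        rw [sup_eq_left, Subgroup.zpowers_le]; exact hs
      rw [h2]
      calc p ^ n ≤ (Subgroup.closure (T : Set G) ⊔ frattini G).index * p ^ T.card := ih
        _ ≤ (Subgroup.closure (T : Set G) ⊔ frattini G).index * p ^ (T.card + 1) :=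
          Nat.mul_le_mul_left _ (Nat.pow_le_pow_right hp.pos (Nat.le_succ _))
    · have h2 := frattini_key p hG _ le_sup_right s hs
      calc p ^ n ≤ (Subgroup.closure (T : Set G) ⊔ frattini G).index * p ^ T.card := ih
        _ = ((Subgroup.closure (T : Set G) ⊔ frattini G) ⊔ Subgroup.zpowers s).index
              * p ^ (T.card + 1) := by
          rw [← h2, pow_succ]; ring

theorem burnside_upper {G : Type*} [Group G] [Finite G] (p n : ℕ) [Fact p.Prime]
    (hG : IsPGroup p G) (hn : (frattini G).index = p ^ n) (S : Finset G)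
    (hS : Subgroup.closure (S : Set G) = ⊤) (i : ℕ) (hi : i ≤ n) :
    ∃ T : Finset G, T ⊆ S ∧ T.card = i ∧
      (Subgroup.closure (T : Set G) ⊔ frattini G).index = p ^ (n - i) := by
  classical
  have hp : p.Prime := Fact.out
  induction i with
  | zero =>
    refine ⟨∅, Finset.empty_subset _, Finset.card_empty, ?_⟩
    rw [Finset.coe_empty, Subgroup.closure_empty, bot_sup_eq, hn, Nat.sub_zero]
  | succ i ih =>
    obtain ⟨T, hTS, hTc, hTi⟩ := ih (by omega)
    obtain ⟨H, hH⟩ : ∃ H, H = Subgroup.closure (T : Set G) ⊔ frattini G := ⟨_, rfl⟩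
    rw [← hH] at hTi
    have hHne : H ≠ ⊤ := by
      intro h
      rw [h, Subgroup.index_top] at hTi
      have h1 : 1 < p ^ (n - i) := Nat.one_lt_pow (by omega) hp.one_lt
      omega
    have hex : ∃ s ∈ S, s ∉ H := by
      by_contra hcon
      push_neg at hcon
      apply hHne
      rw [eq_top_iff, ← hS, Subgroup.closure_le]
      exact fun s hs => hcon s (Finset.mem_coe.mp hs)
    obtain ⟨s, hsS, hsH⟩ := hex
    have hsT : s ∉ T := by
      intro h
      apply hsH
      rw [hH]
      exact (le_sup_left : Subgroup.closure (T : Set G) ≤ _)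
        (Subgroup.subset_closure (Finset.mem_coe.mpr h))
    refine ⟨insert s T, Finset.insert_subset hsS hTS, ?_, ?_⟩
    · rw [Finset.card_insert_of_notMem hsT, hTc]
    · have h1 : Subgroup.closure ((insert s T : Finset G) : Set G) ⊔ frattini G
          = H ⊔ Subgroup.zpowers s := by
        rw [hH, Finset.coe_insert, Set.insert_eq, Subgroup.closure_union,
          Subgroup.zpowers_eq_closure,
          sup_comm (Subgroup.closure {s}) (Subgroup.closure (T : Set G)), sup_right_comm]
      have h2 := frattini_key p hG H (hH ▸ le_sup_right) s hsH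
      rw [h1]
      rw [hTi] at h2
      have h3 : n - i = (n - (i + 1)) + 1 := by omega
      rw [h3, pow_succ] at h2
      exact Nat.eq_of_mul_eq_mul_right hp.pos h2

end Cfsg.Agent.Helper1
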