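import Cfsg.Agent.Helper1.Coprime2

set_option autoImplicit false

namespace Cfsg.Agent.Helper1

open Pointwise

universe u

theorem le_normalizer_inf_normalizer {G : Type*} [Group G] (A K V : Subgroup G)
    (hAK : A ≤ Subgroup.normalizer (K : Set G)) (hAV : A ≤ Subgroup.normalizer (V : Set G)) :
    A ≤ Subgroup.normalizer ((K ⊓ Subgroup.normalizer (V : Set G) : Subgroup G) : Set G) := by
  intro a ha
  rw [Subgroup.mem_normalizer_iff]
  intro z
  have e1 := Subgroup.mem_normalizer_iff.mp (hAK ha) z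
  have e2 := Subgroup.mem_normalizer_iff.mp (Subgroup.le_normalizer (hAV ha)) z
  simp only [Subgroup.mem_inf]
  rw [e1, e2]

/-- Under coprime action every invariant `p`-subgroup lies in an invariant Sylow `p`-subgroup
(subgroup form). -/
theorem inv_sylow_ge {G : Type u} [Group G] [Finite G] (A K : Subgroup G)
    (hAK : A ≤ Subgroup.normalizer (K : Set G))
    (hcop : (Nat.card A).Coprime (Nat.card K)) (hsolv : Group.IsSolvable A ∨ Group.IsSolvable K)
    (p : ℕ) [hp : Fact p.Prime] (U : Subgroup G) (hUK : U ≤ K) (hU : IsPGroup p U)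
    (hUA : A ≤ Subgroup.normalizer (U : Set G)) :
    ∃ Q : Subgroup G, Q ≤ K ∧ Nat.card Q = p ^ (Nat.card K).factorization p ∧ U ≤ Q ∧
      A ≤ Subgroup.normalizer (Q : Set G) := by
  classical
  set 𝒮 : Set (Subgroup G) :=
    {V | U ≤ V ∧ V ≤ K ∧ IsPGroup p V ∧ A ≤ Subgroup.normalizer (V : Set G)} with h𝒮
  have hfin : 𝒮.Finite := Set.toFinite 𝒮
  obtain ⟨V, hUV, hVmax⟩ := hfin.exists_le_maximal (a := U) ⟨le_rfl, hUK, hU, hUA⟩
  obtain ⟨-, hVK, hVp, hVA⟩ := hVmax.prop
  set N := K ⊓ Subgroup.normalizer (V : Set G) with hN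
  have hAN : A ≤ Subgroup.normalizer (N : Set G) := le_normalizer_inf_normalizer A K V hAK hVA
  have hNK : N ≤ K := inf_le_left
  have hcopN : (Nat.card A).Coprime (Nat.card N) :=
    hcop.coprime_dvd_right (Subgroup.card_dvd_of_le hNK)
  have hsolvN : Group.IsSolvable A ∨ Group.IsSolvable N := by
    rcases hsolv with h | h
    · exact Or.inl h
    · right
      exact Group.isSolvable_of_isSolvable_injective
        (f := Subgroup.inclusion hNK) (Subgroup.inclusion_injective hNK)
  obtain ⟨S, hSN, hScard, hAS⟩ := inv_sylow_exists A N hAN hcopN hsolvN p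
  have hSp : IsPGroup p S := IsPGroup.of_card hScard
  have hVN : V ≤ N := le_inf hVK Subgroup.le_normalizer
  have hVS : V ≤ S := by
    have hp1 : IsPGroup p (S ⊔ V : Subgroup G) :=
      IsPGroup.to_sup_of_normal_right' hSp hVp (hSN.trans inf_le_right)
    obtain ⟨j, hj⟩ := hp1.exists_card_eq
    have hdvd : p ^ j ∣ Nat.card N := hj ▸ Subgroup.card_dvd_of_le (sup_le hSN hVN)
    have hjle : j ≤ (Nat.card N).factorization p :=
      (hp.out.pow_dvd_iff_le_factorization Nat.card_pos.ne').mp hdvd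
    have hle : Nat.card (S ⊔ V : Subgroup G) ≤ Nat.card S := by
      rw [hj, hScard]
      exact Nat.pow_le_pow_right hp.out.pos hjle
    have h3 : S = S ⊔ V := Subgroup.eq_of_le_of_card_ge le_sup_left hle
    rw [h3]
    exact le_sup_right
  have hSV : S = V := by
    have hS𝒮 : S ∈ 𝒮 := ⟨hUV.trans hVS, hSN.trans hNK, hSp, hAS⟩
    exact le_antisymm (hVmax.le_of_ge hS𝒮 hVS) hVS
  refine ⟨V, hVK, ?_, hUV, hVA⟩
  rw [← hSV, hScard]
  congr 1
  by_contra hne
  have hKpos : Nat.card K ≠ 0 := Nat.card_pos.ne'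
  have hle : (Nat.card N).factorization p ≤ (Nat.card K).factorization p :=
    (hp.out.pow_dvd_iff_le_factorization hKpos).mp
      ((Nat.ordProj_dvd _ p).trans (Subgroup.card_dvd_of_le hNK))
  have hlt : (Nat.card N).factorization p < (Nat.card K).factorization p := by omega
  set j := (Nat.card N).factorization p with hj
  have hdvd : p ^ (j + 1) ∣ Nat.card K := (pow_dvd_pow p hlt).trans (Nat.ordProj_dvd _ p)
  have hcV : Nat.card (V.subgroupOf K) = p ^ j := by
    rw [Nat.card_congr (Subgroup.subgroupOfEquivOfLe hVK).toEquiv, ← hSV, hScard]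
  have h1 := Sylow.prime_dvd_card_quotient_normalizer hdvd hcV
  have hNH : Subgroup.normalizer ((V.subgroupOf K : Subgroup K) : Set K) =
      (Subgroup.normalizer (V : Set G)).subgroupOf K := (Subgroup.subgroupOf_normalizer_eq hVK).symm
  have hcardNH : Nat.card (Subgroup.normalizer ((V.subgroupOf K : Subgroup K) : Set K)) =
      Nat.card N := by
    rw [hNH, ← Subgroup.inf_subgroupOf_right,
      Nat.card_congr (Subgroup.subgroupOfEquivOfLe
        (inf_le_right : Subgroup.normalizer (V : Set G) ⊓ K ≤ K)).toEquiv, hN, inf_comm]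
  have hcH' : Nat.card ((V.subgroupOf K).comap
      (Subgroup.normalizer ((V.subgroupOf K : Subgroup K) : Set K)).subtype) = p ^ j :=
    (Nat.card_congr (Subgroup.subgroupOfEquivOfLe Subgroup.le_normalizer).toEquiv).trans hcV
  have h2 := Subgroup.card_eq_card_quotient_mul_card_subgroup ((V.subgroupOf K).comap
      (Subgroup.normalizer ((V.subgroupOf K : Subgroup K) : Set K)).subtype)
  have h3 : p ^ (j + 1) ∣ Nat.card N := by
    rw [← hcardNH, h2, hcH', pow_succ, mul_comm]
    exact Nat.mul_dvd_mul_right h1 _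
  exact Nat.pow_succ_factorization_not_dvd Nat.card_pos.ne' hp.out h3

end Cfsg.Agent.Helper1
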