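import Mathlib

set_option autoImplicit false

namespace Cfsg.Agent.Helper1

section QuadCore

variable {R : Type*} [Ring R]

/-- `(1 + N)^k = 1 + k N` when `N^2 = 0`. -/
theorem one_add_pow_sq_zero (N : R) (hN : N * N = 0) (k : ℕ) :
    (1 + N) ^ k = 1 + (k : R) * N := by
  induction k with
  | zero => simp
  | succ k ih =>
    rw [pow_succ, ih, Nat.cast_succ]
    have e : (1 + (k : R) * N) * (1 + N) = 1 + ((k : R) + 1) * N + (k : R) * (N * N) := by
      noncomm_ring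
    rw [e, hN, mul_zero, add_zero]

/-- The inverse of the unit `1 + N` with `N^2 = 0`. -/
theorem val_inv_of_sq_zero (u : Rˣ) (N : R) (hu : (u : R) = 1 + N) (hN : N * N = 0) :
    ((u⁻¹ : Rˣ) : R) = 1 - N := by
  have h1 : (u : R) * (1 - N) = 1 := by
    rw [hu, mul_sub, mul_one, add_mul, one_mul, hN, add_zero, add_sub_cancel_right]
  calc ((u⁻¹ : Rˣ) : R) = ((u⁻¹ : Rˣ) : R) * ((u : R) * (1 - N)) := by rw [h1, mul_one]
    _ = 1 - N := by rw [← mul_assoc, Units.inv_mul, one_mul]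

/-- The key step: if `y` lies in the group generated by `x` and `y x y⁻¹`, then the opposite
root element `1 + C` lies in the group generated by `x` and `y`. -/
theorem quad_unit_core {p : ℕ} (hodd : Odd p) (hpR : (p : R) = 0)
    (A B C : R) (hAA : A * A = 0) (hBB : B * B = 0) (hCC : C * C = 0)
    (hBC : B * C + C * B = 1) (hAC : A * C = 0) (hCA : C * A = 0)
    (x y x₀ : Rˣ) (hx : (x : R) = 1 + A) (hy : (y : R) = 1 + B) (hx₀ : (x₀ : R) = 1 + C)
    (hmem : y ∈ Subgroup.closure ({x, y * x * y⁻¹} : Set Rˣ)) :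
    x₀ ∈ Subgroup.closure ({x, y} : Set Rˣ) := by
  obtain ⟨m, hm⟩ := hodd
  obtain ⟨k, hk⟩ : ∃ k : ℕ, 2 * k = p + 1 := ⟨m + 1, by omega⟩
  have h2 : (2 : R) * (k : R) = 1 := by
    have h := congrArg (Nat.cast : ℕ → R) hk
    rw [Nat.cast_mul, Nat.cast_add, Nat.cast_one, hpR, zero_add, Nat.cast_ofNat] at h
    exact h
  have hkc : ∀ r : R, (k : R) * r = r * (k : R) := fun r => (Nat.cast_commute k r).eq
  have h2' : (k : R) * 2 = 1 := by rw [hkc, h2]
  have hBC' : B * C = 1 - C * B := eq_sub_of_add_eq hBC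
  have hCB' : C * B = 1 - B * C := eq_sub_of_add_eq' hBC
  have hBC_ext : ∀ Y : R, Y * B * C = Y - Y * C * B := fun Y => by
    rw [mul_assoc, hBC', mul_sub, mul_one, ← mul_assoc]
  have hBB_ext : ∀ Y : R, Y * B * B = 0 := fun Y => by rw [mul_assoc, hBB, mul_zero]
  have hAC_ext : ∀ Y : R, Y * A * C = 0 := fun Y => by rw [mul_assoc, hAC, mul_zero]
  have hABC : A * B * C = A := by
    rw [mul_assoc, hBC', mul_sub, mul_one, ← mul_assoc, hAC, zero_mul, sub_zero]
  have hABC_ext : ∀ Y : R, Y * A * B * C = Y * A := fun Y => by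
    calc Y * A * B * C = Y * (A * B * C) := by simp only [mul_assoc]
      _ = Y * A := by rw [hABC]
  obtain ⟨E, hE⟩ : ∃ E : R, E = C * B := ⟨_, rfl⟩
  have hEE : E * E = E := by
    rw [hE]
    calc C * B * (C * B) = C * (B * C) * B := by simp only [mul_assoc]
      _ = C * B := by
        rw [hBC', mul_sub, mul_one, ← mul_assoc C C B, hCC, zero_mul, sub_zero]
  have hEB : E * B = 0 := by rw [hE, mul_assoc, hBB, mul_zero]
  have hBE : B * E = B := by
    rw [hE, ← mul_assoc, hBC', sub_mul, one_mul, mul_assoc, hBB, mul_zero, sub_zero]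
  have hEA : E * A = A := by
    rw [hE, hCB', sub_mul, one_mul, mul_assoc, hCA, mul_zero, sub_zero]
  have hAE : A * E = 0 := by rw [hE, ← mul_assoc, hAC, zero_mul]
  have hCE : C * E = 0 := by rw [hE, ← mul_assoc, hCC, zero_mul]
  have hkEE : (k : R) * E + (k : R) * E = E := by
    rw [← two_mul, ← mul_assoc, h2, one_mul]
  -- the diagonal unit `d`
  obtain ⟨d, hdval⟩ : ∃ d : Rˣ, (d : R) = 1 + E := by
    refine ⟨⟨1 + E, 1 - (k : R) * E, ?_, ?_⟩, rfl⟩
    · have e1 : E * ((k : R) * E) = (k : R) * E := by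
        rw [← mul_assoc, ← hkc E, mul_assoc, hEE]
      rw [mul_sub, mul_one, add_mul, one_mul, e1, hkEE, add_sub_cancel_right]
    · have e1 : (k : R) * E * E = (k : R) * E := by rw [mul_assoc, hEE]
      rw [sub_mul, one_mul, mul_add, mul_one, e1, hkEE, add_sub_cancel_right]
  have hx₀inv : ((x₀⁻¹ : Rˣ) : R) = 1 - C := val_inv_of_sq_zero x₀ C hx₀ hCC
  have hyinv : ((y⁻¹ : Rˣ) : R) = 1 - B := val_inv_of_sq_zero y B hy hBB
  -- conjugation identities
  have hdy : d * (y * y) = y * d := by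
    apply Units.ext
    simp only [Units.val_mul, hy, hdval, mul_add, add_mul, mul_one, one_mul, hBB, hEB, hBE,
      mul_zero, zero_mul, add_zero, zero_add]
    abel
  have hdx : d * x = x * x * d := by
    apply Units.ext
    simp only [Units.val_mul, hx, hdval, mul_add, add_mul, mul_one, one_mul, hAA, hEA, hAE,
      mul_zero, zero_mul, add_zero, zero_add]
    abel
  have hcomm : x₀ * x = x * x₀ := by
    apply Units.ext
    simp only [Units.val_mul, hx, hx₀, mul_add, add_mul, mul_one, one_mul, hCA, hAC,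
      add_zero, zero_add]
    abel
  obtain ⟨z, hz⟩ : ∃ z : Rˣ, z = x₀⁻¹ * d * y := ⟨_, rfl⟩
  have hzval : (z : R) = 1 + B - C := by
    rw [hz]
    simp only [Units.val_mul, hx₀inv, hdval, hy, mul_add, add_mul, mul_sub, sub_mul, mul_one,
      one_mul, hCE, hEB, ← hE, mul_zero, zero_mul, sub_zero, add_zero, zero_add]
    abel
  obtain ⟨A', hA'⟩ : ∃ A' : R, A' = A + B * A - A * B - B * A * B := ⟨_, rfl⟩
  have hyxy : ((y * x * y⁻¹ : Rˣ) : R) = 1 + A' := by
    rw [hA']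
    simp only [Units.val_mul, hx, hy, hyinv, mul_add, add_mul, mul_sub, sub_mul, mul_one,
      one_mul, hBB, hBB_ext, sub_zero, add_zero, zero_add]
    abel
  have hA'2 : A' = (1 + B) * A * (1 - B) := by
    rw [hA']
    simp only [mul_add, add_mul, mul_sub, sub_mul, mul_one, one_mul]
    abel
  have hinvB : (1 - B) * (1 + B) = 1 := by
    rw [sub_mul, one_mul, mul_add, mul_one, hBB, add_zero, add_sub_cancel_right]
  have hA'sq : A' * A' = 0 := by
    rw [hA'2]
    calc (1 + B) * A * (1 - B) * ((1 + B) * A * (1 - B))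
        = (1 + B) * A * ((1 - B) * (1 + B)) * A * (1 - B) := by simp only [mul_assoc]
      _ = 0 := by rw [hinvB, mul_one, mul_assoc (1 + B) A A, hAA, mul_zero, zero_mul]
  have hkey2 : A' * (1 + B - C) = (A + B * A) + (A + B * A) := by
    rw [hA']
    simp only [mul_add, add_mul, mul_sub, sub_mul, mul_one, hBB_ext, hAC, hAC_ext, hABC,
      hABC_ext, sub_zero, add_zero, zero_add]
    abel
  have hzx : z * x = (y * x * y⁻¹) ^ k * z := by
    apply Units.ext
    rw [Units.val_mul, Units.val_mul, Units.val_pow_eq_pow_val, hzval, hx, hyxy,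
      one_add_pow_sq_zero A' hA'sq k]
    have eL : (1 + B - C) * (1 + A) = (1 + B - C) + (A + B * A) := by
      rw [mul_add, mul_one, sub_mul, add_mul, one_mul, hCA, sub_zero]
    have eR : (1 + (k : R) * A') * (1 + B - C) = (1 + B - C) + (A + B * A) := by
      calc (1 + (k : R) * A') * (1 + B - C)
          = (1 + B - C) + (k : R) * (A' * (1 + B - C)) := by rw [add_mul, one_mul, mul_assoc]
        _ = (1 + B - C) + (k : R) * (2 * (A + B * A)) := by rw [hkey2, ← two_mul]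
        _ = (1 + B - C) + (A + B * A) := by rw [← mul_assoc, h2', one_mul]
    rw [eL, eR]
  have hbraid : x₀ * y⁻¹ * x₀ = y⁻¹ * x₀ * y⁻¹ := by
    apply Units.ext
    simp only [Units.val_mul, hx₀, hyinv, mul_add, add_mul, mul_sub, sub_mul, mul_one, one_mul,
      hCC, hBB, hBC', hBC_ext, hBB_ext, mul_zero, zero_mul, sub_zero, add_zero, zero_add]
    abel
  -- group theory
  obtain ⟨H, hH⟩ : ∃ H : Subgroup Rˣ, H = Subgroup.closure ({x, y} : Set Rˣ) := ⟨_, rfl⟩
  obtain ⟨H', hH'⟩ : ∃ H' : Subgroup Rˣ, H' = Subgroup.closure ({x, y * x * y⁻¹} : Set Rˣ) :=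
    ⟨_, rfl⟩
  rw [← hH]
  rw [← hH'] at hmem
  have hxH : x ∈ H := by rw [hH]; exact Subgroup.subset_closure (Set.mem_insert _ _)
  have hyH : y ∈ H := by
    rw [hH]; exact Subgroup.subset_closure (Set.mem_insert_of_mem _ (Set.mem_singleton _))
  have hxH' : x ∈ H' := by rw [hH']; exact Subgroup.subset_closure (Set.mem_insert _ _)
  have hyxyH' : y * x * y⁻¹ ∈ H' := by
    rw [hH']; exact Subgroup.subset_closure (Set.mem_insert_of_mem _ (Set.mem_singleton _))
  have hH'H : H' ≤ H := by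
    rw [hH', Subgroup.closure_le]
    intro g hg
    rcases hg with rfl | hg
    · exact hxH
    · rw [Set.mem_singleton_iff.mp hg]
      exact H.mul_mem (H.mul_mem hyH hxH) (H.inv_mem hyH)
  obtain ⟨dp, hdp⟩ : ∃ dp : Rˣ, dp = x₀⁻¹ * d := ⟨_, rfl⟩
  have hcx : Commute x₀ x := hcomm
  have hconj : ∀ h ∈ H', dp * h * dp⁻¹ ∈ H' := by
    intro h hh
    rw [hH'] at hh
    refine Subgroup.closure_induction (p := fun h _ => dp * h * dp⁻¹ ∈ H') ?_ ?_ ?_ ?_ hh
    · intro g hg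
      rcases hg with rfl | hg
      · have e : dp * g * dp⁻¹ = g * g := by
          calc dp * g * dp⁻¹ = x₀⁻¹ * (d * g * d⁻¹) * x₀ := by rw [hdp]; group
            _ = x₀⁻¹ * (g * g) * x₀ := by rw [hdx, mul_inv_cancel_right]
            _ = g * g := by rw [(hcx.mul_right hcx).inv_left.eq, inv_mul_cancel_right]
        rw [e]; exact H'.mul_mem hxH' hxH'
      · rw [Set.mem_singleton_iff.mp hg]
        have e : dp * (y * x * y⁻¹) * dp⁻¹ = (y * x * y⁻¹) ^ k := by
          calc dp * (y * x * y⁻¹) * dp⁻¹ = (z * x) * z⁻¹ := by rw [hdp, hz]; group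
            _ = (y * x * y⁻¹) ^ k := by rw [hzx, mul_inv_cancel_right]
        rw [e]; exact H'.pow_mem hyxyH' k
    · rw [mul_one, mul_inv_cancel]; exact H'.one_mem
    · intro a b _ _ ha hb
      have e : dp * (a * b) * dp⁻¹ = (dp * a * dp⁻¹) * (dp * b * dp⁻¹) := by group
      rw [e]; exact H'.mul_mem ha hb
    · intro a _ ha
      have e : dp * a⁻¹ * dp⁻¹ = (dp * a * dp⁻¹)⁻¹ := by group
      rw [e]; exact H'.inv_mem ha
  have hy2 : x₀⁻¹ * y * x₀ ∈ H := by
    apply hH'H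
    have h1 := hconj (y * y) (H'.mul_mem hmem hmem)
    have e : dp * (y * y) * dp⁻¹ = x₀⁻¹ * y * x₀ := by
      calc dp * (y * y) * dp⁻¹ = x₀⁻¹ * (d * (y * y) * d⁻¹) * x₀ := by rw [hdp]; group
        _ = x₀⁻¹ * y * x₀ := by rw [hdy, mul_inv_cancel_right]
    rw [e] at h1
    exact h1
  have hc1 : ∀ h ∈ H, x₀⁻¹ * h * x₀ ∈ H := by
    intro h hh
    have hh' := hh
    rw [hH] at hh'
    refine Subgroup.closure_induction (p := fun h _ => x₀⁻¹ * h * x₀ ∈ H) ?_ ?_ ?_ ?_ hh'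
    · intro g hg
      rcases hg with rfl | hg
      · have e : x₀⁻¹ * g * x₀ = g := by
          rw [hcx.inv_left.eq, inv_mul_cancel_right]
        rw [e]; exact hxH
      · rw [Set.mem_singleton_iff.mp hg]; exact hy2
    · rw [mul_one, inv_mul_cancel]; exact H.one_mem
    · intro a b _ _ ha hb
      have e : x₀⁻¹ * (a * b) * x₀ = (x₀⁻¹ * a * x₀) * (x₀⁻¹ * b * x₀) := by group
      rw [e]; exact H.mul_mem ha hb
    · intro a _ ha
      have e : x₀⁻¹ * a⁻¹ * x₀ = (x₀⁻¹ * a * x₀)⁻¹ := by group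
      rw [e]; exact H.inv_mem ha
  have hck : ∀ n : ℕ, ∀ h ∈ H, x₀⁻¹ ^ n * h * x₀ ^ n ∈ H := by
    intro n
    induction n with
    | zero => intro h hh; rw [pow_zero, pow_zero, one_mul, mul_one]; exact hh
    | succ n ih =>
      intro h hh
      have e : x₀⁻¹ ^ (n + 1) * h * x₀ ^ (n + 1) = x₀⁻¹ ^ n * (x₀⁻¹ * h * x₀) * x₀ ^ n := by
        rw [pow_succ, pow_succ']
        simp only [mul_assoc]
      rw [e]
      exact ih _ (hc1 h hh)
  have hx₀p : x₀ ^ p = 1 := by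
    apply Units.ext
    rw [Units.val_pow_eq_pow_val, hx₀, one_add_pow_sq_zero C hCC p, hpR, zero_mul, add_zero,
      Units.val_one]
  have hpow1 : x₀ ^ (2 * m) = x₀⁻¹ := by
    apply eq_inv_of_mul_eq_one_left
    rw [← pow_succ, ← hm, hx₀p]
  have hpow2 : x₀⁻¹ ^ (2 * m) = x₀ := by rw [inv_pow, hpow1, inv_inv]
  have hc2 : ∀ h ∈ H, x₀ * h * x₀⁻¹ ∈ H := by
    intro h hh
    have h1 := hck (2 * m) h hh
    rw [hpow1, hpow2] at h1
    exact h1
  have h3 : x₀ * y * x₀⁻¹ ∈ H := hc2 y hyH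
  have h4 : x₀ * (x₀ * y * x₀⁻¹) * x₀⁻¹ ∈ H := hc2 _ h3
  have h5 : (x₀ * y * x₀⁻¹)⁻¹ * (x₀ * (x₀ * y * x₀⁻¹) * x₀⁻¹) * (x₀ * y * x₀⁻¹) ∈ H :=
    H.mul_mem (H.mul_mem (H.inv_mem h3) h4) h3
  have e1 : (x₀ * y * x₀⁻¹)⁻¹ * (x₀ * (x₀ * y * x₀⁻¹) * x₀⁻¹) * (x₀ * y * x₀⁻¹)
      = (x₀ * y⁻¹ * x₀) * (y * x₀⁻¹ * y * x₀⁻¹) := by group
  have e2 : (y⁻¹ * x₀ * y⁻¹) * (y * x₀⁻¹ * y * x₀⁻¹) = x₀⁻¹ := by group
  rw [e1, hbraid, e2] at h5
  have h6 := H.inv_mem h5
  rw [inv_inv] at h6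
  exact h6

/-- Descent: a pair of quadratic units with `AB + BA` invertible generating a finite group
yields a pair of "matrix unit" quadratic units inside that group. -/
theorem quad_pair_exists {p : ℕ} (hodd : Odd p) (hpR : (p : R) = 0) :
    ∀ n : ℕ, ∀ (α β : Rˣ) (A B : R), (α : R) = 1 + A → (β : R) = 1 + B → A * A = 0 →
      B * B = 0 → IsUnit (A * B + B * A) →
      Finite ↥(Subgroup.closure ({α, β} : Set Rˣ)) →
      Nat.card ↥(Subgroup.closure ({α, β} : Set Rˣ)) ≤ n →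
      ∃ x₀ ∈ Subgroup.closure ({α, β} : Set Rˣ), ∃ y₀ ∈ Subgroup.closure ({α, β} : Set Rˣ),
        ∃ B₀ C₀ : R, B₀ * B₀ = 0 ∧ C₀ * C₀ = 0 ∧ B₀ * C₀ + C₀ * B₀ = 1 ∧
          (x₀ : R) = 1 + C₀ ∧ (y₀ : R) = 1 + B₀ := by
  intro n
  induction n using Nat.strong_induction_on with
  | _ n ih =>
  intro α β A B hα hβ hAA hBB hunit hfin hcard
  obtain ⟨u, hu⟩ := hunit
  obtain ⟨τ, hτ⟩ : ∃ τ : R, τ = A * B + B * A := ⟨_, rfl⟩
  rw [← hτ] at hu
  obtain ⟨τ', hτ'⟩ : ∃ τ' : R, τ' = ((u⁻¹ : Rˣ) : R) := ⟨_, rfl⟩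
  have hτ'τ : τ' * τ = 1 := by rw [hτ', ← hu, Units.inv_mul]
  have hcA : Commute τ A := by
    show τ * A = A * τ
    rw [hτ, add_mul, mul_add, mul_assoc B A A, hAA, mul_zero, add_zero, ← mul_assoc A A B, hAA,
      zero_mul, zero_add, mul_assoc]
  have hcB : Commute τ B := by
    show τ * B = B * τ
    rw [hτ, add_mul, mul_add, mul_assoc A B B, hBB, mul_zero, zero_add, ← mul_assoc B B A, hBB,
      zero_mul, add_zero, mul_assoc]
  have hcA' : Commute τ' A := by
    rw [hτ']; rw [← hu] at hcA; exact hcA.units_inv_left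
  have hcB' : Commute τ' B := by
    rw [hτ']; rw [← hu] at hcB; exact hcB.units_inv_left
  obtain ⟨C, hC⟩ : ∃ C : R, C = τ' * A := ⟨_, rfl⟩
  have hAC : A * C = 0 := by
    rw [hC, ← mul_assoc, ← hcA'.eq, mul_assoc, hAA, mul_zero]
  have hCA : C * A = 0 := by rw [hC, mul_assoc, hAA, mul_zero]
  have hCC : C * C = 0 := by
    rw [hC, mul_assoc, ← hC, hAC, mul_zero]
  have hBC : B * C + C * B = 1 := by
    rw [hC, ← mul_assoc, ← hcB'.eq, mul_assoc, mul_assoc, ← mul_add, add_comm, ← hτ, hτ'τ]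
  obtain ⟨x₀, hx₀⟩ : ∃ x₀ : Rˣ, (x₀ : R) = 1 + C := by
    refine ⟨⟨1 + C, 1 - C, ?_, ?_⟩, rfl⟩
    · rw [mul_sub, mul_one, add_mul, one_mul, hCC, add_zero, add_sub_cancel_right]
    · rw [sub_mul, one_mul, mul_add, mul_one, hCC, add_zero, add_sub_cancel_right]
  obtain ⟨H, hH⟩ : ∃ H : Subgroup Rˣ, H = Subgroup.closure ({α, β} : Set Rˣ) := ⟨_, rfl⟩
  rw [← hH] at hfin hcard ⊢
  have hαH : α ∈ H := by rw [hH]; exact Subgroup.subset_closure (Set.mem_insert _ _)
  have hβH : β ∈ H := by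
    rw [hH]; exact Subgroup.subset_closure (Set.mem_insert_of_mem _ (Set.mem_singleton _))
  by_cases hmem : β ∈ Subgroup.closure ({α, β * α * β⁻¹} : Set Rˣ)
  · refine ⟨x₀, ?_, β, hβH, B, C, hBB, hCC, hBC, hx₀, hβ⟩
    rw [hH]
    exact quad_unit_core hodd hpR A B C hAA hBB hCC hBC hAC hCA α β x₀ hα hβ hx₀ hmem
  · obtain ⟨H', hH'⟩ : ∃ H' : Subgroup Rˣ,
        H' = Subgroup.closure ({α, β * α * β⁻¹} : Set Rˣ) := ⟨_, rfl⟩
    rw [← hH'] at hmem
    have hH'H : H' ≤ H := by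
      rw [hH', Subgroup.closure_le]
      intro g hg
      rcases hg with rfl | hg
      · exact hαH
      · rw [Set.mem_singleton_iff.mp hg]
        exact H.mul_mem (H.mul_mem hβH hαH) (H.inv_mem hβH)
    haveI : Finite ↥H := hfin
    haveI hfin' : Finite ↥H' :=
      Finite.of_injective (Subgroup.inclusion hH'H) (Subgroup.inclusion_injective hH'H)
    have hlt : Nat.card ↥H' < Nat.card ↥H := by
      by_contra hcon
      have h1 : H' = H := Subgroup.eq_of_le_of_card_ge hH'H (not_lt.mp hcon)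
      exact hmem (by rw [h1]; exact hβH)
    obtain ⟨A', hA'⟩ : ∃ A' : R, A' = A + B * A - A * B - B * A * B := ⟨_, rfl⟩
    have hβinv : ((β⁻¹ : Rˣ) : R) = 1 - B := val_inv_of_sq_zero β B hβ hBB
    have hBB_ext : ∀ Y : R, Y * B * B = 0 := fun Y => by rw [mul_assoc, hBB, mul_zero]
    have hAA_ext : ∀ Y : R, Y * A * A = 0 := fun Y => by rw [mul_assoc, hAA, mul_zero]
    have hα' : ((β * α * β⁻¹ : Rˣ) : R) = 1 + A' := by
      rw [hA']
      simp only [Units.val_mul, hα, hβ, hβinv, mul_add, add_mul, mul_sub, sub_mul, mul_one,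
        one_mul, hBB, hBB_ext, sub_zero, add_zero, zero_add]
      abel
    have hA'2 : A' = (1 + B) * A * (1 - B) := by
      rw [hA']
      simp only [mul_add, add_mul, mul_sub, sub_mul, mul_one, one_mul]
      abel
    have hinvB : (1 - B) * (1 + B) = 1 := by
      rw [sub_mul, one_mul, mul_add, mul_one, hBB, add_zero, add_sub_cancel_right]
    have hA'sq : A' * A' = 0 := by
      rw [hA'2]
      calc (1 + B) * A * (1 - B) * ((1 + B) * A * (1 - B))
          = (1 + B) * A * ((1 - B) * (1 + B)) * A * (1 - B) := by simp only [mul_assoc]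
        _ = 0 := by rw [hinvB, mul_one, mul_assoc (1 + B) A A, hAA, mul_zero, zero_mul]
    have hnew : A * A' + A' * A = -(τ * τ) := by
      rw [hA', hτ]
      simp only [mul_add, add_mul, mul_sub, sub_mul, ← mul_assoc, hAA, hAA_ext, hBB_ext,
        zero_mul, sub_zero, add_zero, zero_add, zero_sub]
      abel
    have hunit' : IsUnit (A * A' + A' * A) := by
      rw [hnew, ← hu]
      exact (u.isUnit.mul u.isUnit).neg
    obtain ⟨x₁, hx₁, y₁, hy₁, B₀, C₀, h1, h2, h3, h4, h5⟩ :=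
      ih (Nat.card ↥H') (lt_of_lt_of_le hlt hcard) α (β * α * β⁻¹) A A' hα hα' hAA hA'sq hunit'
        (by rw [← hH']; exact hfin') (by rw [← hH'])
    rw [← hH'] at hx₁ hy₁
    exact ⟨x₁, hH'H hx₁, y₁, hH'H hy₁, B₀, C₀, h1, h2, h3, h4, h5⟩

end QuadCore

end Cfsg.Agent.Helper1
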