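import Mathlib
import Cfsg.Prelude.Def_Solvable
import Cfsg.Agent.Helper1.Basic

set_option autoImplicit false

namespace Cfsg.Agent.Helper1

open Pointwise

/-- The nonidentity elements lying in some conjugate of `H`. -/
def conjUnion {G : Type*} [Group G] (H : Subgroup G) : Set G :=
  {x : G | x ≠ 1 ∧ ∃ g : G, x ∈ MulAut.conj g • H}

theorem mem_conjUnion {G : Type*} [Group G] {H : Subgroup G} {x : G} :
    x ∈ conjUnion H ↔ x ≠ 1 ∧ ∃ g : G, x ∈ MulAut.conj g • H := Iff.rfl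

/-- If `H` meets its conjugates by outside elements trivially, the nonidentity elements of the
conjugates of `H` number `|G| - [G:H]`. -/
theorem card_conjUnion {G : Type*} [Group G] [Finite G] (H : Subgroup G)
    (hTI : ∀ g : G, g ∉ H → H ⊓ MulAut.conj g • H = ⊥) :
    Nat.card (conjUnion H) + H.index = Nat.card G := by
  classical
  obtain ⟨s, hs⟩ : ∃ s : G ⧸ H → G, ∀ q, (s q : G ⧸ H) = q :=
    ⟨Quotient.out, QuotientGroup.out_eq'⟩
  let φ : (G ⧸ H) × {h : H // h ≠ 1} → conjUnion H :=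
    fun qh => ⟨s qh.1 * ((qh.2.1 : H) : G) * (s qh.1)⁻¹, by
      refine ⟨?_, s qh.1, conj_mem_conj_smul qh.2.1.2⟩
      intro h1
      apply qh.2.2
      exact Subtype.ext (conj_eq_one_iff.mp h1)⟩
  have hinj : Function.Injective φ := by
    rintro ⟨q, h⟩ ⟨q', h'⟩ heq
    have h1 : s q * ((h.1 : H) : G) * (s q)⁻¹ = s q' * ((h'.1 : H) : G) * (s q')⁻¹ :=
      congrArg Subtype.val heq
    have h2 : ((h.1 : H) : G) ∈ H ⊓ MulAut.conj ((s q)⁻¹ * s q') • H := by
      refine Subgroup.mem_inf.mpr ⟨h.1.2, ?_⟩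
      rw [mem_conj_smul]
      have e : ((s q)⁻¹ * s q')⁻¹ * ((h.1 : H) : G) * ((s q)⁻¹ * s q') =
          (s q')⁻¹ * (s q * ((h.1 : H) : G) * (s q)⁻¹) * s q' := by group
      have e2 : (s q')⁻¹ * (s q' * ((h'.1 : H) : G) * (s q')⁻¹) * s q' = ((h'.1 : H) : G) := by
        group
      rw [e, h1, e2]
      exact h'.1.2
    have h3 : (s q)⁻¹ * s q' ∈ H := by
      by_contra hn
      rw [hTI _ hn, Subgroup.mem_bot] at h2
      exact h.2 (Subtype.ext h2)
    have hq : q = q' := by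
      have h4 := QuotientGroup.eq.mpr h3
      rwa [hs, hs] at h4
    subst hq
    have hh : ((h.1 : H) : G) = ((h'.1 : H) : G) := by
      have e : ((h.1 : H) : G) = (s q)⁻¹ * (s q * ((h.1 : H) : G) * (s q)⁻¹) * s q := by group
      have e2 : (s q)⁻¹ * (s q * ((h'.1 : H) : G) * (s q)⁻¹) * s q = ((h'.1 : H) : G) := by group
      rw [e, h1, e2]
    have h5 : h = h' := Subtype.ext (Subtype.ext hh)
    rw [h5]
  have hsurj : Function.Surjective φ := by
    rintro ⟨x, hx1, g, hxg⟩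
    rw [mem_conj_smul] at hxg
    have ha : g⁻¹ * s (g : G ⧸ H) ∈ H := QuotientGroup.eq.mp (hs (g : G ⧸ H)).symm
    have hmem : (s (g : G ⧸ H))⁻¹ * x * s (g : G ⧸ H) ∈ H := by
      have e : (s (g : G ⧸ H))⁻¹ * x * s (g : G ⧸ H) =
          (g⁻¹ * s (g : G ⧸ H))⁻¹ * (g⁻¹ * x * g) * (g⁻¹ * s (g : G ⧸ H)) := by group
      rw [e]
      exact H.mul_mem (H.mul_mem (H.inv_mem ha) hxg) ha
    have hne : (⟨(s (g : G ⧸ H))⁻¹ * x * s (g : G ⧸ H), hmem⟩ : H) ≠ 1 := by
      intro h1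
      apply hx1
      have h2 : (s (g : G ⧸ H))⁻¹ * x * s (g : G ⧸ H) = 1 := congrArg Subtype.val h1
      have e : x = s (g : G ⧸ H) * ((s (g : G ⧸ H))⁻¹ * x * s (g : G ⧸ H)) *
          (s (g : G ⧸ H))⁻¹ := by group
      rw [e, h2]
      group
    refine ⟨⟨(g : G ⧸ H), ⟨⟨(s (g : G ⧸ H))⁻¹ * x * s (g : G ⧸ H), hmem⟩, hne⟩⟩, ?_⟩
    apply Subtype.ext
    show s (g : G ⧸ H) * ((s (g : G ⧸ H))⁻¹ * x * s (g : G ⧸ H)) * (s (g : G ⧸ H))⁻¹ = x
    group
  have hcard := Nat.card_congr (Equiv.ofBijective φ ⟨hinj, hsurj⟩)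
  rw [Nat.card_prod] at hcard
  have h1 : Nat.card {h : H // h ≠ 1} + 1 = Nat.card H := by
    rw [← Finite.card_option]
    exact Nat.card_congr (Equiv.optionSubtypeNe 1)
  have h2 := Subgroup.card_mul_index H
  rw [← hcard, ← h2, ← h1, Subgroup.index_eq_card]
  ring

theorem frobeniusKernel_compl {G : Type*} [Group G] (H : Subgroup G) :
    (Cfsg.frobeniusKernel H)ᶜ = conjUnion H := by
  ext x
  constructor
  · intro hx
    by_contra hcon
    apply hx
    by_cases hx1 : x = 1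
    · exact Or.inl hx1
    · exact Or.inr (fun g hg => hcon ⟨hx1, g, hg⟩)
  · rintro ⟨hx1, g, hg⟩ hK
    rcases hK with h | h
    · exact hx1 h
    · exact h g hg

theorem card_frobeniusKernel {G : Type*} [Group G] [Finite G] (H : Subgroup G)
    (hTI : ∀ g : G, g ∉ H → H ⊓ MulAut.conj g • H = ⊥) :
    Nat.card (Cfsg.frobeniusKernel H) = H.index := by
  have h1 := card_conjUnion H hTI
  have h3 := Set.ncard_add_ncard_compl (Cfsg.frobeniusKernel H)
  rw [frobeniusKernel_compl, ← Nat.card_coe_set_eq, ← Nat.card_coe_set_eq] at h3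
  omega

/-- If `H` meets its conjugates by outside elements trivially then `[G:H] ≡ 1 mod |H|`. -/
theorem index_mod_card {G : Type*} [Group G] [Finite G] (H : Subgroup G)
    (hTI : ∀ g : G, g ∉ H → H ⊓ MulAut.conj g • H = ⊥) :
    H.index % Nat.card H = 1 % Nat.card H := by
  classical
  have hstab : ∀ g : G, g ∉ H → MulAction.stabilizer H (g : G ⧸ H) = ⊥ := by
    intro g hg
    rw [eq_bot_iff]
    intro h hh
    rw [MulAction.mem_stabilizer_iff] at hh
    have h1 : (((h : G) * g : G) : G ⧸ H) = (g : G ⧸ H) := hh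
    have h2 : ((h : G) * g)⁻¹ * g ∈ H := QuotientGroup.eq.mp h1
    have h3 : (h : G)⁻¹ ∈ H ⊓ MulAut.conj g • H := by
      refine Subgroup.mem_inf.mpr ⟨H.inv_mem h.2, ?_⟩
      rw [mem_conj_smul]
      have e : g⁻¹ * (h : G)⁻¹ * g = ((h : G) * g)⁻¹ * g := by group
      rw [e]
      exact h2
    rw [hTI g hg, Subgroup.mem_bot] at h3
    rw [Subgroup.mem_bot]
    exact Subtype.ext (inv_eq_one.mp h3)
  have hstab1 : MulAction.stabilizer H ((1 : G) : G ⧸ H) = ⊤ := by
    rw [eq_top_iff]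
    intro h _
    rw [MulAction.mem_stabilizer_iff]
    have h1 : (((h : G) * 1 : G) : G ⧸ H) = ((1 : G) : G ⧸ H) := by
      rw [QuotientGroup.eq]
      have e : ((h : G) * 1)⁻¹ * 1 = (h : G)⁻¹ := by group
      rw [e]
      exact H.inv_mem h.2
    exact h1
  have := Fintype.ofFinite (Quotient (MulAction.orbitRel H (G ⧸ H)))
  have hcard : H.index = ∑ ω : Quotient (MulAction.orbitRel H (G ⧸ H)),
      (MulAction.stabilizer H ω.out).index := by
    rw [Subgroup.index_eq_card,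
      Nat.card_congr (MulAction.selfEquivSigmaOrbitsQuotientStabilizer H (G ⧸ H)), Nat.card_sigma]
    rfl
  obtain ⟨ω₀, hω₀⟩ : ∃ ω₀ : Quotient (MulAction.orbitRel H (G ⧸ H)),
      ω₀ = Quotient.mk'' ((1 : G) : G ⧸ H) := ⟨_, rfl⟩
  have hout : ∀ ω : Quotient (MulAction.orbitRel H (G ⧸ H)),
      ω.out = ((1 : G) : G ⧸ H) → ω = ω₀ := by
    intro ω h
    rw [hω₀, ← h]
    exact (Quotient.out_eq' ω).symm
  have hout0 : ω₀.out = ((1 : G) : G ⧸ H) := by
    have h1 : (Quotient.mk'' ω₀.out : Quotient (MulAction.orbitRel H (G ⧸ H))) =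
        Quotient.mk'' ((1 : G) : G ⧸ H) := by
      rw [Quotient.out_eq', hω₀]
    have h2 : ω₀.out ∈ MulAction.orbit H ((1 : G) : G ⧸ H) :=
      MulAction.orbitRel_apply.mp (Quotient.exact' h1)
    obtain ⟨h, hh⟩ := h2
    rw [← hh]
    have h3 : h ∈ MulAction.stabilizer H ((1 : G) : G ⧸ H) := by
      rw [hstab1]
      exact Subgroup.mem_top h
    exact MulAction.mem_stabilizer_iff.mp h3
  have hterm : ∀ ω : Quotient (MulAction.orbitRel H (G ⧸ H)), ω ≠ ω₀ →
      (MulAction.stabilizer H ω.out).index = Nat.card H := by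
    intro ω hω
    obtain ⟨g, hg⟩ := QuotientGroup.mk_surjective ω.out
    have hgH : g ∉ H := by
      intro hgH
      apply hω
      apply hout
      rw [← hg]
      rw [QuotientGroup.eq]
      have e : g⁻¹ * 1 = g⁻¹ := by group
      rw [e]
      exact H.inv_mem hgH
    rw [← hg, hstab g hgH, Subgroup.index_bot]
  have hterm0 : (MulAction.stabilizer H ω₀.out).index = 1 := by
    rw [hout0, hstab1, Subgroup.index_top]
  rw [hcard, ← Finset.add_sum_erase Finset.univ _ (Finset.mem_univ ω₀), hterm0]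
  have hsum : ∑ ω ∈ Finset.univ.erase ω₀, (MulAction.stabilizer H ω.out).index =
      (Finset.univ.erase ω₀).card * Nat.card H := by
    rw [Finset.sum_congr rfl (fun ω hω => hterm ω (Finset.ne_of_mem_erase hω)), Finset.sum_const,
      smul_eq_mul]
  rw [hsum, Nat.add_mul_mod_self_right]

end Cfsg.Agent.Helper1
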