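import Mathlib
import Cfsg.Agent.Helper1.Frob
import Cfsg.Agent.Helper2.CharOrtho
import Cfsg.Agent.Helper2.CharNat
import Cfsg.Agent.Helper2.CharReg
import Cfsg.Agent.Helper6.Kernel
import Cfsg.Agent.Helper10.IndLemmas
import Cfsg.Agent.Helper10.VirtualChar
import Cfsg.Agent.Helper25.Frobenius

set_option autoImplicit false

namespace Cfsg.Agent.Helper1

open Cfsg
open scoped ComplexConjugate Pointwise

/-- Induction from a trivial-intersection self-normalising subgroup restricts back to the
original class function, when it vanishes at the identity. -/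
theorem indFun_apply_of_frob {G : Type*} [Group G] [Fintype G] (H : Subgroup G)
    (hTI : ∀ g : G, g ∉ H → H ⊓ MulAut.conj g • H = ⊥) (θ : H → ℂ)
    (hθ : IsClassFunction H θ) (hθ1 : θ 1 = 0) (h : H) :
    indFun H θ (h : G) = θ h := by
  classical
  by_cases h1 : h = 1
  · subst h1
    rw [Helper2.indFun_apply, hθ1]
    have hterm : ∀ x : G, extendByZero H θ (x⁻¹ * ((1 : H) : G) * x) = 0 := by
      intro x
      have e : x⁻¹ * ((1 : H) : G) * x = ((1 : H) : G) := by
        rw [Subgroup.coe_one]; group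
      rw [e, Helper2.extendByZero_apply_coe, hθ1]
    rw [Finset.sum_congr rfl (fun x _ => hterm x), Finset.sum_const_zero, mul_zero]
  · have hterm : ∀ x : G, extendByZero H θ (x⁻¹ * (h : G) * x) =
        if x ∈ H then θ h else 0 := by
      intro x
      by_cases hx : x ∈ H
      · rw [if_pos hx]
        have hm : x⁻¹ * (h : G) * x ∈ H := H.mul_mem (H.mul_mem (H.inv_mem hx) h.2) hx
        rw [Helper2.extendByZero_apply_mem H θ hm]
        have e : (⟨x⁻¹ * (h : G) * x, hm⟩ : H) =
            (⟨x, hx⟩ : H)⁻¹ * h * ((⟨x, hx⟩ : H)⁻¹)⁻¹ := by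
          apply Subtype.ext
          simp
        rw [e]
        exact hθ h (⟨x, hx⟩ : H)⁻¹
      · rw [if_neg hx]
        apply Helper2.extendByZero_apply_not_mem
        intro hm
        have h2 : (h : G) ∈ H ⊓ MulAut.conj x • H := by
          refine Subgroup.mem_inf.mpr ⟨h.2, ?_⟩
          rw [mem_conj_smul]
          exact hm
        rw [hTI x hx, Subgroup.mem_bot] at h2
        exact h1 (Subtype.ext h2)
    rw [Helper2.indFun_apply, Finset.sum_congr rfl (fun x _ => hterm x), Finset.sum_ite,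
      Finset.sum_const, Finset.sum_const_zero, add_zero, nsmul_eq_mul]
    have hcard : ((Finset.univ.filter (fun x : G => x ∈ H)).card : ℂ) = (Nat.card H : ℂ) := by
      rw [Nat.card_eq_fintype_card, Fintype.card_subtype]
    rw [hcard]
    have hne : (Nat.card H : ℂ) ≠ 0 := by exact_mod_cast Nat.card_pos.ne'
    field_simp

/-- An induced function vanishes at elements lying in no conjugate of the subgroup. -/
theorem indFun_apply_of_not_conj {G : Type*} [Group G] [Fintype G] (H : Subgroup G) (θ : H → ℂ)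
    (g : G) (hg : ∀ x : G, g ∉ MulAut.conj x • H) : indFun H θ g = 0 := by
  rw [Helper2.indFun_apply]
  have hterm : ∀ x : G, extendByZero H θ (x⁻¹ * g * x) = 0 := by
    intro x
    apply Helper2.extendByZero_apply_not_mem
    intro hm
    exact hg x (mem_conj_smul.mpr hm)
  rw [Finset.sum_congr rfl (fun x _ => hterm x), Finset.sum_const_zero, mul_zero]

/-- Every nonprincipal irreducible character of a Frobenius complement extends to an irreducible
character of the group which is constant on the Frobenius kernel. -/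
theorem frob_extend {G : Type*} [Group G] [Fintype G] (H : Subgroup G)
    (hTI : ∀ g : G, g ∉ H → H ⊓ MulAut.conj g • H = ⊥) (ϕ : H → ℂ)
    (hϕ : IsIrrCharacter H ϕ) (hϕ1 : ϕ ≠ fun _ => (1 : ℂ)) :
    ∃ χ : G → ℂ, IsIrrCharacter G χ ∧ (∀ h : H, χ (h : G) = ϕ h) ∧
      ∀ g : G, (∀ x : G, g ∉ MulAut.conj x • H) → χ g = χ 1 := by
  classical
  haveI : Fintype H := Fintype.ofFinite H
  have hϕc : IsCharacter H ϕ := Helper24.isCharacter_of_irr hϕ
  obtain ⟨n, hn⟩ : ∃ n : ℕ, ϕ 1 = (n : ℂ) := ⟨_, Helper24.charDegree_spec hϕc⟩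
  have hcn : conj (n : ℂ) = (n : ℂ) := Complex.conj_natCast n
  have hcn' : conj (-(n : ℂ)) = -(n : ℂ) := by rw [map_neg, hcn]
  obtain ⟨θ, hθdef⟩ : ∃ θ : H → ℂ, θ = ϕ + (-(n : ℂ)) • (fun _ : H => (1 : ℂ)) := ⟨_, rfl⟩
  have hθapp : ∀ h : H, θ h = ϕ h - (n : ℂ) := by
    intro h
    rw [hθdef]
    simp [sub_eq_add_neg]
  have hθ1 : θ 1 = 0 := by rw [hθapp, hn, sub_self]
  have hθcf : IsClassFunction H θ := by
    intro g h
    rw [hθapp, hθapp, Helper2.IsCharacter.isClassFunction hϕc g h]
  obtain ⟨I, hIdef⟩ : ∃ I : G → ℂ, I = indFun H θ := ⟨_, rfl⟩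
  have hIcf : IsClassFunction G I := by rw [hIdef]; exact Helper2.isClassFunction_indFun H θ
  have hIH : ∀ h : H, I (h : G) = θ h := fun h => by
    rw [hIdef]; exact indFun_apply_of_frob H hTI θ hθcf hθ1 h
  obtain ⟨ψ, hψdef⟩ : ∃ ψ : G → ℂ, ψ = I + (n : ℂ) • (fun _ : G => (1 : ℂ)) := ⟨_, rfl⟩
  have hψapp : ∀ g : G, ψ g = I g + (n : ℂ) := by
    intro g
    rw [hψdef]
    simp
  -- inner products on `H`
  have h11H : classInner (fun _ : H => (1 : ℂ)) (fun _ : H => (1 : ℂ)) = 1 := by
    rw [Helper2.classInner_irr Helper25.isIrrCharacter_one Helper25.isIrrCharacter_one, if_pos rfl]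
  have hϕ1H : classInner ϕ (fun _ : H => (1 : ℂ)) = 0 := by
    rw [Helper2.classInner_irr hϕ Helper25.isIrrCharacter_one, if_neg hϕ1]
  have h1ϕH : classInner (fun _ : H => (1 : ℂ)) ϕ = 0 := by
    rw [Helper2.classInner_irr Helper25.isIrrCharacter_one hϕ, if_neg (Ne.symm hϕ1)]
  have hϕϕ : classInner ϕ ϕ = 1 := by
    rw [Helper2.classInner_irr hϕ hϕ, if_pos rfl]
  have hθθ : classInner θ θ = 1 + (n : ℂ) ^ 2 := by
    rw [hθdef, Helper2.classInner_add_left, Helper2.classInner_add_right,
      Helper2.classInner_add_right, Helper2.classInner_smul_left, Helper2.classInner_smul_left,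
      Helper2.classInner_smul_right, Helper2.classInner_smul_right, hϕϕ, hϕ1H, h1ϕH, h11H, hcn']
    ring
  have hθ1' : classInner θ (fun _ : H => (1 : ℂ)) = -(n : ℂ) := by
    rw [hθdef, Helper2.classInner_add_left, Helper2.classInner_smul_left, hϕ1H, h11H]
    ring
  -- inner products on `G`
  have hres : (fun h : H => I (h : G)) = θ := funext hIH
  have hII : classInner I I = 1 + (n : ℂ) ^ 2 := by
    have hrec := Helper2.frobenius_reciprocity H θ I hIcf
    rw [← hIdef, hres, hθθ] at hrec
    exact hrec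
  have h1cf : IsClassFunction G (fun _ : G => (1 : ℂ)) := fun _ _ => rfl
  have hI1 : classInner I (fun _ : G => (1 : ℂ)) = -(n : ℂ) := by
    have hrec := Helper2.frobenius_reciprocity H θ (fun _ : G => (1 : ℂ)) h1cf
    rw [← hIdef, hθ1'] at hrec
    exact hrec
  have h1I : classInner (fun _ : G => (1 : ℂ)) I = -(n : ℂ) := by
    rw [← Helper2.classInner_conj_symm, hI1, hcn']
  have h11G : classInner (fun _ : G => (1 : ℂ)) (fun _ : G => (1 : ℂ)) = 1 := by
    rw [Helper2.classInner_irr Helper25.isIrrCharacter_one Helper25.isIrrCharacter_one, if_pos rfl]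
  have hψψ : classInner ψ ψ = 1 := by
    rw [hψdef, Helper2.classInner_add_left, Helper2.classInner_add_right,
      Helper2.classInner_add_right, Helper2.classInner_smul_left, Helper2.classInner_smul_left,
      Helper2.classInner_smul_right, Helper2.classInner_smul_right, hII, hI1, h1I, h11G, hcn]
    ring
  have hgen : IsGeneralizedCharacter G ψ := by
    refine ⟨indFun H ϕ + n • (fun _ : G => (1 : ℂ)), n • indFun H (fun _ : H => (1 : ℂ)),
      Helper2.IsCharacter.add (Helper2.isCharacter_indFun H hϕc)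
        (Helper2.IsCharacter.nsmul Helper2.isCharacter_one n),
      Helper2.IsCharacter.nsmul (Helper2.isCharacter_indFun H Helper2.isCharacter_one) n, ?_⟩
    rw [hψdef, hIdef, hθdef, Helper10.indFun_add, Helper10.indFun_smul]
    funext g
    simp only [Pi.add_apply, Pi.sub_apply, Pi.smul_apply, smul_eq_mul, nsmul_eq_mul,
      Pi.mul_apply, Pi.natCast_apply]
    ring
  obtain ⟨χ, e, hχ, he, hψχ⟩ := Helper10.gen_norm_one hgen hψψ
  have hψ1 : ψ 1 = (n : ℂ) := by
    have h1 := hIH 1
    rw [hθ1] at h1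
    rw [hψapp, ← Subgroup.coe_one H, h1, zero_add]
  have hm := Helper24.charDegree_spec (Helper24.isCharacter_of_irr hχ)
  have hmpos := Helper24.irr_degree_pos hχ
  have he1 : e = 1 := by
    rcases he with h | h
    · exact h
    · exfalso
      have h5 := congrFun hψχ 1
      rw [hψ1, h, Pi.smul_apply, hm, smul_eq_mul] at h5
      have h6 : ((n + charDegree χ : ℕ) : ℂ) = 0 := by
        push_cast
        rw [h5]; push_cast; ring
      have h7 : n + charDegree χ = 0 := by exact_mod_cast h6
      omega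
  have hψirr : IsIrrCharacter G ψ := by
    rw [hψχ, he1, Complex.ofReal_one, one_smul]
    exact hχ
  refine ⟨ψ, hψirr, ?_, ?_⟩
  · intro h
    rw [hψapp, hIH, hθapp, sub_add_cancel]
  · intro g hg
    rw [hψ1, hψapp, hIdef, indFun_apply_of_not_conj H θ g hg, zero_add]

/-- Irreducible characters separate nonidentity elements from the identity. -/
theorem exists_irr_ne {H : Type*} [Group H] [Finite H] (x : H) (hx : x ≠ 1) :
    ∃ ϕ : H → ℂ, IsIrrCharacter H ϕ ∧ ϕ x ≠ ϕ 1 := by
  classical
  haveI : Fintype H := Fintype.ofFinite H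
  haveI : Finite (IrrCharacter H) := Helper24.finite_irrCharacter
  haveI : Fintype (IrrCharacter H) := Fintype.ofFinite _
  by_contra hcon
  push_neg at hcon
  have h1 := Helper2.second_orthogonality (G := H) x 1
  have hnc : ¬ IsConj x 1 := by
    rw [isConj_one_left]; exact hx
  rw [if_neg hnc] at h1
  have h2 : ∑ χ : IrrCharacter H, (χ : H → ℂ) x * conj ((χ : H → ℂ) 1) =
      ∑ χ : IrrCharacter H, (χ : H → ℂ) 1 * (χ : H → ℂ) 1 := by
    refine Finset.sum_congr rfl fun χ _ => ?_
    rw [hcon χ χ.2, Helper2.irr_apply_one_conj (Helper24.isCharacter_of_irr χ.2)]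
  rw [h2, Helper2.sum_degree_sq] at h1
  have hne : (Nat.card H : ℂ) ≠ 0 := by exact_mod_cast Nat.card_pos.ne'
  exact hne h1

/-- Intersection of the kernels of a family of irreducible characters. -/
def charKerInf {G : Type*} [Group G] [Finite G] (P : (G → ℂ) → Prop) : Subgroup G where
  carrier := {g | ∀ χ, IsIrrCharacter G χ → P χ → χ g = χ 1}
  one_mem' := fun χ _ _ => rfl
  mul_mem' := by
    intro a b ha hb χ hχ hP
    have h1 := Helper6.char_mul_of_eq_degree (Helper24.isCharacter_of_irr hχ) (ha χ hχ hP) b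
    rw [h1]; exact hb χ hχ hP
  inv_mem' := by
    intro a ha χ hχ hP
    have h1 := Helper6.char_mul_of_eq_degree (Helper24.isCharacter_of_irr hχ) (ha χ hχ hP) a⁻¹
    rw [mul_inv_cancel] at h1
    exact h1.symm

theorem mem_charKerInf {G : Type*} [Group G] [Finite G] {P : (G → ℂ) → Prop} {g : G} :
    g ∈ charKerInf P ↔ ∀ χ, IsIrrCharacter G χ → P χ → χ g = χ 1 := Iff.rfl

theorem charKerInf_normal {G : Type*} [Group G] [Finite G] (P : (G → ℂ) → Prop) :
    (charKerInf P).Normal := by
  constructor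
  intro a ha g
  rw [mem_charKerInf] at ha ⊢
  intro χ hχ hP
  rw [Helper2.IsCharacter.isClassFunction (Helper24.isCharacter_of_irr hχ) a g]
  exact ha χ hχ hP

/-- **Frobenius' theorem**: the Frobenius kernel is a normal subgroup complementing `H`. -/
theorem frobenius_kernel_subgroup {G : Type*} [Group G] [Finite G] (H : Subgroup G)
    (hTI : ∀ g : G, g ∉ H → H ⊓ MulAut.conj g • H = ⊥) :
    ∃ N : Subgroup G, (N : Set G) = Cfsg.frobeniusKernel H ∧ N.Normal ∧
      Subgroup.IsComplement' N H := by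
  classical
  haveI : Fintype G := Fintype.ofFinite G
  obtain ⟨M, hMdef⟩ : ∃ M : Subgroup G, M = charKerInf
      (fun χ : G → ℂ => ∀ g : G, (∀ x : G, g ∉ MulAut.conj x • H) → χ g = χ 1) := ⟨_, rfl⟩
  have hMmem : ∀ g : G, g ∈ M ↔ ∀ χ : G → ℂ, IsIrrCharacter G χ →
      (∀ g : G, (∀ x : G, g ∉ MulAut.conj x • H) → χ g = χ 1) → χ g = χ 1 := by
    intro g
    rw [hMdef]
    exact mem_charKerInf
  have hMn : M.Normal := by rw [hMdef]; exact charKerInf_normal _
  have hMH : ∀ x, x ∈ M → x ∈ H → x = 1 := by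
    intro x hxM hxH
    by_contra hx1
    have hx1' : (⟨x, hxH⟩ : H) ≠ 1 := fun h => hx1 (congrArg Subtype.val h)
    obtain ⟨ϕ, hϕ, hϕx⟩ := exists_irr_ne (⟨x, hxH⟩ : H) hx1'
    have hϕ1 : ϕ ≠ fun _ => (1 : ℂ) := by
      intro h
      apply hϕx
      rw [h]
    obtain ⟨χ, hχ, hχH, hχK⟩ := frob_extend H hTI ϕ hϕ hϕ1
    have h1 := (hMmem x).mp hxM χ hχ hχK
    apply hϕx
    have h2 := hχH ⟨x, hxH⟩
    have h3 := hχH 1
    rw [← h2, ← h3]
    exact h1
  have hMK : (M : Set G) = Cfsg.frobeniusKernel H := by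
    ext m
    constructor
    · intro hm
      by_contra hK
      have hm1 : m ≠ 1 := fun h => hK (Or.inl h)
      have hex : ∃ g : G, m ∈ MulAut.conj g • H := by
        by_contra hne
        push_neg at hne
        exact hK (Or.inr hne)
      obtain ⟨g, hg⟩ := hex
      rw [mem_conj_smul] at hg
      have h1 : g⁻¹ * m * g ∈ M := by
        have h0 := hMn.conj_mem m hm g⁻¹
        rwa [inv_inv] at h0
      have h2 := hMH _ h1 hg
      apply hm1
      have e : m = g * (g⁻¹ * m * g) * g⁻¹ := by group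
      rw [e, h2]; group
    · intro hm
      rcases hm with rfl | hm
      · exact M.one_mem
      · exact (hMmem m).mpr (fun χ _ hP => hP m hm)
  refine ⟨M, hMK, hMn, ?_⟩
  apply Subgroup.isComplement'_of_card_mul_and_disjoint
  · have h1 : Nat.card M = H.index := by
      rw [← card_frobeniusKernel H hTI, ← hMK]
      rfl
    rw [h1, mul_comm]
    exact Subgroup.card_mul_index H
  · rw [Subgroup.disjoint_def]
    intro x hxM hxH
    exact hMH x hxM hxH

end Cfsg.Agent.Helper1
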