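import Mathlib
import Cfsg.Agent.Helper1.QuadCore
import Cfsg.Agent.Helper10.GL2Odd
import Cfsg.Agent.Helper2.SLGen

set_option autoImplicit false

namespace Cfsg.Agent.Helper1

section Dickson

/-- If `x - 1` and `y - 1` commute then so do `x` and `y`. -/
theorem comm_of_sub_one_comm {R : Type*} [Ring R] (x y : R)
    (h : (x - 1) * (y - 1) = (y - 1) * (x - 1)) : x * y = y * x := by
  have e : x * y = (x - 1) * (y - 1) + x + y - 1 := by noncomm_ring
  have e' : y * x = (y - 1) * (x - 1) + x + y - 1 := by noncomm_ring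
  rw [e, e', h]

variable {F : Type*} [Field F]

/-- A square-zero `2 × 2` matrix over a field has trace zero and determinant zero. -/
theorem sq_zero_two (A : Matrix (Fin 2) (Fin 2) F) (hA : A * A = 0) :
    A 1 1 = - A 0 0 ∧ A 0 0 * A 0 0 + A 0 1 * A 1 0 = 0 := by
  have key : ∀ i j : Fin 2, A i 0 * A 0 j + A i 1 * A 1 j = 0 := by
    intro i j
    have h := Matrix.ext_iff.mpr hA i j
    rw [Matrix.mul_apply, Fin.sum_univ_two] at h
    exact h
  have h00 := key 0 0
  have h01 := key 0 1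
  have h11 := key 1 1
  refine ⟨?_, h00⟩
  by_cases ht : A 0 0 + A 1 1 = 0
  · linear_combination ht
  · exfalso
    have h1 : A 0 1 * (A 0 0 + A 1 1) = 0 := by linear_combination h01
    have h2 : A 0 1 = 0 := by
      rcases mul_eq_zero.mp h1 with h | h
      · exact h
      · exact absurd h ht
    have h3 : A 0 0 = 0 := by
      have h' : A 0 0 * A 0 0 = 0 := by rw [h2] at h00; simpa using h00
      exact mul_self_eq_zero.mp h'
    have h4 : A 1 1 = 0 := by
      have h' : A 1 1 * A 1 1 = 0 := by rw [h2] at h11; simpa using h11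
      exact mul_self_eq_zero.mp h'
    exact ht (by rw [h3, h4, add_zero])

/-- Two non-commuting square-zero `2 × 2` matrices over a field have an invertible
anticommutator. -/
theorem sq_zero_pair_isUnit (A B : Matrix (Fin 2) (Fin 2) F) (hA : A * A = 0) (hB : B * B = 0)
    (hne : A * B ≠ B * A) : IsUnit (A * B + B * A) := by
  obtain ⟨hA1, hA0⟩ := sq_zero_two A hA
  obtain ⟨hB1, hB0⟩ := sq_zero_two B hB
  have hAB : ∀ i j : Fin 2, (A * B) i j = A i 0 * B 0 j + A i 1 * B 1 j := fun i j => by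
    rw [Matrix.mul_apply, Fin.sum_univ_two]
  have hBA : ∀ i j : Fin 2, (B * A) i j = B i 0 * A 0 j + B i 1 * A 1 j := fun i j => by
    rw [Matrix.mul_apply, Fin.sum_univ_two]
  obtain ⟨τ, hτ⟩ : ∃ τ : F, τ = 2 * A 0 0 * B 0 0 + A 0 1 * B 1 0 + A 1 0 * B 0 1 := ⟨_, rfl⟩
  have h00s : (A * B + B * A) 0 0 = τ := by
    rw [Matrix.add_apply, hAB, hBA, hτ]; ring
  have h01s : (A * B + B * A) 0 1 = 0 := by
    rw [Matrix.add_apply, hAB, hBA, hA1, hB1]; ring
  have h10s : (A * B + B * A) 1 0 = 0 := by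
    rw [Matrix.add_apply, hAB, hBA, hA1, hB1]; ring
  have h11s : (A * B + B * A) 1 1 = τ := by
    rw [Matrix.add_apply, hAB, hBA, hA1, hB1, hτ]; ring
  have hτ0 : τ ≠ 0 := by
    intro h0
    have hτ' : 2 * A 0 0 * B 0 0 + A 0 1 * B 1 0 + A 1 0 * B 0 1 = 0 := by rw [← hτ]; exact h0
    have e1 : A 0 0 * B 0 1 - A 0 1 * B 0 0 = 0 := by
      have h' : (A 0 0 * B 0 1 - A 0 1 * B 0 0) * (A 0 0 * B 0 1 - A 0 1 * B 0 0) = 0 := by
        linear_combination (B 0 1) ^ 2 * hA0 + (A 0 1) ^ 2 * hB0 - A 0 1 * B 0 1 * hτ'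
      exact mul_self_eq_zero.mp h'
    have e2 : A 1 0 * B 0 0 - A 0 0 * B 1 0 = 0 := by
      have h' : (A 1 0 * B 0 0 - A 0 0 * B 1 0) * (A 1 0 * B 0 0 - A 0 0 * B 1 0) = 0 := by
        linear_combination (A 1 0) ^ 2 * hB0 + (B 1 0) ^ 2 * hA0 - A 1 0 * B 1 0 * hτ'
      exact mul_self_eq_zero.mp h'
    have e3 : A 0 1 * B 1 0 - A 1 0 * B 0 1 = 0 := by
      have h' : (A 0 1 * B 1 0 - A 1 0 * B 0 1) * (A 0 1 * B 1 0 - A 1 0 * B 0 1) = 0 := by
        linear_combination (A 0 1 * B 1 0 + A 1 0 * B 0 1 - 2 * A 0 0 * B 0 0) * hτ'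
          + 4 * (B 0 0) ^ 2 * hA0 - 4 * (A 0 1 * A 1 0) * hB0
      exact mul_self_eq_zero.mp h'
    apply hne
    have h00 : (A * B) 0 0 = (B * A) 0 0 := by rw [hAB, hBA]; linear_combination e3
    have h01 : (A * B) 0 1 = (B * A) 0 1 := by
      rw [hAB, hBA, hA1, hB1]; linear_combination 2 * e1
    have h10 : (A * B) 1 0 = (B * A) 1 0 := by
      rw [hAB, hBA, hA1, hB1]; linear_combination 2 * e2
    have h11 : (A * B) 1 1 = (B * A) 1 1 := by
      rw [hAB, hBA, hA1, hB1]; linear_combination -e3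
    ext i j
    revert i j
    simp only [Fin.forall_fin_two]
    exact ⟨⟨h00, h01⟩, h10, h11⟩
  rw [Matrix.isUnit_iff_isUnit_det, Matrix.det_fin_two, h00s, h01s, h10s, h11s]
  simpa using hτ0

/-- A pair of "matrix units" `B = E₂₁`, `C = E₁₂` in `M₂(F)` is conjugate to the standard one. -/
theorem matrix_units_conj (B C : Matrix (Fin 2) (Fin 2) F) (hCC : C * C = 0)
    (hBB : B * B = 0) (hBC : B * C + C * B = 1) :
    ∃ g h : Matrix (Fin 2) (Fin 2) F, g * h = 1 ∧ h * g = 1 ∧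
      C * g = g * Matrix.single 0 1 1 ∧ B * g = g * Matrix.single 1 0 1 := by
  have h01 : (0 : Fin 2) ≠ 1 := by decide
  have h10 : (1 : Fin 2) ≠ 0 := by decide
  have hCBC : C * B * C = C := by
    have h1 : C * (B * C + C * B) = C := by rw [hBC, mul_one]
    rw [mul_add, ← mul_assoc, ← mul_assoc, hCC, zero_mul, add_zero] at h1
    exact h1
  have hC0 : C ≠ 0 := by
    intro h0
    rw [h0, mul_zero, zero_mul, add_zero] at hBC
    exact zero_ne_one hBC
  obtain ⟨i₀, j₀, hc⟩ : ∃ i₀ j₀, C i₀ j₀ ≠ 0 := by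
    by_contra hcon
    apply hC0
    apply Matrix.ext
    intro i j
    by_contra hij
    exact hcon ⟨i, j, fun h => hij (h.trans rfl)⟩
  have hCC' : ∀ Y : Matrix (Fin 2) (Fin 2) F, Y * C * C = 0 := fun Y => by
    rw [mul_assoc, hCC, mul_zero]
  have hBB' : ∀ Y : Matrix (Fin 2) (Fin 2) F, Y * B * B = 0 := fun Y => by
    rw [mul_assoc, hBB, mul_zero]
  have hCBC' : ∀ Y : Matrix (Fin 2) (Fin 2) F, Y * C * B * C = Y * C := fun Y => by
    rw [mul_assoc, mul_assoc, ← mul_assoc C B C, hCBC]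
  have hhg : ((C i₀ j₀)⁻¹ • (Matrix.single (0 : Fin 2) i₀ (1 : F) * C * B +
        Matrix.single (1 : Fin 2) i₀ (1 : F) * C)) *
      (C * Matrix.single j₀ (0 : Fin 2) (1 : F) + B * C * Matrix.single j₀ (1 : Fin 2) (1 : F))
        = 1 := by
    rw [Matrix.smul_mul]
    simp only [mul_add, add_mul, ← mul_assoc, hCC', hBB', hCBC', zero_mul, add_zero, zero_add,
      Matrix.single_mul_mul_single, one_mul, mul_one]
    ext i j
    fin_cases i <;> fin_cases j <;> simp [Matrix.single_apply, Matrix.one_apply, hc]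
  have k1 : C * (C * Matrix.single j₀ (0 : Fin 2) (1 : F) +
      B * C * Matrix.single j₀ (1 : Fin 2) (1 : F)) = C * Matrix.single j₀ (1 : Fin 2) (1 : F) := by
    rw [mul_add, ← mul_assoc C C, hCC, zero_mul, zero_add, ← mul_assoc C (B * C),
      ← mul_assoc C B C, hCBC]
  have k1' : (C * Matrix.single j₀ (0 : Fin 2) (1 : F) +
      B * C * Matrix.single j₀ (1 : Fin 2) (1 : F)) * Matrix.single (0 : Fin 2) (1 : Fin 2) (1 : F)
        = C * Matrix.single j₀ (1 : Fin 2) (1 : F) := by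
    simp only [add_mul, mul_assoc, Matrix.single_mul_single_same,
      Matrix.single_mul_single_of_ne _ _ _ _ h10, mul_zero, add_zero, mul_one]
  have k2 : B * (C * Matrix.single j₀ (0 : Fin 2) (1 : F) +
      B * C * Matrix.single j₀ (1 : Fin 2) (1 : F)) =
        B * C * Matrix.single j₀ (0 : Fin 2) (1 : F) := by
    rw [mul_add, ← mul_assoc B C, ← mul_assoc B (B * C), ← mul_assoc B B C, hBB, zero_mul,
      zero_mul, add_zero]
  have k2' : (C * Matrix.single j₀ (0 : Fin 2) (1 : F) +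
      B * C * Matrix.single j₀ (1 : Fin 2) (1 : F)) * Matrix.single (1 : Fin 2) (0 : Fin 2) (1 : F)
        = B * C * Matrix.single j₀ (0 : Fin 2) (1 : F) := by
    simp only [add_mul, mul_assoc, Matrix.single_mul_single_same,
      Matrix.single_mul_single_of_ne _ _ _ _ h01, mul_zero, zero_add, mul_one]
  exact ⟨_, _, mul_eq_one_comm.mp hhg, hhg, k1.trans k1'.symm, k2.trans k2'.symm⟩

/-- Transvections with integer coefficient are powers of the elementary one. -/
theorem sl_transvection_natCast {R : Type*} [CommRing R] {i j : Fin 2} (hij : i ≠ j) (k : ℕ) :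
    Matrix.SpecialLinearGroup.transvection hij ((k : R)) =
      (Matrix.SpecialLinearGroup.transvection hij (1 : R)) ^ k := by
  induction k with
  | zero =>
    rw [Nat.cast_zero, pow_zero]
    exact Matrix.SpecialLinearGroup.transvection_coeff_zero hij
  | succ k ih =>
    rw [Nat.cast_succ, Matrix.SpecialLinearGroup.transvection_add, ih, pow_succ]

/-- **Dickson's theorem for `SL₂`** (the part needed here): a subgroup of `SL₂(F)`, `F` a finite
field of odd characteristic `p`, with more than one Sylow `p`-subgroup contains a copy of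
`SL₂(p)`. -/
theorem dickson_sl2 [Fintype F] (p : ℕ) [Fact p.Prime] [CharP F p] (hp : p ≠ 2)
    (H : Subgroup (Matrix.SpecialLinearGroup (Fin 2) F))
    (hH : 1 < Nat.card (Sylow p H)) :
    ∃ K : Subgroup (Matrix.SpecialLinearGroup (Fin 2) F), K ≤ H ∧
      Nonempty (K ≃* Matrix.SpecialLinearGroup (Fin 2) (ZMod p)) := by
  classical
  have hpp : p.Prime := Fact.out
  haveI : NeZero p := ⟨hpp.ne_zero⟩
  have hodd : Odd p := hpp.odd_of_ne_two hp
  haveI : Finite (Sylow p H) := Nat.finite_of_card_ne_zero (by omega)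
  obtain ⟨P₁, P₂, hP⟩ : ∃ P₁ P₂ : Sylow p H, P₁ ≠ P₂ := by
    haveI : Nontrivial (Sylow p H) := Finite.one_lt_card_iff_nontrivial.mp hH
    exact exists_pair_ne _
  obtain ⟨a, ha, b, hb, hab⟩ : ∃ a ∈ (P₁ : Subgroup H), ∃ b ∈ (P₂ : Subgroup H),
      a * b ≠ b * a := by
    by_contra hcon
    have hcomm : ∀ a ∈ (P₁ : Subgroup H), ∀ b ∈ (P₂ : Subgroup H), a * b = b * a := by
      intro a ha b hb
      by_contra hne
      exact hcon ⟨a, ha, b, hb, hne⟩
    have hle : (P₂ : Subgroup H) ≤ Subgroup.normalizer ((P₁ : Subgroup H) : Set H) := by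
      intro b hb
      exact Subgroup.centralizer_le_normalizer _
        (Subgroup.mem_centralizer_iff.mpr (fun a ha => hcomm a ha b hb))
    have hsup : IsPGroup p ((P₂ : Subgroup H) ⊔ (P₁ : Subgroup H) : Subgroup H) :=
      IsPGroup.to_sup_of_normal_right' P₂.isPGroup' P₁.isPGroup' hle
    have h1 : (P₂ : Subgroup H) ⊔ (P₁ : Subgroup H) = P₁ := P₁.is_maximal' hsup le_sup_right
    have h2 : (P₂ : Subgroup H) ⊔ (P₁ : Subgroup H) = P₂ := P₂.is_maximal' hsup le_sup_left
    exact hP (Sylow.ext (h1.symm.trans h2))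
  -- the embedding into the unit group of the matrix ring
  obtain ⟨ι, hι⟩ : ∃ ι : ↥H →* (Matrix (Fin 2) (Fin 2) F)ˣ,
      ι = (Matrix.SpecialLinearGroup.toGL).comp H.subtype := ⟨_, rfl⟩
  have hιinj : Function.Injective ι := by
    rw [hι, MonoidHom.coe_comp]
    exact Matrix.SpecialLinearGroup.toGL_injective.comp H.subtype_injective
  have hunip : ∀ (P : Sylow p H) (a : ↥H), a ∈ (P : Subgroup H) →
      ((ι a : Matrix (Fin 2) (Fin 2) F) - 1) * ((ι a : Matrix (Fin 2) (Fin 2) F) - 1) = 0 := by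
    intro P a ha
    obtain ⟨k, hk⟩ := P.isPGroup' ⟨a, ha⟩
    have hk' : a ^ p ^ k = 1 := by
      have h := congrArg Subtype.val hk
      simpa using h
    have hk2 : (ι a : Matrix (Fin 2) (Fin 2) F) ^ p ^ k = 1 := by
      rw [← Units.val_pow_eq_pow_val, ← map_pow, hk', map_one, Units.val_one]
    apply Helper10.gl2_nilpotent_sq _ (p ^ k)
    rw [sub_pow_char_pow_of_commute p k (Commute.one_right _), hk2, one_pow, sub_self]
  obtain ⟨α, hα⟩ : ∃ α : (Matrix (Fin 2) (Fin 2) F)ˣ, α = ι a := ⟨_, rfl⟩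
  obtain ⟨β, hβ⟩ : ∃ β : (Matrix (Fin 2) (Fin 2) F)ˣ, β = ι b := ⟨_, rfl⟩
  have hAA : ((α : Matrix (Fin 2) (Fin 2) F) - 1) * ((α : Matrix (Fin 2) (Fin 2) F) - 1) = 0 := by
    rw [hα]; exact hunip P₁ a ha
  have hBB : ((β : Matrix (Fin 2) (Fin 2) F) - 1) * ((β : Matrix (Fin 2) (Fin 2) F) - 1) = 0 := by
    rw [hβ]; exact hunip P₂ b hb
  have hABne : ((α : Matrix (Fin 2) (Fin 2) F) - 1) * ((β : Matrix (Fin 2) (Fin 2) F) - 1) ≠
      ((β : Matrix (Fin 2) (Fin 2) F) - 1) * ((α : Matrix (Fin 2) (Fin 2) F) - 1) := by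
    intro h
    apply hab
    apply hιinj
    rw [map_mul, map_mul, ← hα, ← hβ]
    apply Units.ext
    rw [Units.val_mul, Units.val_mul]
    exact comm_of_sub_one_comm _ _ h
  have hunit := sq_zero_pair_isUnit _ _ hAA hBB hABne
  have hpR : ((p : ℕ) : Matrix (Fin 2) (Fin 2) F) = 0 := CharP.cast_eq_zero _ p
  obtain ⟨T, hT⟩ : ∃ T : Subgroup (Matrix (Fin 2) (Fin 2) F)ˣ,
      T = Subgroup.closure {α, β} := ⟨_, rfl⟩
  obtain ⟨x₀, hx₀, y₀, hy₀, B₀, C₀, hB₀, hC₀, hBC₀, hx₀v, hy₀v⟩ :=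
    quad_pair_exists hodd hpR
      (Nat.card ↥(Subgroup.closure ({α, β} : Set (Matrix (Fin 2) (Fin 2) F)ˣ))) α β
      ((α : Matrix (Fin 2) (Fin 2) F) - 1) ((β : Matrix (Fin 2) (Fin 2) F) - 1)
      (by abel) (by abel) hAA hBB hunit inferInstance le_rfl
  rw [← hT] at hx₀ hy₀
  -- base change to the standard matrix units
  obtain ⟨g, h, hgh, hhg, hCg, hBg⟩ := matrix_units_conj B₀ C₀ hC₀ hB₀ hBC₀
  obtain ⟨gu, hgu⟩ : ∃ gu : (Matrix (Fin 2) (Fin 2) F)ˣ, gu = ⟨g, h, hgh, hhg⟩ := ⟨_, rfl⟩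
  obtain ⟨f, hf⟩ : ∃ f : ZMod p →+* F, f = ZMod.castHom (dvd_refl p) F := ⟨_, rfl⟩
  obtain ⟨Ψ, hΨ⟩ : ∃ Ψ : Matrix.SpecialLinearGroup (Fin 2) (ZMod p) →*
      (Matrix (Fin 2) (Fin 2) F)ˣ,
      Ψ = (MulAut.conj gu).toMonoidHom.comp
        (Matrix.SpecialLinearGroup.toGL.comp (Matrix.SpecialLinearGroup.map f)) := ⟨_, rfl⟩
  have hΨval : ∀ M : Matrix.SpecialLinearGroup (Fin 2) (ZMod p),
      ((Ψ M : (Matrix (Fin 2) (Fin 2) F)ˣ) : Matrix (Fin 2) (Fin 2) F) =
        g * (f.mapMatrix (M : Matrix (Fin 2) (Fin 2) (ZMod p))) * h := by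
    intro M
    rw [hΨ, hgu]
    rfl
  have h01 : (0 : Fin 2) ≠ 1 := by decide
  have h10 : (1 : Fin 2) ≠ 0 := by decide
  have hmapt : ∀ (i j : Fin 2) (hij : i ≠ j),
      f.mapMatrix ((Matrix.SpecialLinearGroup.transvection hij (1 : ZMod p) :
        Matrix.SpecialLinearGroup (Fin 2) (ZMod p)) : Matrix (Fin 2) (Fin 2) (ZMod p)) =
        1 + Matrix.single i j (1 : F) := by
    intro i j hij
    rw [Matrix.SpecialLinearGroup.transvection_coe, map_add, map_one, RingHom.mapMatrix_apply,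
      Matrix.map_single, map_one]
  have hΨx : Ψ (Matrix.SpecialLinearGroup.transvection h01 1) = x₀ := by
    apply Units.ext
    rw [hΨval, hmapt, hx₀v, mul_add, mul_one, ← hCg, add_mul, hgh, mul_assoc, hgh, mul_one]
  have hΨy : Ψ (Matrix.SpecialLinearGroup.transvection h10 1) = y₀ := by
    apply Units.ext
    rw [hΨval, hmapt, hy₀v, mul_add, mul_one, ← hBg, add_mul, hgh, mul_assoc, hgh, mul_one]
  have hgen : ∀ (i j : Fin 2) (hij : i ≠ j),
      Ψ (Matrix.SpecialLinearGroup.transvection hij 1) ∈ T := by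
    intro i j hij
    have hi2 := i.isLt
    have hj2 := j.isLt
    have hne : (i : ℕ) ≠ (j : ℕ) := fun h => hij (Fin.ext h)
    by_cases hi : (i : ℕ) = 0
    · have hi' : i = 0 := Fin.ext hi
      have hj' : j = 1 := Fin.ext (by show (j : ℕ) = 1; omega)
      subst hi'; subst hj'
      rw [hΨx]; exact hx₀
    · have hi' : i = 1 := Fin.ext (by show (i : ℕ) = 1; omega)
      have hj' : j = 0 := Fin.ext (by show (j : ℕ) = 0; omega)
      subst hi'; subst hj'
      rw [hΨy]; exact hy₀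
  have hrange : ∀ M : Matrix.SpecialLinearGroup (Fin 2) (ZMod p), Ψ M ∈ T := by
    intro M
    refine Helper2.transvection_induction (fun M => Ψ M ∈ T) ?_ ?_ M
    · intro i j hij c
      show Ψ (Matrix.SpecialLinearGroup.transvection hij c) ∈ T
      have e : Matrix.SpecialLinearGroup.transvection hij c =
          (Matrix.SpecialLinearGroup.transvection hij (1 : ZMod p)) ^ (ZMod.val c) := by
        rw [← sl_transvection_natCast hij (ZMod.val c), ZMod.natCast_zmod_val]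
      rw [e, map_pow]
      exact Subgroup.pow_mem _ (hgen i j hij) _
    · intro A B hA hB
      show Ψ (A * B) ∈ T
      rw [map_mul]
      exact Subgroup.mul_mem _ hA hB
  have hΨinj : Function.Injective Ψ := by
    intro M N hMN
    have h1 : g * (f.mapMatrix (M : Matrix (Fin 2) (Fin 2) (ZMod p))) * h =
        g * (f.mapMatrix (N : Matrix (Fin 2) (Fin 2) (ZMod p))) * h := by
      rw [← hΨval, ← hΨval, hMN]
    have e : ∀ X : Matrix (Fin 2) (Fin 2) F, h * (g * X * h) * g = X := by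
      intro X
      rw [← mul_assoc, ← mul_assoc, hhg, one_mul, mul_assoc, hhg, mul_one]
    have h2 : f.mapMatrix (M : Matrix (Fin 2) (Fin 2) (ZMod p)) =
        f.mapMatrix (N : Matrix (Fin 2) (Fin 2) (ZMod p)) := by
      rw [← e (f.mapMatrix (M : Matrix (Fin 2) (Fin 2) (ZMod p))), h1, e]
    apply Subtype.ext
    apply Matrix.ext
    intro i j
    have h3 := Matrix.ext_iff.mpr h2 i j
    rw [RingHom.mapMatrix_apply, RingHom.mapMatrix_apply, Matrix.map_apply, Matrix.map_apply] at h3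
    exact RingHom.injective f h3
  -- lift to `H`
  have hTle : T ≤ ι.range := by
    rw [hT, Subgroup.closure_le]
    intro x hx
    rcases hx with rfl | hx
    · exact ⟨a, hα.symm⟩
    · rw [Set.mem_singleton_iff.mp hx]; exact ⟨b, hβ.symm⟩
  have hex : ∀ M : Matrix.SpecialLinearGroup (Fin 2) (ZMod p), ∃ y : ↥H, ι y = Ψ M :=
    fun M => MonoidHom.mem_range.mp (hTle (hrange M))
  choose lam hlam using hex
  have hlam_mul : ∀ M N, lam (M * N) = lam M * lam N := by
    intro M N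
    apply hιinj
    rw [map_mul, hlam, hlam, hlam, map_mul]
  have hlam_inj : Function.Injective lam := by
    intro M N hMN
    apply hΨinj
    rw [← hlam, ← hlam, hMN]
  obtain ⟨μ, hμ⟩ : ∃ μ : Matrix.SpecialLinearGroup (Fin 2) (ZMod p) →*
      Matrix.SpecialLinearGroup (Fin 2) F,
      ∀ M, μ M = (lam M : Matrix.SpecialLinearGroup (Fin 2) F) :=
    ⟨H.subtype.comp (MonoidHom.mk' lam hlam_mul), fun M => rfl⟩
  have hμinj : Function.Injective μ := by
    intro M N hMN
    apply hlam_inj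
    apply Subtype.ext
    rw [← hμ, ← hμ, hMN]
  refine ⟨μ.range, ?_, ⟨(MonoidHom.ofInjective hμinj).symm⟩⟩
  rintro _ ⟨M, rfl⟩
  rw [hμ]
  exact (lam M).2

end Dickson

end Cfsg.Agent.Helper1
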