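import Mathlib
import Cfsg.Agent.Helper1.ThMain2

set_option autoImplicit false

namespace Cfsg.Agent.Helper1

universe u

open Cfsg Pointwise
open scoped commutatorElement

theorem thompson_endgame {G : Type u} [Group G] [Finite G] {p : ℕ} [Fact p.Prime] (hp2 : p ≠ 2)
    (hG : ¬ HasNormalPComplement p G) (P : Sylow p G) (hP : ThHyp p G (P : Subgroup G))
    (H : Subgroup G) [hHn : H.Normal] (hH : IsPGroup p H)
    (hD2 : ∀ X : Subgroup G, X.Normal → IsPGroup p X → X ≤ H)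
    (hCH : Subgroup.centralizer (H : Set G) ≤ H)
    (Mb : Subgroup (G ⧸ H)) [hMbn : Mb.Normal] (hMb : (Nat.card Mb).Coprime p)
    (j₀ : ℕ) (hj₀ : ∀ y : G ⧸ H, y ^ (p ^ j₀) ∈ Mb)
    (h5a : ∀ K₀ : Subgroup G, H ≤ K₀ → K₀ ≤ Mb.comap (QuotientGroup.mk' H) →
      (P : Subgroup G) ≤ Subgroup.normalizer (K₀ : Set G) →
      K₀ ≠ Mb.comap (QuotientGroup.mk' H) → K₀ ≤ H)
    (habel : ∀ k₁ ∈ Mb.comap (QuotientGroup.mk' H), ∀ k₂ ∈ Mb.comap (QuotientGroup.mk' H),
      k₁ * k₂ * k₁⁻¹ * k₂⁻¹ ∈ H) : False := by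
  have hp : p.Prime := Fact.out
  have hP' := hP
  unfold ThHyp at hP'
  obtain ⟨hPJ, hPZ⟩ := hP'
  have hHP : H ≤ (P : Subgroup G) := normal_pgroup_le_sylow H hH P
  obtain ⟨K, hK⟩ : ∃ K : Subgroup G, K = Mb.comap (QuotientGroup.mk' H) := ⟨_, rfl⟩
  rw [← hK] at h5a habel
  haveI hKn : K.Normal := by rw [hK]; infer_instance
  have hKmem : ∀ k, k ∈ K ↔ QuotientGroup.mk' H k ∈ Mb := by
    intro k; rw [hK]; exact Subgroup.mem_comap
  have hHK : H ≤ K := by rw [hK]; exact le_comap_mk' H Mb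
  have hKN : ∀ k ∈ K, k ^ Nat.card Mb ∈ H := fun k hk =>
    comap_pow_card_mem H Mb k ((hKmem k).mp hk)
  have hKj : ∀ g : G, g ^ (p ^ j₀) ∈ K := by
    intro g
    rw [hKmem, map_pow]; exact hj₀ _
  have hKP : K ⊔ (P : Subgroup G) = ⊤ := sup_sylow_eq_top K P j₀ hKj
  obtain ⟨V, hV⟩ : ∃ V : Subgroup G, V = omegaCenter p H := ⟨_, rfl⟩
  have hVmem : ∀ x, x ∈ V ↔ x ∈ H ∧ (∀ h ∈ H, h * x = x * h) ∧ x ^ p = 1 := by
    intro x; rw [hV]; exact mem_omegaCenter
  have hVH : V ≤ H := fun x hx => ((hVmem x).mp hx).1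
  haveI hVn : V.Normal := by
    refine ⟨fun x hx g => ?_⟩
    obtain ⟨hxH, hxc, hxp⟩ := (hVmem x).mp hx
    refine (hVmem _).mpr ⟨hHn.conj_mem x hxH g, fun h hh => ?_,
      by rw [conj_pow, hxp, mul_one, mul_inv_cancel]⟩
    have h1 := hxc (g⁻¹ * h * g) (by have h0 := hHn.conj_mem h hh g⁻¹; rwa [inv_inv] at h0)
    calc h * (g * x * g⁻¹) = g * (g⁻¹ * h * g * x) * g⁻¹ := by group
      _ = g * (x * (g⁻¹ * h * g)) * g⁻¹ := by rw [h1]
      _ = g * x * g⁻¹ * h := by group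
  have hVc : ∀ u ∈ V, ∀ v ∈ V, u * v = v * u := by
    intro u hu v hv
    exact ((hVmem v).mp hv).2.1 u (hVH hu)
  have hVp : ∀ v ∈ V, v ^ p = 1 := fun v hv => ((hVmem v).mp hv).2.2
  have hHCV : H ≤ Subgroup.centralizer (V : Set G) := by
    intro h hh
    rw [Subgroup.mem_centralizer_iff]
    intro v hv
    exact (((hVmem v).mp hv).2.1 h hh).symm
  have hCVconj : ∀ c ∈ Subgroup.centralizer (V : Set G), ∀ g : G,
      g * c * g⁻¹ ∈ Subgroup.centralizer (V : Set G) := by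
    intro c hc g
    rw [Subgroup.mem_centralizer_iff] at hc ⊢
    intro v hv
    have h1 := hc (g⁻¹ * v * g) (by have h0 := hVn.conj_mem v hv g⁻¹; rwa [inv_inv] at h0)
    calc v * (g * c * g⁻¹) = g * (g⁻¹ * v * g * c) * g⁻¹ := by group
      _ = g * (c * (g⁻¹ * v * g)) * g⁻¹ := by rw [h1]
      _ = g * c * g⁻¹ * v := by group
  haveI hCVn : (Subgroup.centralizer (V : Set G)).Normal := ⟨fun c hc g => hCVconj c hc g⟩
  obtain ⟨K₁, hK₁⟩ : ∃ K₁ : Subgroup G, K₁ = K ⊓ Subgroup.centralizer (V : Set G) :=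
    ⟨_, rfl⟩
  haveI hK₁n : K₁.Normal := by rw [hK₁]; infer_instance
  have hHK₁ : H ≤ K₁ := by rw [hK₁]; exact le_inf hHK hHCV
  have hK₁K : K₁ ≤ K := by rw [hK₁]; exact inf_le_left
  have hPK₁ : (P : Subgroup G) ≤ Subgroup.normalizer (K₁ : Set G) := by
    rw [Subgroup.normalizer_eq_top_iff.mpr hK₁n]; exact le_top
  by_cases hcase : K₁ = K
  · -- Case 1: `K` centralises `V`.
    have hKC : K ≤ Subgroup.centralizer (V : Set G) := by
      rw [← hcase, hK₁]; exact inf_le_right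
    obtain ⟨ZH, hZH⟩ : ∃ ZH : Subgroup G, ZH = H ⊓ Subgroup.centralizer (H : Set G) :=
      ⟨_, rfl⟩
    have hZHmem : ∀ z, z ∈ ZH ↔ z ∈ H ∧ ∀ h ∈ H, h * z = z * h := by
      intro z; rw [hZH, Subgroup.mem_inf, Subgroup.mem_centralizer_iff]; rfl
    have hZHconj : ∀ z ∈ ZH, ∀ g : G, g * z * g⁻¹ ∈ ZH := by
      intro z hz g
      obtain ⟨hzH, hzc⟩ := (hZHmem z).mp hz
      refine (hZHmem _).mpr ⟨hHn.conj_mem z hzH g, fun h hh => ?_⟩
      have h1 := hzc (g⁻¹ * h * g) (by have h0 := hHn.conj_mem h hh g⁻¹; rwa [inv_inv] at h0)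
      calc h * (g * z * g⁻¹) = g * (g⁻¹ * h * g * z) * g⁻¹ := by group
        _ = g * (z * (g⁻¹ * h * g)) * g⁻¹ := by rw [h1]
        _ = g * z * g⁻¹ * h := by group
    have hKZ : ∀ k ∈ K, ∀ z ∈ ZH, k * z * k⁻¹ = z := by
      intro k hk z hz
      obtain ⟨j, hj⟩ := hH ⟨z, ((hZHmem z).mp hz).1⟩
      have hj' : z ^ (p ^ j) = 1 := congrArg Subtype.val hj
      refine centralizes_of_centralizes_omega p ZH ?_ k (fun a ha => hZHconj a ha k) ?_
        (Nat.card Mb) hMb ?_ j z hz hj'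
      · intro a ha b hb
        exact ((hZHmem b).mp hb).2 a ((hZHmem a).mp ha).1
      · intro a ha hap
        have haV : a ∈ V := (hVmem a).mpr ⟨((hZHmem a).mp ha).1, ((hZHmem a).mp ha).2, hap⟩
        have h1 := (Subgroup.mem_centralizer_iff.mp (hKC hk)) a haV
        rw [← h1]; group
      · intro a ha
        have h1 := ((hZHmem a).mp ha).2 (k ^ Nat.card Mb) (hKN k hk)
        rw [h1]; group
    have hZPZH : ∀ z ∈ ((P : Subgroup G) ⊓ Subgroup.centralizer ((P : Subgroup G) : Set G)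
        : Subgroup G), z ∈ ZH := by
      intro z hz
      obtain ⟨hzP, hzc⟩ := Subgroup.mem_inf.mp hz
      have hzCH : z ∈ Subgroup.centralizer (H : Set G) := by
        rw [Subgroup.mem_centralizer_iff] at hzc ⊢
        exact fun h hh => hzc h (hHP hh)
      exact (hZHmem z).mpr ⟨hCH hzCH, Subgroup.mem_centralizer_iff.mp hzCH⟩
    have htop : Subgroup.centralizer (((P : Subgroup G) ⊓
        Subgroup.centralizer ((P : Subgroup G) : Set G) : Subgroup G) : Set G) = ⊤ := by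
      rw [eq_top_iff, ← hKP]
      apply sup_le
      · intro k hk
        rw [Subgroup.mem_centralizer_iff]
        intro z hz
        have h1 := hKZ k hk z (hZPZH z hz)
        calc z * k = k * z * k⁻¹ * k := by rw [h1]
          _ = k * z := by group
      · intro x hx
        rw [Subgroup.mem_centralizer_iff]
        intro z hz
        exact ((Subgroup.mem_centralizer_iff.mp (Subgroup.mem_inf.mp hz).2) x hx).symm
    exact hG (npc_of_eq_top _ htop hPZ)
  · -- Case 2: `C_K(V) = H`.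
    have hK₁H : K₁ ≤ H := h5a K₁ hHK₁ hK₁K hPK₁ hcase
    have hCVH : Subgroup.centralizer (V : Set G) ≤ H := by
      apply hD2 _ hCVn
      intro x
      have h1 : (x : G) ^ (p ^ j₀) ∈ K₁ := by
        rw [hK₁]; exact Subgroup.mem_inf.mpr ⟨hKj _, Subgroup.pow_mem _ x.2 _⟩
      obtain ⟨a, ha⟩ := hH ⟨_, hK₁H h1⟩
      have ha' : ((x : G) ^ (p ^ j₀)) ^ (p ^ a) = 1 := congrArg Subtype.val ha
      refine ⟨j₀ + a, Subtype.ext ?_⟩
      show (x : G) ^ (p ^ (j₀ + a)) = 1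
      rw [pow_add, pow_mul]; exact ha'
    have hJ : ¬ thompsonSubgroupOf p (P : Subgroup G) ≤ H := by
      intro hJH
      have h1 : thompsonSubgroupOf p H = thompsonSubgroupOf p (P : Subgroup G) := by
        rw [Helper27.thompsonSubgroupOf_eq, Helper27.thompsonSubgroupOf_eq]
        apply Helper27.sSup_maxElAbIn_eq_of_le P H hH
        rw [← Helper27.thompsonSubgroupOf_eq]; exact hJH
      have h2 : Subgroup.normalizer
          ((thompsonSubgroupOf p (P : Subgroup G) : Subgroup G) : Set G) = ⊤ := by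
        rw [eq_top_iff, ← h1, ← Subgroup.normalizer_eq_top_iff.mpr hHn]
        exact normalizer_le_normalizer_thompson p H
      exact hG (npc_of_eq_top _ h2 hPJ)
    obtain ⟨A, hA, hAH⟩ : ∃ A ∈ Helper27.maxElAbIn p (P : Subgroup G), ¬ A ≤ H := by
      by_contra hcon
      push_neg at hcon
      apply hJ
      rw [Helper27.thompsonSubgroupOf_eq]
      exact sSup_le hcon
    obtain ⟨hAP, hAel, hAmax⟩ := hA
    obtain ⟨a₁, ha₁A, ha₁H⟩ : ∃ a₁ ∈ A, a₁ ∉ H := by
      by_contra hcon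
      push_neg at hcon
      exact hAH (fun x hx => hcon x hx)
    have ha₁C : a₁ ∉ Subgroup.centralizer (V : Set G) := fun h => ha₁H (hCVH h)
    obtain ⟨v₁, hv₁V, hv₁⟩ : ∃ v₁ ∈ V, ¬ (v₁ * a₁ = a₁ * v₁) := by
      by_contra hcon
      push_neg at hcon
      exact ha₁C (Subgroup.mem_centralizer_iff.mpr (fun v hv => hcon v hv))
    obtain ⟨V', hV'⟩ : ∃ V' : Subgroup (P : Subgroup G), V' = V.subgroupOf (P : Subgroup G) :=
      ⟨_, rfl⟩
    obtain ⟨A', hA'⟩ : ∃ A' : Subgroup (P : Subgroup G), A' = A.subgroupOf (P : Subgroup G) :=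
      ⟨_, rfl⟩
    haveI hV'n : V'.Normal := by rw [hV']; infer_instance
    have hVel : IsElementaryAbelian p V :=
      ⟨IsMulCommutative.of_setLike_mul_comm (fun a ha b hb => hVc a ha b hb), hVp⟩
    have hV'el : IsElementaryAbelian p V' := by
      rw [hV']; exact Helper4.isElementaryAbelian_subgroupOf (P : Subgroup G) hVel
    have hA'max : A' ∈ maxElementaryAbelianSubgroups p (P : Subgroup G) := by
      rw [hA']
      refine ⟨Helper4.isElementaryAbelian_subgroupOf (P : Subgroup G) hAel, fun B hB => ?_⟩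
      have h1 := hAmax (B.map (P : Subgroup G).subtype) (Subgroup.map_subtype_le B)
        (Helper27.elAb_map p (P : Subgroup G).subtype hB)
      rw [Subgroup.card_map_of_injective (Subgroup.subtype_injective _)] at h1
      rw [Nat.card_congr (Subgroup.subgroupOfEquivOfLe hAP).toEquiv]
      exact h1
    obtain ⟨hA₀max, hquad, hnontriv⟩ := Cfsg.Agent.S0607.result V' hV'el A' hA'max
    obtain ⟨A₀, hA₀⟩ : ∃ A₀ : Subgroup (P : Subgroup G),
        A₀ = ⁅V', A'⁆ ⊔ (A' ⊓ Subgroup.centralizer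
          ((⁅V', A'⁆ : Subgroup (P : Subgroup G)) : Set (P : Subgroup G))) := ⟨_, rfl⟩
    rw [← hA₀] at hA₀max hquad hnontriv
    have hne : (⁅V', A'⁆ : Subgroup (P : Subgroup G)) ≠ ⊥ := by
      intro hbot
      rw [Subgroup.commutator_eq_bot_iff_le_centralizer] at hbot
      have h1 : (⟨v₁, hHP (hVH hv₁V)⟩ : (P : Subgroup G)) ∈ V' := by
        rw [hV', Subgroup.mem_subgroupOf]; exact hv₁V
      have h2 : (⟨a₁, hAP ha₁A⟩ : (P : Subgroup G)) ∈ A' := by
        rw [hA', Subgroup.mem_subgroupOf]; exact ha₁A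
      have h3 := (Subgroup.mem_centralizer_iff.mp (hbot h1)) _ h2
      exact hv₁ (congrArg Subtype.val h3).symm
    have hne₀ := hnontriv hne
    obtain ⟨a₀, ha₀A, v₀, hv₀V, hav⟩ : ∃ a₀ ∈ A₀, ∃ v₀ ∈ V', ¬ (a₀ * v₀ = v₀ * a₀) := by
      by_contra hcon
      push_neg at hcon
      apply hne₀
      rw [Subgroup.commutator_eq_bot_iff_le_centralizer]
      intro v hv
      rw [Subgroup.mem_centralizer_iff]
      intro a ha
      exact hcon a ha v hv
    obtain ⟨a, ha⟩ : ∃ a : G, a = (a₀ : G) := ⟨_, rfl⟩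
    have haP : a ∈ (P : Subgroup G) := by rw [ha]; exact a₀.2
    have haH : a ∉ H := by
      intro h
      have h1 := hHCV h
      have h2 := (Subgroup.mem_centralizer_iff.mp h1) (v₀ : G) (by
        have h0 := hv₀V; rw [hV', Subgroup.mem_subgroupOf] at h0; exact h0)
      apply hav
      apply Subtype.ext
      show (a₀ : G) * (v₀ : G) = (v₀ : G) * (a₀ : G)
      rw [← ha]; exact h2.symm
    have hq : ∀ v ∈ V, a * (a * v * a⁻¹ * v⁻¹) * a⁻¹ = a * v * a⁻¹ * v⁻¹ := by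
      intro v hv
      have hv' : (⟨v, hHP (hVH hv)⟩ : (P : Subgroup G)) ∈ V' := by
        rw [hV', Subgroup.mem_subgroupOf]; exact hv
      have h1 : ⁅⁅(⟨v, hHP (hVH hv)⟩ : (P : Subgroup G)), a₀⁆, a₀⁆
          ∈ (⁅⁅V', A₀⁆, A₀⁆ : Subgroup (P : Subgroup G)) :=
        Subgroup.commutator_mem_commutator (Subgroup.commutator_mem_commutator hv' ha₀A) ha₀A
      rw [hquad, Subgroup.mem_bot] at h1
      have h2 : (v * a * v⁻¹ * a⁻¹) * a * (v * a * v⁻¹ * a⁻¹)⁻¹ * a⁻¹ = 1 := by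
        rw [ha]; exact congrArg Subtype.val h1
      calc a * (a * v * a⁻¹ * v⁻¹) * a⁻¹
          = (a * v * a⁻¹ * v⁻¹) * ((v * a * v⁻¹ * a⁻¹) * a * (v * a * v⁻¹ * a⁻¹)⁻¹ * a⁻¹) := by
            group
        _ = a * v * a⁻¹ * v⁻¹ := by rw [h2, mul_one]
    have hN₀ : ∀ k ∈ K, a * k * a⁻¹ * k⁻¹ ∈ H := by
      intro k hk
      have hk1 : a * k * a⁻¹ ∈ K := hKn.conj_mem k hk a
      have hk2 : a * (a * k * a⁻¹) * a⁻¹ ∈ K := hKn.conj_mem _ hk1 a
      have h1 := group_quadratic V hVc p hp hp2 hVp a k hq (Nat.card Mb) hMb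
        (hHCV (hKN k hk))
        (hHCV (habel k hk _ hk1))
        (hHCV (habel k hk _ hk2))
        (hHCV (habel _ hk1 _ hk2))
      exact hCVH h1
    obtain ⟨D, hD⟩ : ∃ D : Subgroup G, D = (P : Subgroup G) ⊓
        (Subgroup.centralizer (Mb : Set (G ⧸ H))).comap (QuotientGroup.mk' H) := ⟨_, rfl⟩
    have hDmem : ∀ x, x ∈ D ↔ x ∈ (P : Subgroup G) ∧ ∀ k ∈ K, x * k * x⁻¹ * k⁻¹ ∈ H := by
      intro x
      rw [hD, Subgroup.mem_inf, Subgroup.mem_comap, Subgroup.mem_centralizer_iff]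
      constructor
      · rintro ⟨hxP, hxc⟩
        refine ⟨hxP, fun k hk => ?_⟩
        apply mk'_eq_one_iff'.mp
        have h1 := hxc (QuotientGroup.mk' H k) ((hKmem k).mp hk)
        rw [map_mul, map_mul, map_mul, map_inv, map_inv, ← h1]; group
      · rintro ⟨hxP, hxc⟩
        refine ⟨hxP, fun y hy => ?_⟩
        obtain ⟨k, rfl⟩ := QuotientGroup.mk'_surjective H y
        have hk : k ∈ K := (hKmem k).mpr hy
        have h1 := mk'_eq_one_iff'.mpr (hxc k hk)
        rw [map_mul, map_mul, map_mul, map_inv, map_inv, mul_inv_eq_one,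
          mul_inv_eq_iff_eq_mul] at h1
        exact h1.symm
    have hDP : D ≤ (P : Subgroup G) := by rw [hD]; exact inf_le_left
    have hcomap : ∀ y ∈ D, ∀ g : G, ∀ k ∈ K,
        (g * y * g⁻¹) * k * (g * y * g⁻¹)⁻¹ * k⁻¹ ∈ H := by
      intro y hy g k hk
      have h1 := ((hDmem y).mp hy).2 (g⁻¹ * k * g)
        (by have h0 := hKn.conj_mem k hk g⁻¹; rwa [inv_inv] at h0)
      have h2 := hHn.conj_mem _ h1 g
      have e : g * (y * (g⁻¹ * k * g) * y⁻¹ * (g⁻¹ * k * g)⁻¹) * g⁻¹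
          = (g * y * g⁻¹) * k * (g * y * g⁻¹)⁻¹ * k⁻¹ := by group
      rwa [e] at h2
    have hKconj : ∀ y ∈ D, ∀ m ∈ K, m * y * m⁻¹ ∈ D := by
      intro y hy m hm
      refine (hDmem _).mpr ⟨?_, hcomap y hy m⟩
      have h1 := ((hDmem y).mp hy).2 m hm
      have h2 : m * y * m⁻¹ = (y * m * y⁻¹ * m⁻¹)⁻¹ * y := by group
      rw [h2]
      exact Subgroup.mul_mem _ (hHP (H.inv_mem h1)) ((hDmem y).mp hy).1
    have hPconj : ∀ y ∈ D, ∀ c ∈ (P : Subgroup G), c * y * c⁻¹ ∈ D := by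
      intro y hy c hc
      refine (hDmem _).mpr ⟨?_, hcomap y hy c⟩
      exact Subgroup.mul_mem _ (Subgroup.mul_mem _ hc ((hDmem y).mp hy).1)
        (Subgroup.inv_mem _ hc)
    have hDn : D.Normal := by
      refine ⟨fun x hx g => ?_⟩
      obtain ⟨c, hc, m, hm, hg⟩ := exists_mul_of_sup_eq_top (C := (P : Subgroup G)) (N := K)
        (by rw [sup_comm]; exact hKP) g
      have h3 := hPconj _ (hKconj x hx m hm) c hc
      have e : g * x * g⁻¹ = c * (m * x * m⁻¹) * c⁻¹ := by rw [hg]; group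
      rw [e]; exact h3
    have hDH : D ≤ H := hD2 D hDn (P.isPGroup'.to_le hDP)
    have haD : a ∈ D := (hDmem a).mpr ⟨haP, hN₀⟩
    exact haH (hDH haD)

theorem thompson_npc_aux (p : ℕ) [hpF : Fact p.Prime] (hp2 : p ≠ 2) :
    ∀ (n : ℕ) (G : Type u) [Group G] [Finite G], Nat.card G = n →
      ∀ P : Sylow p G, ThHyp p G (P : Subgroup G) → HasNormalPComplement p G := by
  intro n
  induction n using Nat.strong_induction_on with
  | _ n IHn =>
  intro G _ _ hn P hP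
  by_contra hG
  have IH : ∀ (G' : Type u) [Group G'] [Finite G'], Nat.card G' < Nat.card G →
      ∀ P' : Sylow p G', ThHyp p G' (P' : Subgroup G') → HasNormalPComplement p G' := by
    intro G' _ _ hlt P' hP'
    exact IHn (Nat.card G') (hn ▸ hlt) G' rfl P' hP'
  obtain ⟨H, hH, hH1, hHnpc, hmax⟩ := exists_extremal hG
  have hNtop := thompson_step1 IH P hP H hH hH1 hHnpc hmax
  haveI hHn : H.Normal := Subgroup.normalizer_eq_top_iff.mp hNtop
  have hD1 := thompson_max P H hNtop hmax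
  have hD2 := thompson_pcore hG P H hH hD1
  obtain ⟨Mb, hMbn, hMb, j₀, hj₀⟩ := thompson_step2 IH hG P hP H hH hH1 hD1
  haveI := hMbn
  have hT3 := thompson_step3 IH hG P hP
  have hCH := thompson_step4 H hH hD2 hT3 Mb hMb j₀ hj₀
  have h5a := thompson_step5a IH P hP H hH hCH Mb hMb
  have habel := thompson_step5b P H Mb hMb h5a
  exact thompson_endgame hp2 hG P hP H hH hD2 hCH Mb hMb j₀ hj₀ h5a habel

/-- **Thompson's normal `p`-complement theorem** (`p` odd). -/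
theorem thompson_npc {G : Type u} [Group G] [Finite G] {p : ℕ} [Fact p.Prime] (hp2 : p ≠ 2)
    (P : Sylow p G)
    (hJ : HasNormalPComplement p
      (Subgroup.normalizer ((thompsonSubgroupOf p (P : Subgroup G) : Subgroup G) : Set G)))
    (hZ : HasNormalPComplement p (Subgroup.centralizer
      (((P : Subgroup G) ⊓ Subgroup.centralizer ((P : Subgroup G) : Set G) : Subgroup G)
        : Set G))) :
    HasNormalPComplement p G :=
  thompson_npc_aux p hp2 (Nat.card G) G rfl P ⟨hJ, hZ⟩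

end Cfsg.Agent.Helper1
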