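import Mathlib
import Cfsg.Agent.Helper1.ThMain3
import Cfsg.Agent.Helper1.SZ
import Cfsg.Agent.Helper21.NilCoprime
import Cfsg.Agent.Lead.Frobenius
import Cfsg.Agent.S0031
import Cfsg.Agent.S0032

set_option autoImplicit false

universe u

open Cfsg Pointwise

namespace Cfsg.Agent.Helper1

/-- A finite nilpotent group has a normal `p`-complement. -/
theorem npc_of_nilpotent {G : Type*} [Group G] [Finite G] [Group.IsNilpotent G] (p : ℕ)
    [Fact p.Prime] : HasNormalPComplement p G := by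
  rw [← Lead.frobHyp_iff]
  intro X hX g _ hcop
  rw [Subgroup.mem_centralizer_iff]
  intro h hh
  obtain ⟨k, hk⟩ := hX ⟨h, hh⟩
  have hk' : h ^ (p ^ k) = 1 := congrArg Subtype.val hk
  have hdvd : orderOf h ∣ p ^ k := orderOf_dvd_of_pow_eq_one hk'
  have hc : (orderOf g).Coprime (orderOf h) :=
    Nat.Coprime.coprime_dvd_right hdvd (Nat.Coprime.pow_right k hcop)
  exact (Helper21.commute_of_coprime_orderOf g h hc).eq.symm

theorem exists_restrict {G : Type*} [Group G] [Finite G] (φ : G ≃* G) (L : Subgroup G)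
    (hL : ∀ x ∈ L, φ x ∈ L) : ∃ ψ : L ≃* L, ∀ x : L, (ψ x : G) = φ x := by
  obtain ⟨f, hf⟩ : ∃ f : L →* L, ∀ x : L, (f x : G) = φ x :=
    ⟨((φ : G →* G).comp L.subtype).codRestrict L (fun x => hL x x.2), fun x => rfl⟩
  have hinj : Function.Injective f := by
    intro x y hxy
    apply Subtype.ext
    apply φ.injective
    rw [← hf, ← hf, hxy]
  have hbij : Function.Bijective f := ⟨hinj, Finite.injective_iff_surjective.mp hinj⟩
  exact ⟨MulEquiv.ofBijective f hbij, fun x => hf x⟩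

theorem restrict_pow {G : Type*} [Group G] (φ : G ≃* G) (L : Subgroup G) (ψ : L ≃* L)
    (hψ : ∀ x : L, (ψ x : G) = φ x) (k : ℕ) (x : L) : ((ψ ^ k) x : G) = (φ ^ k) x := by
  induction k generalizing x with
  | zero => simp
  | succ k ih =>
    rw [pow_succ', pow_succ']
    show (ψ ((ψ ^ k) x) : G) = φ ((φ ^ k) x)
    rw [hψ, ih]

theorem exists_restrict_fpf {G : Type*} [Group G] [Finite G] (φ : G ≃* G)
    (hφ : MonoidHom.FixedPointFree (φ : G →* G)) (r : ℕ) (hr : φ ^ r = 1) (L : Subgroup G)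
    (hL : ∀ x ∈ L, φ x ∈ L) :
    ∃ ψ : L ≃* L, MonoidHom.FixedPointFree (ψ : L →* L) ∧ ψ ^ r = 1 ∧
      ∀ x : L, (ψ x : G) = φ x := by
  obtain ⟨ψ, hψ⟩ := exists_restrict φ L hL
  refine ⟨ψ, ?_, ?_, hψ⟩
  · intro x hx
    have h1 : (φ : G →* G) (x : G) = x := by
      show φ (x : G) = x
      rw [← hψ x]
      exact congrArg Subtype.val hx
    exact Subtype.ext (hφ _ h1)
  · apply MulEquiv.ext
    intro x
    apply Subtype.ext
    rw [restrict_pow φ L ψ hψ r x, hr]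
    rfl

theorem exists_quot {G : Type*} [Group G] [Finite G] (φ : G ≃* G) (N : Subgroup G) [N.Normal]
    (hN : ∀ x ∈ N, φ x ∈ N) :
    ∃ ψ : (G ⧸ N) ≃* (G ⧸ N), ∀ x : G,
      ψ (QuotientGroup.mk x : G ⧸ N) = (QuotientGroup.mk (φ x) : G ⧸ N) := by
  have hinj : Function.Injective ((φ : G →* G)) := φ.injective
  have hmap : N.map (φ : G →* G) = N := by
    apply Subgroup.eq_of_le_of_card_ge
    · rintro _ ⟨x, hx, rfl⟩
      exact hN x hx
    · exact le_of_eq (Subgroup.card_map_of_injective hinj).symm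
  exact ⟨QuotientGroup.congr N N φ hmap, fun x => rfl⟩

theorem quot_pow {G : Type*} [Group G] (φ : G ≃* G) (N : Subgroup G) [N.Normal]
    (ψ : (G ⧸ N) ≃* (G ⧸ N))
    (hψ : ∀ x : G, ψ (QuotientGroup.mk x : G ⧸ N) = (QuotientGroup.mk (φ x) : G ⧸ N)) (k : ℕ)
    (x : G) : (ψ ^ k) (QuotientGroup.mk x : G ⧸ N) = (QuotientGroup.mk ((φ ^ k) x) : G ⧸ N) := by
  induction k generalizing x with
  | zero => simp
  | succ k ih =>
    rw [pow_succ', pow_succ']
    show ψ ((ψ ^ k) (QuotientGroup.mk x : G ⧸ N)) = (QuotientGroup.mk (φ ((φ ^ k) x)) : G ⧸ N)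
    rw [ih, hψ]

theorem exists_quot_fpf {G : Type*} [Group G] [Finite G] (φ : G ≃* G)
    (hφ : MonoidHom.FixedPointFree (φ : G →* G)) (r : ℕ) (hr : φ ^ r = 1) (N : Subgroup G)
    [N.Normal] (hN : ∀ x ∈ N, φ x ∈ N) :
    ∃ ψ : (G ⧸ N) ≃* (G ⧸ N), MonoidHom.FixedPointFree (ψ : (G ⧸ N) →* (G ⧸ N)) ∧ ψ ^ r = 1 ∧
      ∀ x : G, ψ (QuotientGroup.mk x : G ⧸ N) = (QuotientGroup.mk (φ x) : G ⧸ N) := by
  obtain ⟨ψ, hψ⟩ := exists_quot φ N hN
  refine ⟨ψ, ?_, ?_, hψ⟩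
  · intro y hy
    obtain ⟨x, rfl⟩ := QuotientGroup.mk_surjective y
    have h1 : ψ (QuotientGroup.mk x : G ⧸ N) = (QuotientGroup.mk x : G ⧸ N) := hy
    rw [hψ, QuotientGroup.eq] at h1
    have h2 : x ∈ N := Cfsg.Agent.S0032.result φ hφ N hN x h1
    exact (QuotientGroup.eq_one_iff x).mpr h2
  · apply MulEquiv.ext
    intro y
    obtain ⟨x, rfl⟩ := QuotientGroup.mk_surjective y
    rw [quot_pow φ N ψ hψ r x, hr]
    rfl

theorem fpf_pow {G : Type*} [Group G] (φ : G ≃* G)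
    (hφ : MonoidHom.FixedPointFree (φ : G →* G)) (r : ℕ) (hrp : r.Prime) (hr : φ ^ r = 1)
    (i : ℕ) (hi0 : 0 < i) (hir : i < r) (x : G) (hx : (φ ^ i) x = x) : x = 1 := by
  have hcop : Nat.Coprime i r := by
    rw [Nat.coprime_comm, Nat.Prime.coprime_iff_not_dvd hrp]
    intro hdvd
    have := Nat.le_of_dvd hi0 hdvd
    omega
  have hpow : ∀ m : ℕ, (φ ^ (i * m)) x = x := by
    intro m
    induction m with
    | zero => simp
    | succ m ih =>
      rw [mul_add, mul_one, pow_add]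
      show (φ ^ (i * m)) ((φ ^ i) x) = x
      rw [hx, ih]
  have hr1 : 1 < r := hrp.one_lt
  obtain ⟨m, -, hm⟩ := Nat.exists_mul_mod_eq_one_of_coprime hcop hr1
  have h3 : (φ ^ (i * m)) x = φ x := by
    have h4 : i * m = r * (i * m / r) + 1 := by
      have h5 := Nat.div_add_mod (i * m) r
      rw [hm] at h5
      exact h5.symm
    rw [h4, pow_add, pow_mul, hr, one_pow, pow_one, one_mul]
  apply hφ
  show φ x = x
  rw [← h3, hpow m]

/-- The partial "norm" `x * φ x * ⋯ * φ^(k-1) x`. -/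
def fpfN {G : Type*} [Group G] (φ : G ≃* G) : ℕ → G → G
  | 0, _ => 1
  | k + 1, x => fpfN φ k x * (φ ^ k) x

theorem fpfN_zero {G : Type*} [Group G] (φ : G ≃* G) (x : G) : fpfN φ 0 x = 1 := rfl

theorem fpfN_succ {G : Type*} [Group G] (φ : G ≃* G) (k : ℕ) (x : G) :
    fpfN φ (k + 1) x = fpfN φ k x * (φ ^ k) x := rfl

theorem fpfN_comm {G : Type*} [Group G] (φ : G ≃* G) (k : ℕ) (u : G) :
    fpfN φ k (u * (φ u)⁻¹) = u * ((φ ^ k) u)⁻¹ := by
  induction k with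
  | zero =>
    rw [fpfN_zero, pow_zero]
    show 1 = u * u⁻¹
    rw [mul_inv_cancel]
  | succ k ih =>
    rw [fpfN_succ, ih, map_mul, map_inv, pow_succ]
    show u * ((φ ^ k) u)⁻¹ * ((φ ^ k) u * ((φ ^ k) (φ u))⁻¹) = u * ((φ ^ k) (φ u))⁻¹
    group

theorem fpfN_eq_one {G : Type*} [Group G] [Finite G] (φ : G ≃* G)
    (hφ : MonoidHom.FixedPointFree (φ : G →* G)) (r : ℕ) (hr : φ ^ r = 1) (x : G) :
    fpfN φ r x = 1 := by
  obtain ⟨u, hu⟩ := hφ.commutatorMap_surjective x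
  have hu' : x = u * (φ u)⁻¹ := hu.symm.trans (div_eq_mul_inv u (φ u))
  rw [hu', fpfN_comm, hr]
  show u * u⁻¹ = 1
  rw [mul_inv_cancel]

/-- The `V`-part of the partial norm of `v * y`. -/
def fpfM {G : Type*} [Group G] (φ : G ≃* G) (v y : G) : ℕ → G
  | 0 => 1
  | k + 1 => fpfM φ v y k * (fpfN φ k y * (φ ^ k) v * (fpfN φ k y)⁻¹)

theorem fpfM_zero {G : Type*} [Group G] (φ : G ≃* G) (v y : G) : fpfM φ v y 0 = 1 := rfl

theorem fpfM_succ {G : Type*} [Group G] (φ : G ≃* G) (v y : G) (k : ℕ) :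
    fpfM φ v y (k + 1) = fpfM φ v y k * (fpfN φ k y * (φ ^ k) v * (fpfN φ k y)⁻¹) := rfl

theorem fpfN_mul {G : Type*} [Group G] (φ : G ≃* G) (v y : G) (k : ℕ) :
    fpfN φ k (v * y) = fpfM φ v y k * fpfN φ k y := by
  induction k with
  | zero => rw [fpfN_zero, fpfM_zero, fpfN_zero, one_mul]
  | succ k ih =>
    rw [fpfN_succ, fpfM_succ, fpfN_succ, ih, map_mul]
    group

theorem pow_mem_of_inv {G : Type*} [Group G] (φ : G ≃* G) (L : Subgroup G)
    (hL : ∀ x ∈ L, φ x ∈ L) (k : ℕ) (x : G) (hx : x ∈ L) : (φ ^ k) x ∈ L := by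
  induction k with
  | zero => simpa using hx
  | succ k ih =>
    rw [pow_succ']
    show φ ((φ ^ k) x) ∈ L
    exact hL _ ih

theorem fpfN_mem {G : Type*} [Group G] (φ : G ≃* G) (L : Subgroup G)
    (hL : ∀ x ∈ L, φ x ∈ L) (k : ℕ) (x : G) (hx : x ∈ L) : fpfN φ k x ∈ L := by
  induction k with
  | zero => rw [fpfN_zero]; exact L.one_mem
  | succ k ih =>
    rw [fpfN_succ]
    exact L.mul_mem ih (pow_mem_of_inv φ L hL k x hx)

theorem aux_cancel {G : Type*} [Group G] {a b a' b' : G} (h : a * b⁻¹ = a' * b'⁻¹) :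
    b'⁻¹ * b = a'⁻¹ * a := by
  have h1 : a = a' * b'⁻¹ * b := by rw [← h]; group
  rw [h1]; group

theorem apply_mem_iff_of_map_eq {G : Type*} [Group G] (φ : G ≃* G) (J : Subgroup G)
    (hJ : J.map (φ : G →* G) = J) (x : G) : φ x ∈ J ↔ x ∈ J := by
  constructor
  · intro hx
    rw [← hJ] at hx
    obtain ⟨j, hj, hjx⟩ := hx
    have hjx' : j = x := φ.injective hjx
    rw [← hjx']; exact hj
  · intro hx
    exact hJ.le (Subgroup.mem_map_of_mem (φ : G →* G) hx)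

theorem normalizer_inv_of_map_eq {G : Type*} [Group G] (φ : G ≃* G) (J : Subgroup G)
    (hJ : J.map (φ : G →* G) = J) :
    ∀ g ∈ Subgroup.normalizer (J : Set G), φ g ∈ Subgroup.normalizer (J : Set G) := by
  intro g hg
  rw [Subgroup.mem_normalizer_iff] at hg ⊢
  intro h
  obtain ⟨h', rfl⟩ := φ.surjective h
  rw [apply_mem_iff_of_map_eq φ J hJ, ← map_inv, ← map_mul, ← map_mul,
    apply_mem_iff_of_map_eq φ J hJ]
  exact hg h'

theorem centralizer_inv_of_map_eq {G : Type*} [Group G] (φ : G ≃* G) (Z : Subgroup G)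
    (hZ : Z.map (φ : G →* G) = Z) :
    ∀ g ∈ Subgroup.centralizer (Z : Set G), φ g ∈ Subgroup.centralizer (Z : Set G) := by
  intro g hg
  rw [Subgroup.mem_centralizer_iff] at hg ⊢
  intro h hh
  obtain ⟨h', rfl⟩ := φ.surjective h
  have hh' : h' ∈ Z := (apply_mem_iff_of_map_eq φ Z hZ h').mp hh
  rw [← map_mul, ← map_mul, hg h' hh']

end Cfsg.Agent.Helper1
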