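import Mathlib
import Cfsg.Agent.Helper1.FpfNil

set_option autoImplicit false

universe u

open Cfsg Pointwise

namespace Cfsg.Agent.Helper1

/-- Key lemma: a fixed-point-free automorphism of prime order `r` leaving invariant an abelian
normal subgroup `V` and a subgroup `Q` of coprime order forces `Q` to centralize `V`. -/
theorem fpf_centralizes {G : Type*} [Group G] [Finite G] (φ : G ≃* G)
    (hφ : MonoidHom.FixedPointFree (φ : G →* G)) (r : ℕ) (hrp : r.Prime) (hr : φ ^ r = 1)
    (V : Subgroup G) [hVn : V.Normal] (hVc : ∀ a ∈ V, ∀ b ∈ V, a * b = b * a)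
    (hVφ : ∀ x ∈ V, φ x ∈ V) (Q : Subgroup G) (hQφ : ∀ x ∈ Q, φ x ∈ Q)
    (hcop : (Nat.card Q).Coprime (Nat.card V)) :
    ∀ z ∈ Q, ∀ v ∈ V, z * v * z⁻¹ = v := by
  classical
  letI : CommGroup V :=
    { (inferInstance : Group V) with
      mul_comm := fun a b => Subtype.ext (hVc a a.2 b b.2) }
  haveI : Fintype Q := Fintype.ofFinite Q
  obtain ⟨r', rfl⟩ : ∃ r', r = r' + 1 := ⟨r - 1, by have := hrp.pos; omega⟩
  obtain ⟨cj, hcj⟩ : ∃ cj : G → (V →* V), ∀ g (w : V), ((cj g w : V) : G) = g * w * g⁻¹ :=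
    ⟨fun g => (MulAut.conjNormal g : V ≃* V).toMonoidHom, fun g w => rfl⟩
  obtain ⟨pv, hpv⟩ : ∃ pv : ℕ → V → V, ∀ i (w : V), ((pv i w : V) : G) = (φ ^ i) (w : G) :=
    ⟨fun i w => ⟨(φ ^ i) (w : G), pow_mem_of_inv φ V hVφ i w w.2⟩, fun i w => rfl⟩
  have hA : ∀ (y : G) (w : V) (k : ℕ),
      ((∏ i ∈ Finset.range k, cj (fpfN φ i y) (pv i w) : V) : G) = fpfM φ (w : G) y k := by
    intro y w k
    induction k with
    | zero =>
      rw [Finset.prod_range_zero, fpfM_zero]
      rfl
    | succ k ih =>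
      rw [Finset.prod_range_succ, fpfM_succ, ← ih, ← hpv k w, ← hcj (fpfN φ k y) (pv k w)]
      rfl
  have hB : ∀ (y : G) (w : V),
      ∏ i ∈ Finset.range (r' + 1), cj (fpfN φ i y) (pv i w) = 1 := by
    intro y w
    apply Subtype.ext
    rw [hA]
    have h1 := fpfN_mul φ (w : G) y (r' + 1)
    rw [fpfN_eq_one φ hφ _ hr, fpfN_eq_one φ hφ _ hr, mul_one] at h1
    exact h1.symm
  obtain ⟨nq, hnq⟩ : ∃ nq : ℕ → Q → Q, ∀ i (y : Q), ((nq i y : Q) : G) = fpfN φ i (y : G) :=
    ⟨fun i y => ⟨fpfN φ i (y : G), fpfN_mem φ Q hQφ i y y.2⟩, fun i y => rfl⟩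
  obtain ⟨ψ, hψf, -, hψ⟩ := exists_restrict_fpf φ hφ (r' + 1) hr Q hQφ
  have hC : ∀ i, 0 < i → i < r' + 1 → Function.Bijective (nq i) := by
    intro i hi0 hir
    have hinj : Function.Injective (nq i) := by
      intro y y' hyy
      obtain ⟨u, hu⟩ := hψf.commutatorMap_surjective y
      obtain ⟨u', hu'⟩ := hψf.commutatorMap_surjective y'
      have e1 : (y : G) = (u : G) * (φ (u : G))⁻¹ := by
        rw [← hu, ← hψ u]
        exact div_eq_mul_inv (u : G) ((ψ u : Q) : G)
      have e2 : (y' : G) = (u' : G) * (φ (u' : G))⁻¹ := by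
        rw [← hu', ← hψ u']
        exact div_eq_mul_inv (u' : G) ((ψ u' : Q) : G)
      have h1 : fpfN φ i (y : G) = fpfN φ i (y' : G) := by
        rw [← hnq i y, ← hnq i y', hyy]
      rw [e1, e2, fpfN_comm, fpfN_comm] at h1
      have h2 := aux_cancel h1
      have h3 : (φ ^ i) ((u' : G)⁻¹ * (u : G)) = (u' : G)⁻¹ * (u : G) := by
        rw [map_mul, map_inv]
        exact h2
      have h4 := fpf_pow φ hφ (r' + 1) hrp hr i hi0 hir _ h3
      have h5 : (u' : G) = (u : G) := inv_mul_eq_one.mp h4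
      have h6 : u = u' := Subtype.ext h5.symm
      rw [← hu, ← hu', h6]
    exact ⟨hinj, Finite.injective_iff_surjective.mp hinj⟩
  have hcjmul : ∀ (g h : G) (w : V), cj g (cj h w) = cj (g * h) w := by
    intro g h w
    apply Subtype.ext
    rw [hcj, hcj, hcj]
    group
  have hD : ∀ z ∈ Q, ∀ w : V, cj z (∏ y : Q, cj (y : G) w) = ∏ y : Q, cj (y : G) w := by
    intro z hz w
    rw [map_prod]
    exact Fintype.prod_equiv (Equiv.mulLeft (⟨z, hz⟩ : Q))
      (fun y : Q => cj z (cj (y : G) w)) (fun y : Q => cj (y : G) w)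
      (fun y => hcjmul z (y : G) w)
  intro z hz v hv
  obtain ⟨w, hw⟩ : ∃ w : V, (w : G) = v := ⟨⟨v, hv⟩, rfl⟩
  have hcj1 : ∀ w' : V, cj 1 w' = w' := by
    intro w'
    apply Subtype.ext
    rw [hcj]
    group
  have hpv0 : pv 0 w = w := by
    apply Subtype.ext
    simp [hpv]
  have hsum : ∏ y : Q, ∏ i ∈ Finset.range (r' + 1), cj (fpfN φ i (y : G)) (pv i w) = 1 :=
    Finset.prod_eq_one (fun y _ => hB (y : G) w)
  rw [Finset.prod_comm, Finset.prod_range_succ'] at hsum
  have h0 : ∏ y : Q, cj (fpfN φ 0 (y : G)) (pv 0 w) = w ^ Nat.card Q := by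
    rw [Nat.card_eq_fintype_card, ← Finset.card_univ, ← Finset.prod_const]
    apply Finset.prod_congr rfl
    intro y _
    rw [fpfN_zero, hcj1, hpv0]
  have hi : ∀ i ∈ Finset.range r', ∏ y : Q, cj (fpfN φ (i + 1) (y : G)) (pv (i + 1) w)
      = ∏ y : Q, cj (y : G) (pv (i + 1) w) := by
    intro i hi
    rw [Finset.mem_range] at hi
    exact Fintype.prod_bijective (nq (i + 1)) (hC (i + 1) (Nat.succ_pos i) (by omega))
      (fun y : Q => cj (fpfN φ (i + 1) (y : G)) (pv (i + 1) w))
      (fun y : Q => cj (y : G) (pv (i + 1) w))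
      (fun y => by
        show cj (fpfN φ (i + 1) (y : G)) (pv (i + 1) w)
          = cj ((nq (i + 1) y : Q) : G) (pv (i + 1) w)
        rw [hnq])
  rw [Finset.prod_congr rfl hi, h0] at hsum
  obtain ⟨T, hT⟩ : ∃ T : V, T = ∏ i ∈ Finset.range r', ∏ y : Q, cj (y : G) (pv (i + 1) w) :=
    ⟨_, rfl⟩
  rw [← hT] at hsum
  have hTz : cj z T = T := by
    rw [hT, map_prod]
    apply Finset.prod_congr rfl
    intro i _
    exact hD z hz (pv (i + 1) w)
  have hwT : w ^ Nat.card Q = T⁻¹ := eq_inv_of_mul_eq_one_right hsum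
  have hzw : (cj z w) ^ Nat.card Q = w ^ Nat.card Q := by
    rw [← map_pow, hwT, map_inv, hTz]
  have he : (cj z w * w⁻¹) ^ Nat.card Q = 1 := by
    rw [mul_pow, hzw, inv_pow, mul_inv_cancel]
  have he2 : (cj z w * w⁻¹) ^ Nat.card V = 1 := pow_card_eq_one'
  have he3 : cj z w * w⁻¹ = 1 := by
    have h1 : orderOf (cj z w * w⁻¹) ∣ Nat.card Q := orderOf_dvd_of_pow_eq_one he
    have h2 : orderOf (cj z w * w⁻¹) ∣ Nat.card V := orderOf_dvd_of_pow_eq_one he2
    have h3 : orderOf (cj z w * w⁻¹) ∣ 1 := by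
      have h4 := Nat.dvd_gcd h1 h2
      rw [hcop.gcd_eq_one] at h4
      exact h4
    exact orderOf_eq_one_iff.mp (Nat.dvd_one.mp h3)
  have he4 : cj z w = w := mul_inv_eq_one.mp he3
  rw [← hw, ← hcj z w, he4]

/-- Solvable case: by induction, a finite solvable group with a fixed-point-free automorphism of
prime order is nilpotent. -/
theorem fpf_solvable_aux (r : ℕ) (hrp : r.Prime) :
    ∀ (n : ℕ) (G : Type u) [Group G] [Finite G],
      Nat.card G = n → Group.IsSolvable G → ∀ φ : G ≃* G,
      MonoidHom.FixedPointFree (φ : G →* G) → φ ^ r = 1 → Group.IsNilpotent G := by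
  intro n
  induction n using Nat.strong_induction_on with
  | _ n ih =>
    intro G _ _ hn hsol φ hφ hr
    rcases subsingleton_or_nontrivial G with hsub | hnt
    · exact Group.isNilpotent_of_subsingleton
    haveI := hsol
    obtain ⟨p, hp, V, hVchar, hVne, hVc, hVp⟩ := exists_char_elemAbelian G
    haveI : Fact p.Prime := ⟨hp⟩
    haveI hVn : V.Normal := Subgroup.normal_of_characteristic V
    have hVφ : ∀ x ∈ V, φ x ∈ V := by
      intro x hx
      have h1 := (Subgroup.characteristic_iff_map_eq.mp hVchar) φ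
      exact h1.le (Subgroup.mem_map_of_mem _ hx)
    have hVpg : IsPGroup p V := fun x =>
      ⟨1, Subtype.ext (by rw [pow_one]; exact hVp x x.2)⟩
    obtain ⟨ψ, hψf, hψr, -⟩ := exists_quot_fpf φ hφ r hr V hVφ
    have hlt : Nat.card (G ⧸ V) < n := by
      rw [← hn]; exact card_quotient_lt_of_ne_bot V hVne
    haveI hqn : Group.IsNilpotent (G ⧸ V) :=
      ih _ hlt (G ⧸ V) rfl inferInstance ψ hψf hψr
    refine ((Group.isNilpotent_of_finite_tfae (G := G)).out 0 3).mpr ?_
    intro q hq S
    haveI := hq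
    obtain ⟨Q, hQ⟩ := Cfsg.Agent.S0031.result φ hφ q
    have hQφ : ∀ x ∈ (Q : Subgroup G), φ x ∈ (Q : Subgroup G) := fun x hx =>
      hQ.le (Subgroup.mem_map_of_mem (φ : G →* G) hx)
    have hQVn : ((Q : Subgroup G) ⊔ V : Subgroup G).Normal := by
      have h0 : ∀ (p : ℕ) (_hp : Fact p.Prime) (P : Sylow p (G ⧸ V)),
          (↑P : Subgroup (G ⧸ V)).Normal :=
        ((Group.isNilpotent_of_finite_tfae (G := G ⧸ V)).out 0 3).mp hqn
      have h1 : ((Q.mapSurjective (QuotientGroup.mk'_surjective V) : Sylow q (G ⧸ V)) :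
          Subgroup (G ⧸ V)).Normal := h0 q hq _
      rw [Sylow.coe_mapSurjective] at h1
      have h2 := h1.comap (QuotientGroup.mk' V)
      rw [Subgroup.comap_map_eq, QuotientGroup.ker_mk'] at h2
      exact h2
    have hQn : (Q : Subgroup G).Normal := by
      rcases eq_or_ne q p with hqp | hqp
      · subst hqp
        have hle : V ≤ (Q : Subgroup G) := normal_pgroup_le_sylow V hVpg Q
        have heq : ((Q : Subgroup G) ⊔ V : Subgroup G) = Q := sup_eq_left.mpr hle
        rw [heq] at hQVn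
        exact hQVn
      · have hcop : (Nat.card (Q : Subgroup G)).Coprime (Nat.card V) := by
          obtain ⟨a, ha⟩ := IsPGroup.iff_card.mp Q.isPGroup'
          obtain ⟨b, hb⟩ := IsPGroup.iff_card.mp hVpg
          rw [ha, hb]
          exact Nat.Coprime.pow a b ((Nat.coprime_primes hq.out hp).mpr hqp)
        have hcent := fpf_centralizes φ hφ r hrp hr V hVc hVφ (Q : Subgroup G) hQφ hcop
        constructor
        intro x hx g
        have hmem : g * x * g⁻¹ ∈ ((Q : Subgroup G) ⊔ V : Subgroup G) :=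
          hQVn.conj_mem x (Subgroup.mem_sup_left hx) g
        have hmem' : g * x * g⁻¹ ∈ ((Q : Subgroup G) : Set G) * (V : Set G) := by
          rw [← Subgroup.mul_normal]
          exact hmem
        obtain ⟨z, hz, v, hv, hzv⟩ := Set.mem_mul.mp hmem'
        have hcomm : Commute z v := by
          have h1 := hcent z hz v hv
          show z * v = v * z
          calc z * v = z * v * z⁻¹ * z := by group
            _ = v * z := by rw [h1]
        apply mem_of_pow_mem_coprime (Q : Subgroup G) (g * x * g⁻¹) (Nat.card (Q : Subgroup G))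
          (Nat.card V) hcop
        · rw [conj_pow]
          have h1 : x ^ Nat.card (Q : Subgroup G) = 1 :=
            congrArg Subtype.val (pow_card_eq_one' (x := (⟨x, hx⟩ : (Q : Subgroup G))))
          rw [h1, mul_one, mul_inv_cancel]
          exact Subgroup.one_mem _
        · rw [← hzv, hcomm.mul_pow]
          have h1 : v ^ Nat.card V = 1 :=
            congrArg Subtype.val (pow_card_eq_one' (x := (⟨v, hv⟩ : V)))
          rw [h1, mul_one]
          exact Subgroup.pow_mem _ hz _
    have hSQ : S = Q := by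
      obtain ⟨g, hg⟩ := MulAction.exists_smul_eq G Q S
      rw [← hg]
      exact Sylow.smul_eq_of_normal
    rw [hSQ]
    exact hQn

/-- **Thompson**: a finite group with a fixed-point-free automorphism `φ` with `φ ^ r = 1`, `r`
prime, is nilpotent. -/
theorem fpf_nilpotent_aux (r : ℕ) (hrp : r.Prime) :
    ∀ (n : ℕ) (G : Type u) [Group G] [Finite G],
      Nat.card G = n → ∀ φ : G ≃* G,
      MonoidHom.FixedPointFree (φ : G →* G) → φ ^ r = 1 → Group.IsNilpotent G := by
  intro n
  induction n using Nat.strong_induction_on with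
  | _ n ih =>
    intro G _ _ hn φ hφ hr
    have hsub : ∀ L : Subgroup G, (∀ x ∈ L, φ x ∈ L) → L ≠ ⊤ → Group.IsNilpotent L := by
      intro L hL hLt
      obtain ⟨ψ, hψf, hψr, -⟩ := exists_restrict_fpf φ hφ r hr L hL
      exact ih _ (by rw [← hn]; exact card_lt_of_ne_top L hLt) L rfl ψ hψf hψr
    have hquot : ∀ N : Subgroup G, ∀ [N.Normal], (∀ x ∈ N, φ x ∈ N) → N ≠ ⊥ →
        Group.IsNilpotent (G ⧸ N) := by
      intro N _ hN hNb
      obtain ⟨ψ, hψf, hψr, -⟩ := exists_quot_fpf φ hφ r hr N hN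
      exact ih _ (by rw [← hn]; exact card_quotient_lt_of_ne_bot N hNb) (G ⧸ N) rfl ψ hψf hψr
    suffices hsolv : Group.IsSolvable G from fpf_solvable_aux r hrp n G hn hsolv φ hφ hr
    have hkey : ∀ N : Subgroup G, N.Normal → (∀ x ∈ N, φ x ∈ N) → N ≠ ⊥ → N ≠ ⊤ →
        Group.IsSolvable G := by
      intro N hNn hN hNb hNt
      haveI := hNn
      haveI : Group.IsNilpotent N := hsub N hN hNt
      haveI : Group.IsNilpotent (G ⧸ N) := hquot N hN hNb
      exact Group.isSolvable_of_ker_le_range N.subtype (QuotientGroup.mk' N)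
        (le_of_eq (by rw [QuotientGroup.ker_mk', Subgroup.range_subtype]))
    by_cases hodd : ∃ p : ℕ, p.Prime ∧ p ≠ 2 ∧ p ∣ Nat.card G
    · obtain ⟨p, hp, hp2, hpdvd⟩ := hodd
      haveI : Fact p.Prime := ⟨hp⟩
      have hpn : ∀ N : Subgroup G, N.Normal → (∀ x ∈ N, φ x ∈ N) → N ≠ ⊥ → IsPGroup p N →
          Group.IsSolvable G := by
        intro N hNn hN hNb hNp
        by_cases hNt : N = ⊤
        · have hG : IsPGroup p G := by
            intro g
            obtain ⟨k, hk⟩ := hNp ⟨g, by rw [hNt]; exact Subgroup.mem_top g⟩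
            exact ⟨k, congrArg Subtype.val hk⟩
          haveI := hG.isNilpotent
          infer_instance
        · exact hkey N hNn hN hNb hNt
      obtain ⟨P, hPφ⟩ := Cfsg.Agent.S0031.result φ hφ p
      have hinj : ∀ x ∈ (P : Subgroup G), (φ : G →* G) x = 1 → x = 1 := by
        intro x _ hx
        exact φ.injective (hx.trans (map_one φ).symm)
      have hPne : (P : Subgroup G) ≠ ⊥ := by
        intro hbot
        have h1 := P.card_eq_multiplicity
        rw [hbot, Subgroup.card_bot] at h1
        have h2 : 0 < (Nat.card G).factorization p :=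
          hp.factorization_pos_of_dvd Nat.card_pos.ne' hpdvd
        have h3 : 1 < p ^ (Nat.card G).factorization p := Nat.one_lt_pow h2.ne' hp.one_lt
        omega
      have hPpg : IsPGroup p (P : Subgroup G) := P.isPGroup'
      obtain ⟨J, hJdef⟩ : ∃ J : Subgroup G, J = thompsonSubgroupOf p (P : Subgroup G) :=
        ⟨_, rfl⟩
      obtain ⟨Z, hZdef⟩ : ∃ Z : Subgroup G,
          Z = (P : Subgroup G) ⊓ Subgroup.centralizer ((P : Subgroup G) : Set G) := ⟨_, rfl⟩
      have hJφ : J.map (φ : G →* G) = J := by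
        rw [hJdef, ← thompsonSubgroupOf_map p (φ : G →* G) (P : Subgroup G) hinj, hPφ]
      have hZφ : Z.map (φ : G →* G) = Z := by
        rw [hZdef, ← center_map (φ : G →* G) (P : Subgroup G) hinj, hPφ]
      have hJne : J ≠ ⊥ := by rw [hJdef]; exact thompsonSubgroupOf_ne_bot _ hPpg hPne
      have hZne : Z ≠ ⊥ := by rw [hZdef]; exact center_ne_bot_of_pgroup _ hPpg hPne
      have hJle : J ≤ P := by rw [hJdef]; exact thompsonSubgroupOf_le_self p _
      have hZle : Z ≤ P := by rw [hZdef]; exact inf_le_left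
      have hJpg : IsPGroup p J := hPpg.to_le hJle
      have hZpg : IsPGroup p Z := hPpg.to_le hZle
      by_cases hNJ : Subgroup.normalizer (J : Set G) = ⊤
      · have hJn : J.Normal := Subgroup.normalizer_eq_top_iff.mp hNJ
        exact hpn J hJn (fun x hx => (apply_mem_iff_of_map_eq φ J hJφ x).mpr hx) hJne hJpg
      by_cases hCZ : Subgroup.centralizer (Z : Set G) = ⊤
      · have hZn : Z.Normal := by
          constructor
          intro x hx g
          have hg : g ∈ Subgroup.centralizer (Z : Set G) := by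
            rw [hCZ]; exact Subgroup.mem_top g
          rw [Subgroup.mem_centralizer_iff] at hg
          have h1 := hg x hx
          have h2 : g * x * g⁻¹ = x := by rw [← h1]; group
          rw [h2]; exact hx
        exact hpn Z hZn (fun x hx => (apply_mem_iff_of_map_eq φ Z hZφ x).mpr hx) hZne hZpg
      haveI hNJnil : Group.IsNilpotent (Subgroup.normalizer (J : Set G)) :=
        hsub _ (normalizer_inv_of_map_eq φ J hJφ) hNJ
      haveI hCZnil : Group.IsNilpotent (Subgroup.centralizer (Z : Set G)) :=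
        hsub _ (centralizer_inv_of_map_eq φ Z hZφ) hCZ
      subst hJdef
      subst hZdef
      have hnpc : HasNormalPComplement p G :=
        thompson_npc hp2 P (npc_of_nilpotent p) (npc_of_nilpotent p)
      obtain ⟨M, hMn, hMcop, j, hMj⟩ := npc_data hnpc
      have hMφ : ∀ x ∈ M, φ x ∈ M := by
        intro x hx
        apply mem_of_pow_mem_coprime M (φ x) (Nat.card M) (p ^ j)
          (Nat.Coprime.pow_right j hMcop)
        · rw [← map_pow]
          have h1 : x ^ Nat.card M = 1 :=
            congrArg Subtype.val (pow_card_eq_one' (x := (⟨x, hx⟩ : M)))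
          rw [h1, map_one]
          exact M.one_mem
        · exact hMj (φ x)
      have hMt : M ≠ ⊤ := by
        intro hMt
        rw [hMt, Subgroup.card_top] at hMcop
        exact hp.one_lt.ne' (Nat.Coprime.eq_one_of_dvd hMcop.symm hpdvd)
      by_cases hMb : M = ⊥
      · have hG : IsPGroup p G := by
          intro g
          refine ⟨j, ?_⟩
          have h1 := hMj g
          rw [hMb, Subgroup.mem_bot] at h1
          exact h1
        haveI := hG.isNilpotent
        infer_instance
      · exact hkey M hMn hMφ hMb hMt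
    · haveI : Fact (Nat.Prime 2) := ⟨Nat.prime_two⟩
      have hcard : Nat.card G = 2 ^ (Nat.card G).primeFactorsList.length :=
        Nat.eq_prime_pow_of_unique_prime_dvd Nat.card_pos.ne' (fun {d} hd hdvd => by
          by_contra hd2
          exact hodd ⟨d, hd, hd2, hdvd⟩)
      have hG : IsPGroup 2 G := IsPGroup.of_card hcard
      haveI := hG.isNilpotent
      infer_instance

end Cfsg.Agent.Helper1
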