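import Mathlib
import Cfsg.Agent.Helper1.FrobThm
import Cfsg.Agent.Helper1.FrobCompl
import Cfsg.Agent.Helper1.Basic3
import Cfsg.Agent.S0039
import Cfsg.Agent.S3383

set_option autoImplicit false

namespace Cfsg.Agent.Helper1

open Pointwise

/-- The structure attached to a Frobenius complement: its kernel, acting without fixed points,
and its nontrivial centre. -/
theorem frob_data {G : Type*} [Group G] [Finite G] (H : Subgroup G)
    (hH : Cfsg.IsFrobeniusComplement H) :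
    ∃ N : Subgroup G, (N : Set G) = Cfsg.frobeniusKernel H ∧ N.Normal ∧
      Subgroup.IsComplement' N H ∧ N ≠ ⊥ ∧
      (∀ h ∈ H, h ≠ 1 → N ⊓ Subgroup.centralizer {h} = ⊥) ∧ Subgroup.center H ≠ ⊥ := by
  have hH' := hH
  obtain ⟨hne, hnt, hTI⟩ := hH'
  obtain ⟨N, hNK, hNn, hc⟩ := frobenius_kernel_subgroup H hTI
  haveI := hNn
  have hNne : N ≠ ⊥ := by
    intro hbot
    apply hnt
    have h1 := (Subgroup.isComplement'_iff_card_mul_and_disjoint.mp hc).1
    rw [hbot, Subgroup.card_bot, one_mul] at h1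
    exact Subgroup.eq_top_of_card_eq _ h1
  have hfpf := (Cfsg.Agent.S0039.result N H hc hNne hne).mp hH
  exact ⟨N, hNK, hNn, hc, hNne, hfpf, fpf_center_ne_bot N H hc hNne hne hfpf⟩

theorem frob_conj_TI {G : Type*} [Group G] (H : Subgroup G)
    (hTI : ∀ g : G, g ∉ H → H ⊓ MulAut.conj g • H = ⊥) (g : G) :
    ∀ y : G, y ∉ MulAut.conj g • H →
      (MulAut.conj g • H) ⊓ MulAut.conj y • (MulAut.conj g • H) = ⊥ := by
  intro y hy
  rw [eq_bot_iff]
  intro w hw
  obtain ⟨hw1, hw2⟩ := Subgroup.mem_inf.mp hw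
  rw [mem_conj_smul] at hw1 hw2
  rw [mem_conj_smul] at hw2
  have hy' : g⁻¹ * y * g ∉ H := fun h => hy (mem_conj_smul.mpr h)
  have h1 : g⁻¹ * w * g ∈ H ⊓ MulAut.conj (g⁻¹ * y * g) • H := by
    refine Subgroup.mem_inf.mpr ⟨hw1, ?_⟩
    rw [mem_conj_smul]
    have e : (g⁻¹ * y * g)⁻¹ * (g⁻¹ * w * g) * (g⁻¹ * y * g) = g⁻¹ * (y⁻¹ * w * y) * g := by
      group
    rw [e]; exact hw2
  rw [hTI _ hy', Subgroup.mem_bot] at h1
  rw [Subgroup.mem_bot]
  have e : w = g * (g⁻¹ * w * g) * g⁻¹ := by group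
  rw [e, h1]; group

theorem frob_conj {G : Type*} [Group G] [Finite G] (A : Subgroup G) (g : G)
    (hA : Cfsg.IsFrobeniusComplement A) : Cfsg.IsFrobeniusComplement (MulAut.conj g • A) := by
  obtain ⟨hA1, hA2, hATI⟩ := hA
  refine ⟨?_, ?_, frob_conj_TI A hATI g⟩
  · intro h
    exact hA1 (Subgroup.card_eq_one.mp (by rw [← card_conj_smul A g, h, Subgroup.card_bot]))
  · intro h
    exact hA2 (Subgroup.eq_top_of_card_eq _ (by rw [← card_conj_smul A g, h, Subgroup.card_top]))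

/-- Of two Frobenius complements the smaller is conjugate into the larger. -/
theorem frob_compl_le_conj {G : Type*} [Group G] [Finite G] (H H₀ : Subgroup G)
    (hH : Cfsg.IsFrobeniusComplement H) (hH₀ : Cfsg.IsFrobeniusComplement H₀)
    (hle : Nat.card H₀ ≤ Nat.card H) : ∃ g : G, MulAut.conj g • H₀ ≤ H := by
  obtain ⟨N, hNK, hNn, hc, hNne, hfpf, -⟩ := frob_data H hH
  obtain ⟨N₀, hN₀K, hN₀n, hc₀, hN₀ne, hfpf₀, hZ₀⟩ := frob_data H₀ hH₀
  haveI := hNn
  haveI := hN₀n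
  have hH' := hH
  obtain ⟨-, -, hTI⟩ := hH'
  have hcard := (Subgroup.isComplement'_iff_card_mul_and_disjoint.mp hc).1
  have hcard₀ := (Subgroup.isComplement'_iff_card_mul_and_disjoint.mp hc₀).1
  have hdisj₀ := (Subgroup.isComplement'_iff_card_mul_and_disjoint.mp hc₀).2
  have hNle : Nat.card N ≤ Nat.card N₀ := by
    have h1 : Nat.card N * Nat.card H ≤ Nat.card N₀ * Nat.card H := by
      rw [hcard, ← hcard₀]
      exact Nat.mul_le_mul_left _ hle
    exact Nat.le_of_mul_le_mul_right h1 Nat.card_pos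
  have hNN₀ : N ≤ N₀ := by
    rcases (Cfsg.Agent.S3383.result H hH N hNK).2 N₀ hN₀n with h | h
    · exact h
    · exact le_of_eq (Subgroup.eq_of_le_of_card_ge h hNle).symm
  obtain ⟨⟨z, hzc⟩, hz1⟩ := (Subgroup.ne_bot_iff_exists_ne_one).mp hZ₀
  have hz1' : (z : G) ≠ 1 := fun h => hz1 (Subtype.ext (Subtype.ext h))
  have hzN : (z : G) ∉ N := by
    intro h
    exact hz1' (Subgroup.disjoint_def.mp hdisj₀ (hNN₀ h) z.2)
  have hzK : (z : G) ∉ Cfsg.frobeniusKernel H := by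
    rw [← hNK]; exact hzN
  have hex : ∃ g : G, (z : G) ∈ MulAut.conj g • H := by
    by_contra hne
    push_neg at hne
    exact hzK (Or.inr hne)
  obtain ⟨g, hg⟩ := hex
  have hsub : H₀ ≤ MulAut.conj g • H := by
    intro x hx
    by_contra hxn
    have hTI' := frob_conj_TI H hTI g x hxn
    have hzx : (z : G) ∈ MulAut.conj x • (MulAut.conj g • H) := by
      rw [mem_conj_smul]
      have hcomm : (⟨x, hx⟩ : H₀) * z = z * ⟨x, hx⟩ := Subgroup.mem_center_iff.mp hzc ⟨x, hx⟩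
      have hcomm' : x * (z : G) = (z : G) * x := congrArg Subtype.val hcomm
      have e : x⁻¹ * (z : G) * x = (z : G) := by
        calc x⁻¹ * (z : G) * x = x⁻¹ * ((z : G) * x) := by group
          _ = x⁻¹ * (x * (z : G)) := by rw [hcomm']
          _ = (z : G) := by group
      rw [e]; exact hg
    have h1 : (z : G) ∈ (MulAut.conj g • H) ⊓ MulAut.conj x • (MulAut.conj g • H) :=
      Subgroup.mem_inf.mpr ⟨hg, hzx⟩
    rw [hTI', Subgroup.mem_bot] at h1
    exact hz1' h1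
  refine ⟨g⁻¹, ?_⟩
  intro w hw
  rw [mem_conj_smul, inv_inv] at hw
  have h2 := hsub hw
  rw [mem_conj_smul] at h2
  have e : g⁻¹ * (g * w * g⁻¹) * g = w := by group
  rw [e] at h2
  exact h2

/-- A Frobenius complement contained in another one equals it. -/
theorem frob_compl_eq_of_le {G : Type*} [Group G] [Finite G] (A B : Subgroup G)
    (hA : Cfsg.IsFrobeniusComplement A) (hB : Cfsg.IsFrobeniusComplement B) (hAB : A ≤ B) :
    A = B := by
  by_contra hne
  obtain ⟨N, hNK, hNn, hc, hNne, hfpf, hZ⟩ := frob_data B hB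
  obtain ⟨hA1, hA2, hATI⟩ := hA
  obtain ⟨⟨z, hzc⟩, hz1⟩ := (Subgroup.ne_bot_iff_exists_ne_one).mp hZ
  have hz1' : (z : G) ≠ 1 := fun h => hz1 (Subtype.ext (Subtype.ext h))
  have hzcomm : ∀ b ∈ B, b * (z : G) = (z : G) * b := by
    intro b hb
    exact congrArg Subtype.val (Subgroup.mem_center_iff.mp hzc ⟨b, hb⟩)
  by_cases hzA : (z : G) ∈ A
  · obtain ⟨h, hhB, hhA⟩ : ∃ h, h ∈ B ∧ h ∉ A := by
      by_contra hcon
      push_neg at hcon
      exact hne (le_antisymm hAB hcon)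
    have h1 : (z : G) ∈ A ⊓ MulAut.conj h • A := by
      refine Subgroup.mem_inf.mpr ⟨hzA, ?_⟩
      rw [mem_conj_smul]
      have e : h⁻¹ * (z : G) * h = (z : G) := by
        calc h⁻¹ * (z : G) * h = h⁻¹ * ((z : G) * h) := by group
          _ = h⁻¹ * (h * (z : G)) := by rw [hzcomm h hhB]
          _ = (z : G) := by group
      rw [e]; exact hzA
    rw [hATI h hhA, Subgroup.mem_bot] at h1
    exact hz1' h1
  · obtain ⟨⟨x, hxA⟩, hx1⟩ := (Subgroup.ne_bot_iff_exists_ne_one).mp hA1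
    have hx1' : x ≠ 1 := fun h => hx1 (Subtype.ext h)
    have h1 : x ∈ A ⊓ MulAut.conj (z : G) • A := by
      refine Subgroup.mem_inf.mpr ⟨hxA, ?_⟩
      rw [mem_conj_smul]
      have e : (z : G)⁻¹ * x * (z : G) = x := by
        calc (z : G)⁻¹ * x * (z : G) = (z : G)⁻¹ * (x * (z : G)) := by group
          _ = (z : G)⁻¹ * ((z : G) * x) := by rw [hzcomm x (hAB hxA)]
          _ = x := by group
      rw [e]; exact hxA
    rw [hATI _ hzA, Subgroup.mem_bot] at h1
    exact hx1' h1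

/-- All Frobenius complements are conjugate. -/
theorem frob_compl_conj {G : Type*} [Group G] [Finite G] (H H₀ : Subgroup G)
    (hH : Cfsg.IsFrobeniusComplement H) (hH₀ : Cfsg.IsFrobeniusComplement H₀) :
    ∃ g : G, MulAut.conj g • H₀ = H := by
  rcases le_total (Nat.card H₀) (Nat.card H) with hle | hle
  · obtain ⟨g, hg⟩ := frob_compl_le_conj H H₀ hH hH₀ hle
    exact ⟨g, frob_compl_eq_of_le _ _ (frob_conj H₀ g hH₀) hH hg⟩
  · obtain ⟨g, hg⟩ := frob_compl_le_conj H₀ H hH₀ hH hle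
    have h1 := frob_compl_eq_of_le _ _ (frob_conj H g hH) hH₀ hg
    refine ⟨g⁻¹, ?_⟩
    rw [← h1, conj_smul_inv_smul]

end Cfsg.Agent.Helper1
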