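import Mathlib
import Cfsg.Agent.Helper1.FpfNil2

set_option autoImplicit false

universe u

open Cfsg Pointwise

namespace Cfsg.Agent.Helper1

theorem fpfN_restrict {G : Type*} [Group G] (φ : G ≃* G) (L : Subgroup G) (ψ : L ≃* L)
    (hψ : ∀ x : L, (ψ x : G) = φ x) (k : ℕ) (x : L) : ((fpfN ψ k x : L) : G) = fpfN φ k x := by
  induction k with
  | zero => rfl
  | succ k ih =>
    rw [fpfN_succ ψ k x, fpfN_succ φ k (x : G), ← ih, ← restrict_pow φ L ψ hψ k x]
    rfl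

theorem exists_restrict_split {G : Type*} [Group G] [Finite G] (φ : G ≃* G) (r : ℕ)
    (hr : φ ^ r = 1) (hN : ∀ x : G, fpfN φ r x = 1) (L : Subgroup G) (hL : ∀ x ∈ L, φ x ∈ L) :
    ∃ ψ : L ≃* L, ψ ^ r = 1 ∧ (∀ x : L, fpfN ψ r x = 1) ∧ ∀ x : L, (ψ x : G) = φ x := by
  obtain ⟨ψ, hψ⟩ := exists_restrict φ L hL
  refine ⟨ψ, ?_, ?_, hψ⟩
  · apply MulEquiv.ext
    intro x
    apply Subtype.ext
    rw [restrict_pow φ L ψ hψ r x, hr]
    rfl
  · intro x
    apply Subtype.ext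
    exact (fpfN_restrict φ L ψ hψ r x).trans (hN _)

theorem fpfN_quot {G : Type*} [Group G] (φ : G ≃* G) (N : Subgroup G) [N.Normal]
    (ψ : (G ⧸ N) ≃* (G ⧸ N))
    (hψ : ∀ x : G, ψ (QuotientGroup.mk x : G ⧸ N) = (QuotientGroup.mk (φ x) : G ⧸ N)) (k : ℕ)
    (x : G) :
    fpfN ψ k (QuotientGroup.mk x : G ⧸ N) = (QuotientGroup.mk (fpfN φ k x) : G ⧸ N) := by
  induction k with
  | zero => rfl
  | succ k ih =>
    rw [fpfN_succ ψ k, fpfN_succ φ k x, ih, quot_pow φ N ψ hψ k x]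
    rfl

theorem exists_quot_split {G : Type*} [Group G] [Finite G] (φ : G ≃* G) (r : ℕ)
    (hr : φ ^ r = 1) (hN : ∀ x : G, fpfN φ r x = 1) (N : Subgroup G) [N.Normal]
    (hNφ : ∀ x ∈ N, φ x ∈ N) :
    ∃ ψ : (G ⧸ N) ≃* (G ⧸ N), ψ ^ r = 1 ∧ (∀ y : G ⧸ N, fpfN ψ r y = 1) := by
  obtain ⟨ψ, hψ⟩ := exists_quot φ N hNφ
  refine ⟨ψ, ?_, ?_⟩
  · apply MulEquiv.ext
    intro y
    obtain ⟨x, rfl⟩ := QuotientGroup.mk_surjective y
    rw [quot_pow φ N ψ hψ r x, hr]
    rfl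
  · intro y
    obtain ⟨x, rfl⟩ := QuotientGroup.mk_surjective y
    have h := fpfN_quot φ N ψ hψ r x
    rw [hN] at h
    exact h

theorem twist_pow {G : Type*} [Group G] (φ : G ≃* G) (u : G) (k : ℕ) :
    (MulAut.conj u * φ) ^ k = MulAut.conj (fpfN φ k u) * φ ^ k := by
  induction k with
  | zero => rw [pow_zero, pow_zero, fpfN_zero, map_one, one_mul]
  | succ k ih =>
    rw [pow_succ, ih]
    apply MulEquiv.ext
    intro g
    show fpfN φ k u * (φ ^ k) (u * φ g * u⁻¹) * (fpfN φ k u)⁻¹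
      = fpfN φ (k + 1) u * (φ ^ (k + 1)) g * (fpfN φ (k + 1) u)⁻¹
    rw [fpfN_succ, map_mul, map_mul, map_inv, pow_succ]
    show fpfN φ k u * ((φ ^ k) u * (φ ^ k) (φ g) * ((φ ^ k) u)⁻¹) * (fpfN φ k u)⁻¹
      = fpfN φ k u * (φ ^ k) u * (φ ^ k) (φ g) * (fpfN φ k u * (φ ^ k) u)⁻¹
    group

theorem twist_fpfN {G : Type*} [Group G] (φ : G ≃* G) (u : G) (k : ℕ) (g : G) :
    fpfN (MulAut.conj u * φ) k g = fpfN φ k (g * u) * (fpfN φ k u)⁻¹ := by
  induction k with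
  | zero => rw [fpfN_zero, fpfN_zero, fpfN_zero, one_mul, inv_one]
  | succ k ih =>
    rw [fpfN_succ (MulAut.conj u * φ) k g, ih, twist_pow, fpfN_succ φ k (g * u),
      fpfN_succ φ k u, map_mul]
    show fpfN φ k (g * u) * (fpfN φ k u)⁻¹ * (fpfN φ k u * (φ ^ k) g * (fpfN φ k u)⁻¹)
      = fpfN φ k (g * u) * ((φ ^ k) g * (φ ^ k) u) * (fpfN φ k u * (φ ^ k) u)⁻¹
    group

theorem twist_split {G : Type*} [Group G] (φ : G ≃* G) (r : ℕ) (hr : φ ^ r = 1)
    (hN : ∀ x : G, fpfN φ r x = 1) (u : G) :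
    (MulAut.conj u * φ) ^ r = 1 ∧ ∀ g : G, fpfN (MulAut.conj u * φ) r g = 1 := by
  constructor
  · rw [twist_pow, hN, hr, map_one, one_mul]
  · intro g
    rw [twist_fpfN, hN, hN, inv_one, one_mul]

theorem fpfN_fixed {G : Type*} [Group G] (φ : G ≃* G) (x : G) (hx : φ x = x) (k : ℕ) :
    fpfN φ k x = x ^ k := by
  have hpow : ∀ i : ℕ, (φ ^ i) x = x := by
    intro i
    induction i with
    | zero => simp
    | succ i ih =>
      rw [pow_succ]
      show (φ ^ i) (φ x) = x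
      rw [hx, ih]
  induction k with
  | zero => rw [fpfN_zero, pow_zero]
  | succ k ih => rw [fpfN_succ, ih, hpow, pow_succ]

theorem split_fixed_eq_one {G : Type*} [Group G] [Finite G] (φ : G ≃* G) (r : ℕ)
    (hN : ∀ x : G, fpfN φ r x = 1) (Q : Subgroup G) (hcop : (Nat.card Q).Coprime r) :
    ∀ y ∈ Q, φ y = y → y = 1 := by
  intro y hy hfix
  have h1 : y ^ r = 1 := by rw [← fpfN_fixed φ y hfix r]; exact hN y
  have h2 : y ^ Nat.card Q = 1 := congrArg Subtype.val (pow_card_eq_one' (x := (⟨y, hy⟩ : Q)))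
  have h3 : y ∈ (⊥ : Subgroup G) :=
    mem_of_pow_mem_coprime ⊥ y (Nat.card Q) r hcop (by rw [h2]; exact Subgroup.one_mem _)
      (by rw [h1]; exact Subgroup.one_mem _)
  exact Subgroup.mem_bot.mp h3

theorem exists_restrict_fpf' {G : Type*} [Group G] [Finite G] (φ : G ≃* G) (r : ℕ)
    (hr : φ ^ r = 1) (L : Subgroup G) (hL : ∀ x ∈ L, φ x ∈ L)
    (hLf : ∀ y ∈ L, φ y = y → y = 1) :
    ∃ ψ : L ≃* L, MonoidHom.FixedPointFree (ψ : L →* L) ∧ ψ ^ r = 1 ∧
      ∀ x : L, (ψ x : G) = φ x := by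
  obtain ⟨ψ, hψ⟩ := exists_restrict φ L hL
  refine ⟨ψ, ?_, ?_, hψ⟩
  · intro x hx
    have h1 : φ (x : G) = x := by
      rw [← hψ x]
      exact congrArg Subtype.val hx
    exact Subtype.ext (hLf _ x.2 h1)
  · apply MulEquiv.ext
    intro x
    apply Subtype.ext
    rw [restrict_pow φ L ψ hψ r x, hr]
    rfl

theorem mem_normalizer_of_conj_mem {G : Type*} [Group G] [Finite G] (H : Subgroup G) (g : G)
    (h : ∀ x ∈ H, g * x * g⁻¹ ∈ H) : g ∈ Subgroup.normalizer (H : Set G) := by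
  have hle : H.map (MulAut.conj g : G →* G) ≤ H := by
    rintro _ ⟨x, hx, rfl⟩
    exact h x hx
  have hinj : Function.Injective ((MulAut.conj g : G →* G)) := (MulAut.conj g).injective
  have heq : H.map (MulAut.conj g : G →* G) = H := by
    apply Subgroup.eq_of_le_of_card_ge hle
    exact le_of_eq (Subgroup.card_map_of_injective hinj).symm
  exact Subgroup.mem_normalizer_iff_map_conj_eq.mpr heq

/-- Generalised key lemma: a splitting automorphism `φ` (`φ ^ r = 1`, all norms trivial), an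
invariant abelian normal subgroup `V` and an invariant subgroup `Q` of coprime order on which
`φ` is fixed-point-free: then `Q` centralizes `V`. -/
theorem split_centralizes {G : Type*} [Group G] [Finite G] (φ : G ≃* G) (r : ℕ) (hrp : r.Prime)
    (hr : φ ^ r = 1) (hN : ∀ g : G, fpfN φ r g = 1)
    (V : Subgroup G) [hVn : V.Normal] (hVc : ∀ a ∈ V, ∀ b ∈ V, a * b = b * a)
    (hVφ : ∀ x ∈ V, φ x ∈ V) (Q : Subgroup G) (hQφ : ∀ x ∈ Q, φ x ∈ Q)
    (hQf : ∀ y ∈ Q, φ y = y → y = 1)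
    (hcop : (Nat.card Q).Coprime (Nat.card V)) :
    ∀ z ∈ Q, ∀ v ∈ V, z * v * z⁻¹ = v := by
  classical
  letI : CommGroup V :=
    { (inferInstance : Group V) with
      mul_comm := fun a b => Subtype.ext (hVc a a.2 b b.2) }
  haveI : Fintype Q := Fintype.ofFinite Q
  obtain ⟨r', rfl⟩ : ∃ r', r = r' + 1 := ⟨r - 1, by have := hrp.pos; omega⟩
  obtain ⟨cj, hcj⟩ : ∃ cj : G → (V →* V), ∀ g (w : V), ((cj g w : V) : G) = g * w * g⁻¹ :=
    ⟨fun g => (MulAut.conjNormal g : V ≃* V).toMonoidHom, fun g w => rfl⟩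
  obtain ⟨pv, hpv⟩ : ∃ pv : ℕ → V → V, ∀ i (w : V), ((pv i w : V) : G) = (φ ^ i) (w : G) :=
    ⟨fun i w => ⟨(φ ^ i) (w : G), pow_mem_of_inv φ V hVφ i w w.2⟩, fun i w => rfl⟩
  have hA : ∀ (y : G) (w : V) (k : ℕ),
      ((∏ i ∈ Finset.range k, cj (fpfN φ i y) (pv i w) : V) : G) = fpfM φ (w : G) y k := by
    intro y w k
    induction k with
    | zero =>
      rw [Finset.prod_range_zero, fpfM_zero]
      rfl
    | succ k ih =>
      rw [Finset.prod_range_succ, fpfM_succ, ← ih, ← hpv k w, ← hcj (fpfN φ k y) (pv k w)]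
      rfl
  have hB : ∀ (y : G) (w : V),
      ∏ i ∈ Finset.range (r' + 1), cj (fpfN φ i y) (pv i w) = 1 := by
    intro y w
    apply Subtype.ext
    rw [hA]
    have h1 := fpfN_mul φ (w : G) y (r' + 1)
    rw [hN, hN, mul_one] at h1
    exact h1.symm
  obtain ⟨nq, hnq⟩ : ∃ nq : ℕ → Q → Q, ∀ i (y : Q), ((nq i y : Q) : G) = fpfN φ i (y : G) :=
    ⟨fun i y => ⟨fpfN φ i (y : G), fpfN_mem φ Q hQφ i y y.2⟩, fun i y => rfl⟩
  obtain ⟨ψ, hψf, hψr, hψ⟩ := exists_restrict_fpf' φ (r' + 1) hr Q hQφ hQf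
  have hC : ∀ i, 0 < i → i < r' + 1 → Function.Bijective (nq i) := by
    intro i hi0 hir
    have hinj : Function.Injective (nq i) := by
      intro y y' hyy
      obtain ⟨u, hu⟩ := hψf.commutatorMap_surjective y
      obtain ⟨u', hu'⟩ := hψf.commutatorMap_surjective y'
      have e1 : (y : G) = (u : G) * (φ (u : G))⁻¹ := by
        rw [← hu, ← hψ u]
        exact div_eq_mul_inv (u : G) ((ψ u : Q) : G)
      have e2 : (y' : G) = (u' : G) * (φ (u' : G))⁻¹ := by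
        rw [← hu', ← hψ u']
        exact div_eq_mul_inv (u' : G) ((ψ u' : Q) : G)
      have h1 : fpfN φ i (y : G) = fpfN φ i (y' : G) := by
        rw [← hnq i y, ← hnq i y', hyy]
      rw [e1, e2, fpfN_comm, fpfN_comm] at h1
      have h2 := aux_cancel h1
      have h3 : (φ ^ i) ((u' : G)⁻¹ * (u : G)) = (u' : G)⁻¹ * (u : G) := by
        rw [map_mul, map_inv]
        exact h2
      have h3' : (ψ ^ i) (u'⁻¹ * u) = u'⁻¹ * u := by
        apply Subtype.ext
        rw [restrict_pow φ Q ψ hψ i (u'⁻¹ * u)]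
        exact h3
      have h4 := fpf_pow ψ hψf (r' + 1) hrp hψr i hi0 hir _ h3'
      have h6 : u = u' := (inv_mul_eq_one.mp h4).symm
      rw [← hu, ← hu', h6]
    exact ⟨hinj, Finite.injective_iff_surjective.mp hinj⟩
  have hcjmul : ∀ (g h : G) (w : V), cj g (cj h w) = cj (g * h) w := by
    intro g h w
    apply Subtype.ext
    rw [hcj, hcj, hcj]
    group
  have hD : ∀ z ∈ Q, ∀ w : V, cj z (∏ y : Q, cj (y : G) w) = ∏ y : Q, cj (y : G) w := by
    intro z hz w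
    rw [map_prod]
    exact Fintype.prod_equiv (Equiv.mulLeft (⟨z, hz⟩ : Q))
      (fun y : Q => cj z (cj (y : G) w)) (fun y : Q => cj (y : G) w)
      (fun y => hcjmul z (y : G) w)
  intro z hz v hv
  obtain ⟨w, hw⟩ : ∃ w : V, (w : G) = v := ⟨⟨v, hv⟩, rfl⟩
  have hcj1 : ∀ w' : V, cj 1 w' = w' := by
    intro w'
    apply Subtype.ext
    rw [hcj]
    group
  have hpv0 : pv 0 w = w := by
    apply Subtype.ext
    simp [hpv]
  have hsum : ∏ y : Q, ∏ i ∈ Finset.range (r' + 1), cj (fpfN φ i (y : G)) (pv i w) = 1 :=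
    Finset.prod_eq_one (fun y _ => hB (y : G) w)
  rw [Finset.prod_comm, Finset.prod_range_succ'] at hsum
  have h0 : ∏ y : Q, cj (fpfN φ 0 (y : G)) (pv 0 w) = w ^ Nat.card Q := by
    rw [Nat.card_eq_fintype_card, ← Finset.card_univ, ← Finset.prod_const]
    apply Finset.prod_congr rfl
    intro y _
    rw [fpfN_zero, hcj1, hpv0]
  have hi : ∀ i ∈ Finset.range r', ∏ y : Q, cj (fpfN φ (i + 1) (y : G)) (pv (i + 1) w)
      = ∏ y : Q, cj (y : G) (pv (i + 1) w) := by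
    intro i hi
    rw [Finset.mem_range] at hi
    exact Fintype.prod_bijective (nq (i + 1)) (hC (i + 1) (Nat.succ_pos i) (by omega))
      (fun y : Q => cj (fpfN φ (i + 1) (y : G)) (pv (i + 1) w))
      (fun y : Q => cj (y : G) (pv (i + 1) w))
      (fun y => by
        show cj (fpfN φ (i + 1) (y : G)) (pv (i + 1) w)
          = cj ((nq (i + 1) y : Q) : G) (pv (i + 1) w)
        rw [hnq])
  rw [Finset.prod_congr rfl hi, h0] at hsum
  obtain ⟨T, hT⟩ : ∃ T : V, T = ∏ i ∈ Finset.range r', ∏ y : Q, cj (y : G) (pv (i + 1) w) :=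
    ⟨_, rfl⟩
  rw [← hT] at hsum
  have hTz : cj z T = T := by
    rw [hT, map_prod]
    apply Finset.prod_congr rfl
    intro i _
    exact hD z hz (pv (i + 1) w)
  have hwT : w ^ Nat.card Q = T⁻¹ := eq_inv_of_mul_eq_one_right hsum
  have hzw : (cj z w) ^ Nat.card Q = w ^ Nat.card Q := by
    rw [← map_pow, hwT, map_inv, hTz]
  have he : (cj z w * w⁻¹) ^ Nat.card Q = 1 := by
    rw [mul_pow, hzw, inv_pow, mul_inv_cancel]
  have he2 : (cj z w * w⁻¹) ^ Nat.card V = 1 := pow_card_eq_one'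
  have he3 : cj z w * w⁻¹ = 1 := by
    have h1 : orderOf (cj z w * w⁻¹) ∣ Nat.card Q := orderOf_dvd_of_pow_eq_one he
    have h2 : orderOf (cj z w * w⁻¹) ∣ Nat.card V := orderOf_dvd_of_pow_eq_one he2
    have h3 : orderOf (cj z w * w⁻¹) ∣ 1 := by
      have h4 := Nat.dvd_gcd h1 h2
      rw [hcop.gcd_eq_one] at h4
      exact h4
    exact orderOf_eq_one_iff.mp (Nat.dvd_one.mp h3)
  have he4 : cj z w = w := mul_inv_eq_one.mp he3
  rw [← hw, ← hcj z w, he4]

/-- A `p`-subgroup `Z` whose elements commute with the splitting automorphism `φ` on the abelian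
normal `p'`-subgroup `V` centralizes `V`. -/
theorem split_centralizes_Z {G : Type*} [Group G] [Finite G] (φ : G ≃* G) (p : ℕ) (hp : p.Prime)
    (V : Subgroup G) [hVn : V.Normal] (hVc : ∀ a ∈ V, ∀ b ∈ V, a * b = b * a)
    (hVφ : ∀ x ∈ V, φ x ∈ V) (Z : Subgroup G) (hZ : ∃ k, Nat.card Z = p ^ k)
    (hcomm : ∀ u ∈ Z, ∀ v ∈ V, φ (u * v * u⁻¹) = u * φ v * u⁻¹)
    (hN : ∀ u ∈ Z, ∀ v ∈ V, fpfN (MulAut.conj u * φ) p v = 1)
    (hcop : (Nat.card V).Coprime p) :
    ∀ u ∈ Z, ∀ v ∈ V, u * v * u⁻¹ = v := by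
  classical
  letI : CommGroup V :=
    { (inferInstance : Group V) with
      mul_comm := fun a b => Subtype.ext (hVc a a.2 b b.2) }
  haveI : Fintype Z := Fintype.ofFinite Z
  obtain ⟨p', rfl⟩ : ∃ p', p = p' + 1 := ⟨p - 1, by have := hp.pos; omega⟩
  obtain ⟨cj, hcj⟩ : ∃ cj : G → (V →* V), ∀ g (w : V), ((cj g w : V) : G) = g * w * g⁻¹ :=
    ⟨fun g => (MulAut.conjNormal g : V ≃* V).toMonoidHom, fun g w => rfl⟩
  obtain ⟨pv, hpv⟩ : ∃ pv : ℕ → V → V, ∀ i (w : V), ((pv i w : V) : G) = (φ ^ i) (w : G) :=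
    ⟨fun i w => ⟨(φ ^ i) (w : G), pow_mem_of_inv φ V hVφ i w w.2⟩, fun i w => rfl⟩
  have hA0 : ∀ u ∈ Z, ∀ (k : ℕ) (w : G), w ∈ V →
      ((MulAut.conj u * φ) ^ k) w = u ^ k * (φ ^ k) w * (u ^ k)⁻¹ := by
    intro u hu k
    induction k with
    | zero =>
      intro w _
      simp
    | succ k ih =>
      intro w hw
      rw [pow_succ' (MulAut.conj u * φ) k]
      show u * φ (((MulAut.conj u * φ) ^ k) w) * u⁻¹ = _
      rw [ih w hw, hcomm (u ^ k) (Z.pow_mem hu k) _ (pow_mem_of_inv φ V hVφ k w hw),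
        pow_succ' φ k, pow_succ' u k]
      generalize u ^ k = A
      show u * (A * φ ((φ ^ k) w) * A⁻¹) * u⁻¹ = u * A * φ ((φ ^ k) w) * (u * A)⁻¹
      group
  have hA : ∀ u ∈ Z, ∀ (w : V) (k : ℕ),
      ((∏ i ∈ Finset.range k, cj (u ^ i) (pv i w) : V) : G)
        = fpfN (MulAut.conj u * φ) k (w : G) := by
    intro u hu w k
    induction k with
    | zero =>
      rw [Finset.prod_range_zero, fpfN_zero]
      rfl
    | succ k ih =>
      rw [Finset.prod_range_succ, fpfN_succ, ← ih, hA0 u hu k (w : G) w.2, ← hpv k w,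
        ← hcj (u ^ k) (pv k w)]
      rfl
  have hB : ∀ u ∈ Z, ∀ w : V, ∏ i ∈ Finset.range (p' + 1), cj (u ^ i) (pv i w) = 1 := by
    intro u hu w
    apply Subtype.ext
    rw [hA u hu w]
    exact hN u hu (w : G) w.2
  have hcj1 : ∀ w' : V, cj 1 w' = w' := by
    intro w'
    apply Subtype.ext
    rw [hcj]
    group
  have hpv0 : ∀ w : V, pv 0 w = w := by
    intro w
    apply Subtype.ext
    simp [hpv]
  have hcjmul : ∀ (g h : G) (w : V), cj g (cj h w) = cj (g * h) w := by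
    intro g h w
    apply Subtype.ext
    rw [hcj, hcj, hcj]
    group
  have hNa : ∀ w : V, ∏ i ∈ Finset.range p', pv (i + 1) w = w⁻¹ := by
    intro w
    have h1 := hB 1 Z.one_mem w
    rw [Finset.prod_range_succ'] at h1
    have h2 : ∏ i ∈ Finset.range p', cj ((1 : G) ^ (i + 1)) (pv (i + 1) w)
        = ∏ i ∈ Finset.range p', pv (i + 1) w := by
      apply Finset.prod_congr rfl
      intro i _
      rw [one_pow, hcj1]
    rw [h2, pow_zero, hcj1, hpv0] at h1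
    exact eq_inv_of_mul_eq_one_left h1
  have hkey : ∀ w : V, w ^ Nat.card Z = ∏ u : Z, cj (u : G) w := by
    intro w
    have hsum : ∏ u : Z, ∏ i ∈ Finset.range (p' + 1), cj ((u : G) ^ i) (pv i w) = 1 :=
      Finset.prod_eq_one (fun u _ => hB (u : G) u.2 w)
    rw [Finset.prod_comm, Finset.prod_range_succ'] at hsum
    have h0 : ∏ u : Z, cj ((u : G) ^ 0) (pv 0 w) = w ^ Nat.card Z := by
      rw [Nat.card_eq_fintype_card, ← Finset.card_univ, ← Finset.prod_const]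
      apply Finset.prod_congr rfl
      intro u _
      rw [pow_zero, hcj1, hpv0]
    have hi : ∀ i ∈ Finset.range p', ∏ u : Z, cj ((u : G) ^ (i + 1)) (pv (i + 1) w)
        = ∏ u : Z, cj (u : G) (pv (i + 1) w) := by
      intro i hi
      rw [Finset.mem_range] at hi
      have hc : (Nat.card Z).Coprime (i + 1) := by
        obtain ⟨k, hk⟩ := hZ
        rw [hk]
        apply Nat.Coprime.pow_left
        rw [Nat.Prime.coprime_iff_not_dvd hp]
        intro hdvd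
        have := Nat.le_of_dvd (Nat.succ_pos i) hdvd
        omega
      exact Fintype.prod_equiv (powCoprime hc)
        (fun u : Z => cj ((u : G) ^ (i + 1)) (pv (i + 1) w))
        (fun u : Z => cj (u : G) (pv (i + 1) w))
        (fun u => rfl)
    rw [Finset.prod_congr rfl hi, h0] at hsum
    have h3 : ∏ i ∈ Finset.range p', ∏ u : Z, cj (u : G) (pv (i + 1) w)
        = (∏ u : Z, cj (u : G) w)⁻¹ := by
      rw [Finset.prod_comm, ← Finset.prod_inv_distrib]
      apply Finset.prod_congr rfl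
      intro u _
      rw [← map_prod (cj (u : G)) (fun i => pv (i + 1) w) (Finset.range p'), hNa w, map_inv]
    rw [h3] at hsum
    exact (inv_mul_eq_one.mp hsum).symm
  have hD : ∀ z ∈ Z, ∀ w : V, cj z (∏ u : Z, cj (u : G) w) = ∏ u : Z, cj (u : G) w := by
    intro z hz w
    rw [map_prod]
    exact Fintype.prod_equiv (Equiv.mulLeft (⟨z, hz⟩ : Z))
      (fun u : Z => cj z (cj (u : G) w)) (fun u : Z => cj (u : G) w)
      (fun u => hcjmul z (u : G) w)
  intro u hu v hv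
  obtain ⟨w, hw⟩ : ∃ w : V, (w : G) = v := ⟨⟨v, hv⟩, rfl⟩
  have hzw : (cj u w) ^ Nat.card Z = w ^ Nat.card Z := by
    rw [← map_pow, hkey w, hD u hu w]
  have he : (cj u w * w⁻¹) ^ Nat.card Z = 1 := by
    rw [mul_pow, hzw, inv_pow, mul_inv_cancel]
  have he2 : (cj u w * w⁻¹) ^ Nat.card V = 1 := pow_card_eq_one'
  have he3 : cj u w * w⁻¹ = 1 := by
    have h1 : orderOf (cj u w * w⁻¹) ∣ Nat.card Z := orderOf_dvd_of_pow_eq_one he
    have h2 : orderOf (cj u w * w⁻¹) ∣ Nat.card V := orderOf_dvd_of_pow_eq_one he2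
    have hc : (Nat.card Z).Coprime (Nat.card V) := by
      obtain ⟨k, hk⟩ := hZ
      rw [hk]
      exact Nat.Coprime.pow_left k hcop.symm
    have h3 : orderOf (cj u w * w⁻¹) ∣ 1 := by
      have h4 := Nat.dvd_gcd h1 h2
      rw [hc.gcd_eq_one] at h4
      exact h4
    exact orderOf_eq_one_iff.mp (Nat.dvd_one.mp h3)
  have he4 : cj u w = w := mul_inv_eq_one.mp he3
  rw [← hw, ← hcj u w, he4]

end Cfsg.Agent.Helper1
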