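import Mathlib
import Cfsg.Agent.Helper1.Kegel1

set_option autoImplicit false

universe u

open Cfsg Pointwise

namespace Cfsg.Agent.Helper1

/-- A `φ`-invariant `p`-subgroup centralizes an invariant abelian normal `p'`-subgroup, for a
splitting automorphism `φ` of order dividing `p`. -/
theorem split_pgroup_centralizes {G : Type*} [Group G] [Finite G] (φ : G ≃* G) (p : ℕ)
    (hp : p.Prime) (hr : φ ^ p = 1) (hN : ∀ g : G, fpfN φ p g = 1)
    (V : Subgroup G) [hVn : V.Normal] (hVc : ∀ a ∈ V, ∀ b ∈ V, a * b = b * a)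
    (hVφ : ∀ x ∈ V, φ x ∈ V) (hcop : (Nat.card V).Coprime p)
    (S : Subgroup G) (hS : IsPGroup p S) (hSφ : ∀ s ∈ S, φ s ∈ S) :
    ∀ s ∈ S, ∀ v ∈ V, s * v * s⁻¹ = v := by
  haveI : Fact p.Prime := ⟨hp⟩
  obtain ⟨a, ha⟩ := exists_restrict φ V hVφ
  obtain ⟨ρ, hρ⟩ : ∃ ρ : G →* MulAut V, ∀ g (w : V), ((ρ g w : V) : G) = g * w * g⁻¹ :=
    ⟨MulAut.conjNormal, fun g w => rfl⟩
  obtain ⟨Z, hZdef⟩ : ∃ Z : Subgroup G,
      Z = S ⊓ (Subgroup.centralizer ({a} : Set (MulAut V))).comap ρ := ⟨_, rfl⟩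
  have hZS : Z ≤ S := by rw [hZdef]; exact inf_le_left
  have hZcomm : ∀ u ∈ Z, ρ u * a = a * ρ u := by
    intro u hu
    rw [hZdef] at hu
    have h1 : ρ u ∈ Subgroup.centralizer ({a} : Set (MulAut V)) := hu.2
    exact Subgroup.mem_centralizer_singleton_iff.mp h1
  have hZcent := split_centralizes_Z φ p hp V hVc hVφ Z (IsPGroup.iff_card.mp (hS.to_le hZS))
    (by
      intro u hu v hv
      have h1 : ((ρ u (a ⟨v, hv⟩) : V) : G) = ((a (ρ u ⟨v, hv⟩) : V) : G) :=
        congrArg (fun f : MulAut V => ((f ⟨v, hv⟩ : V) : G)) (hZcomm u hu)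
      rw [hρ, ha, ha, hρ] at h1
      exact h1.symm)
    (fun u _ v _ => (twist_split φ p hr hN u).2 v) hcop
  have hap : a ^ p = 1 := by
    apply MulEquiv.ext
    intro x
    apply Subtype.ext
    rw [restrict_pow φ V a ha p x, hr]
    rfl
  have hconj : ∀ s : G, a * ρ s * a⁻¹ = ρ (φ s) := by
    intro s
    rw [mul_inv_eq_iff_eq_mul]
    apply MulEquiv.ext
    intro w
    apply Subtype.ext
    show ((a (ρ s w) : V) : G) = ((ρ (φ s) (a w) : V) : G)
    rw [ha, hρ, hρ, ha, map_mul, map_mul, map_inv]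
  by_contra hcon
  push_neg at hcon
  obtain ⟨s₀, hs₀, v₀, hv₀, hne₀⟩ := hcon
  have hUne : S.map ρ ≠ ⊥ := by
    intro hbot
    have h1 : ρ s₀ ∈ S.map ρ := Subgroup.mem_map_of_mem ρ hs₀
    rw [hbot, Subgroup.mem_bot] at h1
    apply hne₀
    have h2 : ((ρ s₀ ⟨v₀, hv₀⟩ : V) : G) = s₀ * v₀ * s₀⁻¹ := hρ s₀ ⟨v₀, hv₀⟩
    rw [h1] at h2
    exact h2.symm
  have hUp : IsPGroup p (S.map ρ) := hS.map ρ
  have hAp : IsPGroup p (Subgroup.zpowers a) := by
    intro g
    refine ⟨1, ?_⟩
    obtain ⟨g, hg⟩ := g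
    obtain ⟨j, rfl⟩ := Subgroup.mem_zpowers_iff.mp hg
    apply Subtype.ext
    show (a ^ j) ^ (p ^ 1) = 1
    rw [pow_one, ← zpow_natCast, ← zpow_mul, mul_comm, zpow_mul, zpow_natCast, hap, one_zpow]
  have hAU : Subgroup.zpowers a
      ≤ Subgroup.normalizer ((S.map ρ : Subgroup (MulAut V)) : Set (MulAut V)) := by
    rw [Subgroup.zpowers_le]
    apply mem_normalizer_of_conj_mem
    rintro _ ⟨s, hs, rfl⟩
    rw [hconj]
    exact Subgroup.mem_map_of_mem ρ (hSφ s hs)
  obtain ⟨c, hc, hc1, hcfix⟩ := Helper21.exists_fixed_of_pgroup_normalizes (S.map ρ)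
    (Subgroup.zpowers a) hUp hAp hAU hUne
  obtain ⟨s, hs, rfl⟩ := hc
  have hsZ : s ∈ Z := by
    rw [hZdef]
    refine Subgroup.mem_inf.mpr ⟨hs, ?_⟩
    show ρ s ∈ Subgroup.centralizer ({a} : Set (MulAut V))
    rw [Subgroup.mem_centralizer_singleton_iff]
    have h1 := hcfix a (Subgroup.mem_zpowers a)
    exact (mul_inv_eq_iff_eq_mul.mp h1).symm
  apply hc1
  apply MulEquiv.ext
  intro w
  apply Subtype.ext
  rw [hρ]
  exact hZcent s hsZ (w : G) w.2

theorem normal_of_sup_normal_of_centralizes {G : Type*} [Group G] [Finite G] (S V : Subgroup G)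
    [hVn : V.Normal] (hSV : (S ⊔ V : Subgroup G).Normal)
    (hcop : (Nat.card S).Coprime (Nat.card V))
    (hcent : ∀ z ∈ S, ∀ v ∈ V, z * v * z⁻¹ = v) : S.Normal := by
  constructor
  intro x hx g
  have hmem : g * x * g⁻¹ ∈ (S ⊔ V : Subgroup G) := hSV.conj_mem x (Subgroup.mem_sup_left hx) g
  have hmem' : g * x * g⁻¹ ∈ (S : Set G) * (V : Set G) := by
    rw [← Subgroup.mul_normal]
    exact hmem
  obtain ⟨z, hz, v, hv, hzv⟩ := Set.mem_mul.mp hmem'
  have hcomm : Commute z v := by
    have h1 := hcent z hz v hv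
    show z * v = v * z
    calc z * v = z * v * z⁻¹ * z := by group
      _ = v * z := by rw [h1]
  apply mem_of_pow_mem_coprime S (g * x * g⁻¹) (Nat.card S) (Nat.card V) hcop
  · rw [conj_pow]
    have h1 : x ^ Nat.card S = 1 := congrArg Subtype.val (pow_card_eq_one' (x := (⟨x, hx⟩ : S)))
    rw [h1, mul_one, mul_inv_cancel]
    exact Subgroup.one_mem _
  · rw [← hzv, hcomm.mul_pow]
    have h1 : v ^ Nat.card V = 1 := congrArg Subtype.val (pow_card_eq_one' (x := (⟨v, hv⟩ : V)))
    rw [h1, mul_one]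
    exact Subgroup.pow_mem _ hz _

theorem exists_twist_sylow {G : Type*} [Group G] [Finite G] (φ : G ≃* G) (ℓ : ℕ) [Fact ℓ.Prime]
    (S : Sylow ℓ G) : ∃ g : G, ∀ s ∈ (S : Subgroup G), g * φ s * g⁻¹ ∈ (S : Subgroup G) := by
  obtain ⟨g, hg⟩ := MulAction.exists_smul_eq G ((φ : MulAut G) • S) S
  refine ⟨g, fun s hs => ?_⟩
  have h1 : φ s ∈ ((φ : MulAut G) • (S : Subgroup G)) :=
    Subgroup.smul_mem_pointwise_smul s (φ : MulAut G) (S : Subgroup G) hs
  have h2 : g * φ s * g⁻¹ ∈ (MulAut.conj g • ((φ : MulAut G) • (S : Subgroup G))) :=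
    Subgroup.smul_mem_pointwise_smul (φ s) (MulAut.conj g) _ h1
  have h3 : (MulAut.conj g • ((φ : MulAut G) • (S : Subgroup G))) = (S : Subgroup G) := by
    rw [← Sylow.pointwise_smul_def, ← Sylow.pointwise_smul_def, ← Sylow.smul_def, hg]
  rw [h3] at h2
  exact h2

/-- Solvable case of Kegel's theorem. -/
theorem split_solvable_aux (p : ℕ) (hp : p.Prime) :
    ∀ (n : ℕ) (G : Type u) [Group G] [Finite G],
      Nat.card G = n → Group.IsSolvable G → ∀ φ : G ≃* G,
      φ ^ p = 1 → (∀ x : G, fpfN φ p x = 1) → Group.IsNilpotent G := by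
  intro n
  induction n using Nat.strong_induction_on with
  | _ n ih =>
    intro G _ _ hn hsol φ hr hN
    rcases subsingleton_or_nontrivial G with hsub | hnt
    · exact Group.isNilpotent_of_subsingleton
    haveI := hsol
    obtain ⟨q, hq, V, hVchar, hVne, hVc, hVq⟩ := exists_char_elemAbelian G
    haveI : Fact q.Prime := ⟨hq⟩
    haveI hVn : V.Normal := Subgroup.normal_of_characteristic V
    have hVφ : ∀ x ∈ V, φ x ∈ V := by
      intro x hx
      have h1 := (Subgroup.characteristic_iff_map_eq.mp hVchar) φ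
      exact h1.le (Subgroup.mem_map_of_mem _ hx)
    have hVpg : IsPGroup q V := fun x =>
      ⟨1, Subtype.ext (by rw [pow_one]; exact hVq x x.2)⟩
    obtain ⟨ψ, hψr, hψN⟩ := exists_quot_split φ p hr hN V hVφ
    have hlt : Nat.card (G ⧸ V) < n := by
      rw [← hn]; exact card_quotient_lt_of_ne_bot V hVne
    haveI hqn : Group.IsNilpotent (G ⧸ V) :=
      ih _ hlt (G ⧸ V) rfl inferInstance ψ hψr hψN
    refine ((Group.isNilpotent_of_finite_tfae (G := G)).out 0 3).mpr ?_
    intro ℓ hℓ S
    haveI := hℓ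
    have hSVn : ((S : Subgroup G) ⊔ V : Subgroup G).Normal := by
      have h0 : ∀ (p : ℕ) (_hp : Fact p.Prime) (P : Sylow p (G ⧸ V)),
          (↑P : Subgroup (G ⧸ V)).Normal :=
        ((Group.isNilpotent_of_finite_tfae (G := G ⧸ V)).out 0 3).mp hqn
      have h1 : ((S.mapSurjective (QuotientGroup.mk'_surjective V) : Sylow ℓ (G ⧸ V)) :
          Subgroup (G ⧸ V)).Normal := h0 ℓ hℓ _
      rw [Sylow.coe_mapSurjective] at h1
      have h2 := h1.comap (QuotientGroup.mk' V)
      rw [Subgroup.comap_map_eq, QuotientGroup.ker_mk'] at h2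
      exact h2
    rcases eq_or_ne ℓ q with hℓq | hℓq
    · subst hℓq
      have hle : V ≤ (S : Subgroup G) := normal_pgroup_le_sylow V hVpg S
      have heq : ((S : Subgroup G) ⊔ V : Subgroup G) = S := sup_eq_left.mpr hle
      rw [heq] at hSVn
      exact hSVn
    · have hcop : (Nat.card (S : Subgroup G)).Coprime (Nat.card V) := by
        obtain ⟨a, ha⟩ := IsPGroup.iff_card.mp S.isPGroup'
        obtain ⟨b, hb⟩ := IsPGroup.iff_card.mp hVpg
        rw [ha, hb]
        exact Nat.Coprime.pow a b ((Nat.coprime_primes hℓ.out hq).mpr hℓq)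
      obtain ⟨g, hg⟩ := exists_twist_sylow φ ℓ S
      obtain ⟨hxr, hxN⟩ := twist_split φ p hr hN g
      have hVx : ∀ v ∈ V, (MulAut.conj g * φ) v ∈ V := fun v hv =>
        hVn.conj_mem (φ v) (hVφ v hv) g
      have hSx : ∀ s ∈ (S : Subgroup G), (MulAut.conj g * φ) s ∈ (S : Subgroup G) := hg
      have hcent : ∀ z ∈ (S : Subgroup G), ∀ v ∈ V, z * v * z⁻¹ = v := by
        rcases eq_or_ne ℓ p with hℓp | hℓp
        · have hqp : q ≠ p := fun h => hℓq (hℓp.trans h.symm)
          have hcopV : (Nat.card V).Coprime p := by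
            obtain ⟨b, hb⟩ := IsPGroup.iff_card.mp hVpg
            rw [hb]
            exact Nat.Coprime.pow_left b ((Nat.coprime_primes hq hp).mpr hqp)
          have hSp : IsPGroup p (S : Subgroup G) := by rw [← hℓp]; exact S.isPGroup'
          exact split_pgroup_centralizes (MulAut.conj g * φ) p hp hxr hxN V hVc hVx hcopV
            (S : Subgroup G) hSp hSx
        · have hcopS : (Nat.card (S : Subgroup G)).Coprime p := by
            obtain ⟨a, ha⟩ := IsPGroup.iff_card.mp S.isPGroup'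
            rw [ha]
            exact Nat.Coprime.pow_left a ((Nat.coprime_primes hℓ.out hp).mpr hℓp)
          exact split_centralizes (MulAut.conj g * φ) p hp hxr hxN V hVc hVx (S : Subgroup G)
            hSx (split_fixed_eq_one (MulAut.conj g * φ) p hxN (S : Subgroup G) hcopS) hcop
      exact normal_of_sup_normal_of_centralizes (S : Subgroup G) V hSVn hcop hcent

/-- **Kegel**, odd case: a finite group with a splitting automorphism `φ`, `φ ^ p = 1`, `p` an odd
prime, is nilpotent. -/
theorem split_nilpotent_aux (p : ℕ) (hp : p.Prime) (hp2 : p ≠ 2) :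
    ∀ (n : ℕ) (G : Type u) [Group G] [Finite G],
      Nat.card G = n → ∀ φ : G ≃* G,
      φ ^ p = 1 → (∀ x : G, fpfN φ p x = 1) → Group.IsNilpotent G := by
  intro n
  induction n using Nat.strong_induction_on with
  | _ n ih =>
    intro G _ _ hn φ hr hN
    haveI : Fact p.Prime := ⟨hp⟩
    have hsub : ∀ x : G ≃* G, x ^ p = 1 → (∀ g : G, fpfN x p g = 1) → ∀ L : Subgroup G,
        (∀ y ∈ L, x y ∈ L) → L ≠ ⊤ → Group.IsNilpotent L := by
      intro x hxr hxN L hL hLt
      obtain ⟨ψ, hψr, hψN, -⟩ := exists_restrict_split x p hxr hxN L hL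
      exact ih _ (by rw [← hn]; exact card_lt_of_ne_top L hLt) L rfl ψ hψr hψN
    have hquot : ∀ x : G ≃* G, x ^ p = 1 → (∀ g : G, fpfN x p g = 1) → ∀ N : Subgroup G,
        ∀ [N.Normal], (∀ y ∈ N, x y ∈ N) → N ≠ ⊥ → Group.IsNilpotent (G ⧸ N) := by
      intro x hxr hxN N _ hNx hNb
      obtain ⟨ψ, hψr, hψN⟩ := exists_quot_split x p hxr hxN N hNx
      exact ih _ (by rw [← hn]; exact card_quotient_lt_of_ne_bot N hNb) (G ⧸ N) rfl ψ hψr hψN
    suffices hsolv : Group.IsSolvable G from split_solvable_aux p hp n G hn hsolv φ hr hN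
    have hkey : ∀ x : G ≃* G, x ^ p = 1 → (∀ g : G, fpfN x p g = 1) → ∀ N : Subgroup G,
        N.Normal → (∀ y ∈ N, x y ∈ N) → N ≠ ⊥ → N ≠ ⊤ → Group.IsSolvable G := by
      intro x hxr hxN N hNn hNx hNb hNt
      haveI := hNn
      haveI : Group.IsNilpotent N := hsub x hxr hxN N hNx hNt
      haveI : Group.IsNilpotent (G ⧸ N) := hquot x hxr hxN N hNx hNb
      exact Group.isSolvable_of_ker_le_range N.subtype (QuotientGroup.mk' N)
        (le_of_eq (by rw [QuotientGroup.ker_mk', Subgroup.range_subtype]))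
    by_cases hpdvd : p ∣ Nat.card G
    · obtain ⟨P⟩ : Nonempty (Sylow p G) := inferInstance
      obtain ⟨g, hg⟩ := exists_twist_sylow φ p P
      obtain ⟨hxr, hxN⟩ := twist_split φ p hr hN g
      obtain ⟨x, hxdef⟩ : ∃ x : G ≃* G, x = MulAut.conj g * φ := ⟨_, rfl⟩
      rw [← hxdef] at hxr hxN
      have hPx' : ∀ s ∈ (P : Subgroup G), x s ∈ (P : Subgroup G) := by
        intro s hs
        rw [hxdef]
        exact hg s hs
      have hPx : (P : Subgroup G).map (x : G →* G) = P := by
        have hinj : Function.Injective ((x : G →* G)) := x.injective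
        apply Subgroup.eq_of_le_of_card_ge
        · rintro _ ⟨s, hs, rfl⟩
          exact hPx' s hs
        · exact le_of_eq (Subgroup.card_map_of_injective hinj).symm
      have hpn : ∀ N : Subgroup G, N.Normal → (∀ y ∈ N, x y ∈ N) → N ≠ ⊥ → IsPGroup p N →
          Group.IsSolvable G := by
        intro N hNn hNx hNb hNp
        by_cases hNt : N = ⊤
        · have hG : IsPGroup p G := by
            intro g
            obtain ⟨k, hk⟩ := hNp ⟨g, by rw [hNt]; exact Subgroup.mem_top g⟩
            exact ⟨k, congrArg Subtype.val hk⟩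
          haveI := hG.isNilpotent
          infer_instance
        · exact hkey x hxr hxN N hNn hNx hNb hNt
      have hinj : ∀ y ∈ (P : Subgroup G), (x : G →* G) y = 1 → y = 1 := by
        intro y _ hy
        exact x.injective (hy.trans (map_one x).symm)
      have hPne : (P : Subgroup G) ≠ ⊥ := by
        intro hbot
        have h1 := P.card_eq_multiplicity
        rw [hbot, Subgroup.card_bot] at h1
        have h2 : 0 < (Nat.card G).factorization p :=
          hp.factorization_pos_of_dvd Nat.card_pos.ne' hpdvd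
        have h3 : 1 < p ^ (Nat.card G).factorization p := Nat.one_lt_pow h2.ne' hp.one_lt
        omega
      have hPpg : IsPGroup p (P : Subgroup G) := P.isPGroup'
      obtain ⟨J, hJdef⟩ : ∃ J : Subgroup G, J = thompsonSubgroupOf p (P : Subgroup G) :=
        ⟨_, rfl⟩
      obtain ⟨Z, hZdef⟩ : ∃ Z : Subgroup G,
          Z = (P : Subgroup G) ⊓ Subgroup.centralizer ((P : Subgroup G) : Set G) := ⟨_, rfl⟩
      have hJx : J.map (x : G →* G) = J := by
        rw [hJdef, ← thompsonSubgroupOf_map p (x : G →* G) (P : Subgroup G) hinj, hPx]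
      have hZx : Z.map (x : G →* G) = Z := by
        rw [hZdef, ← center_map (x : G →* G) (P : Subgroup G) hinj, hPx]
      have hJne : J ≠ ⊥ := by rw [hJdef]; exact thompsonSubgroupOf_ne_bot _ hPpg hPne
      have hZne : Z ≠ ⊥ := by rw [hZdef]; exact center_ne_bot_of_pgroup _ hPpg hPne
      have hJle : J ≤ P := by rw [hJdef]; exact thompsonSubgroupOf_le_self p _
      have hZle : Z ≤ P := by rw [hZdef]; exact inf_le_left
      have hJpg : IsPGroup p J := hPpg.to_le hJle
      have hZpg : IsPGroup p Z := hPpg.to_le hZle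
      by_cases hNJ : Subgroup.normalizer (J : Set G) = ⊤
      · have hJn : J.Normal := Subgroup.normalizer_eq_top_iff.mp hNJ
        exact hpn J hJn (fun y hy => (apply_mem_iff_of_map_eq x J hJx y).mpr hy) hJne hJpg
      by_cases hCZ : Subgroup.centralizer (Z : Set G) = ⊤
      · have hZn : Z.Normal := by
          constructor
          intro y hy g
          have hg : g ∈ Subgroup.centralizer (Z : Set G) := by
            rw [hCZ]; exact Subgroup.mem_top g
          rw [Subgroup.mem_centralizer_iff] at hg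
          have h1 := hg y hy
          have h2 : g * y * g⁻¹ = y := by rw [← h1]; group
          rw [h2]; exact hy
        exact hpn Z hZn (fun y hy => (apply_mem_iff_of_map_eq x Z hZx y).mpr hy) hZne hZpg
      haveI hNJnil : Group.IsNilpotent (Subgroup.normalizer (J : Set G)) :=
        hsub x hxr hxN _ (normalizer_inv_of_map_eq x J hJx) hNJ
      haveI hCZnil : Group.IsNilpotent (Subgroup.centralizer (Z : Set G)) :=
        hsub x hxr hxN _ (centralizer_inv_of_map_eq x Z hZx) hCZ
      subst hJdef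
      subst hZdef
      have hnpc : HasNormalPComplement p G :=
        thompson_npc hp2 P (npc_of_nilpotent p) (npc_of_nilpotent p)
      obtain ⟨M, hMn, hMcop, j, hMj⟩ := npc_data hnpc
      have hMx : ∀ y ∈ M, x y ∈ M := by
        intro y hy
        apply mem_of_pow_mem_coprime M (x y) (Nat.card M) (p ^ j)
          (Nat.Coprime.pow_right j hMcop)
        · rw [← map_pow]
          have h1 : y ^ Nat.card M = 1 :=
            congrArg Subtype.val (pow_card_eq_one' (x := (⟨y, hy⟩ : M)))
          rw [h1, map_one]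
          exact M.one_mem
        · exact hMj (x y)
      have hMt : M ≠ ⊤ := by
        intro hMt
        rw [hMt, Subgroup.card_top] at hMcop
        exact hp.one_lt.ne' (Nat.Coprime.eq_one_of_dvd hMcop.symm hpdvd)
      by_cases hMb : M = ⊥
      · have hG : IsPGroup p G := by
          intro g
          refine ⟨j, ?_⟩
          have h1 := hMj g
          rw [hMb, Subgroup.mem_bot] at h1
          exact h1
        haveI := hG.isNilpotent
        infer_instance
      · exact hkey x hxr hxN M hMn hMx hMb hMt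
    · have hφ : MonoidHom.FixedPointFree (φ : G →* G) := by
        intro y hy
        have hcop : (Nat.card (⊤ : Subgroup G)).Coprime p := by
          rw [Subgroup.card_top]
          exact (Nat.Coprime.symm ((Nat.Prime.coprime_iff_not_dvd hp).mpr hpdvd))
        exact split_fixed_eq_one φ p hN ⊤ hcop y (Subgroup.mem_top y) hy
      haveI := fpf_nilpotent_aux p hp n G hn φ hφ hr
      infer_instance

theorem nilpotent_of_comm {G : Type*} [hG : Group G] (h : ∀ a b : G, a * b = b * a) :
    Group.IsNilpotent G := by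
  let hG' : CommGroup G := { hG with mul_comm := h }
  cases hG
  infer_instance

/-- **Kegel's theorem**: a finite group with a splitting automorphism `φ` with `φ ^ r = 1`,
`r` prime, is nilpotent. -/
theorem split_nilpotent (r : ℕ) (hrp : r.Prime) {G : Type u} [Group G] [Finite G] (φ : G ≃* G)
    (hr : φ ^ r = 1) (hN : ∀ x : G, fpfN φ r x = 1) : Group.IsNilpotent G := by
  by_cases h2 : r = 2
  · subst h2
    have hinv : ∀ x : G, φ x = x⁻¹ := by
      intro x
      have h1 : fpfN φ 2 x = x * φ x := by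
        show fpfN φ 0 x * (φ ^ 0) x * (φ ^ 1) x = x * φ x
        simp [fpfN_zero]
      have h2 := hN x
      rw [h1] at h2
      exact eq_inv_of_mul_eq_one_right h2
    apply nilpotent_of_comm
    intro a b
    have h1 := hinv (a * b)
    rw [map_mul, hinv, hinv, mul_inv_rev] at h1
    have h2 : (a⁻¹ * b⁻¹)⁻¹ = (b⁻¹ * a⁻¹)⁻¹ := congrArg Inv.inv h1
    simp only [mul_inv_rev, inv_inv] at h2
    exact h2.symm
  · exact split_nilpotent_aux r hrp h2 (Nat.card G) G rfl φ hr hN

theorem list_prod_eq_fpfN {G : Type*} [Group G] (φ : G ≃* G) (k : ℕ) (x : G) :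
    ((List.range k).map (fun i : ℕ => (φ ^ i) x)).prod = fpfN φ k x := by
  induction k with
  | zero => rfl
  | succ k ih =>
    rw [List.range_succ, List.map_append, List.prod_append, ih, fpfN_succ]
    simp

/-- Conjugation norm identity. -/
theorem fpfN_conj {G : Type*} [Group G] (u : G) (k : ℕ) (g : G) :
    fpfN (MulAut.conj u) k g = (g * u) ^ k * (u ^ k)⁻¹ := by
  have h1 := twist_fpfN (1 : G ≃* G) u k g
  rw [mul_one] at h1
  rw [h1, fpfN_fixed (1 : G ≃* G) (g * u) rfl k, fpfN_fixed (1 : G ≃* G) u rfl k]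

end Cfsg.Agent.Helper1
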