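import Mathlib
import Cfsg.Agent.Lead.NilBound

set_option autoImplicit false

namespace Cfsg.Agent.Helper1

/-- `v_p((p x)!) = v_p(x!) + x`. -/
theorem nb_fp (p x : ℕ) (hp : p.Prime) :
    (p * x).factorial.factorization p = x.factorial.factorization p + x := by
  haveI := Fact.mk hp
  rw [Nat.factorization_def _ hp, Nat.factorization_def _ hp, padicValNat_factorial_mul]

theorem nb_v_mono {a b : ℕ} (h : a ≤ b) :
    a.factorial.factorization 2 ≤ b.factorial.factorization 2 :=
  (Nat.factorization_le_iff_dvd a.factorial_ne_zero b.factorial_ne_zero).mpr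
    (Nat.factorial_dvd_factorial h) 2

theorem nb_v_add (a b : ℕ) :
    a.factorial.factorization 2 + b.factorial.factorization 2 ≤
      (a + b).factorial.factorization 2 := by
  have h := (Nat.factorization_le_iff_dvd
    (mul_ne_zero a.factorial_ne_zero b.factorial_ne_zero)
    (a + b).factorial_ne_zero).mpr (Nat.factorial_mul_factorial_dvd_factorial_add a b) 2
  rwa [Nat.factorization_mul a.factorial_ne_zero b.factorial_ne_zero, Finsupp.add_apply] at h

/-- `v_2((2y+1)!) = v_2(y!) + y`. -/
theorem nb_v_odd (y : ℕ) :
    (2 * y + 1).factorial.factorization 2 = y.factorial.factorization 2 + y := by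
  rw [Nat.factorial_succ, Nat.factorization_mul (by omega) (Nat.factorial_ne_zero _),
    Finsupp.add_apply, Nat.factorization_eq_zero_of_not_dvd (by omega), zero_add,
    nb_fp 2 y Nat.prime_two]

/-- `(p - 1) v_p((p^a)!) + 1 = p^a`. -/
theorem nb_geom (p a : ℕ) (hp : p.Prime) :
    (p ^ a).factorial.factorization p * (p - 1) + 1 = p ^ a := by
  obtain ⟨k, rfl⟩ : ∃ k, p = k + 1 := ⟨p - 1, (Nat.succ_pred_eq_of_pos hp.pos).symm⟩
  simp only [Nat.add_sub_cancel]
  induction a with
  | zero => simp
  | succ n ih =>
    rw [pow_succ, mul_comm ((k + 1) ^ n) (k + 1), nb_fp _ _ hp]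
    calc (((k + 1) ^ n).factorial.factorization (k + 1) + (k + 1) ^ n) * k + 1
        = (((k + 1) ^ n).factorial.factorization (k + 1) * k + 1) + (k + 1) ^ n * k := by ring
      _ = (k + 1) ^ n + (k + 1) ^ n * k := by rw [ih]
      _ = (k + 1) * (k + 1) ^ n := by ring

theorem nb_two_pow (k : ℕ) (hk : 3 ≤ k) : 2 * k + 1 ≤ 2 ^ k := by
  induction k, hk using Nat.le_induction with
  | base => norm_num
  | succ n hn ih =>
    have h2 : 2 ≤ 2 ^ n := by
      calc 2 = 2 ^ 1 := by norm_num
        _ ≤ 2 ^ n := Nat.pow_le_pow_right (by norm_num) (by omega)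
    rw [pow_succ]
    omega

theorem nb_81_128 (j : ℕ) (hj : 1 ≤ j) : 3 * 81 ^ j ≤ 2 * 128 ^ j := by
  induction j, hj using Nat.le_induction with
  | base => norm_num
  | succ n hn ih =>
    rw [pow_succ, pow_succ]
    nlinarith [ih, Nat.zero_le (128 ^ n)]

theorem nb_three_mod (a : ℕ) : 3 ^ a % 8 = 1 ∨ 3 ^ a % 8 = 3 := by
  induction a with
  | zero => simp
  | succ n ih =>
    rw [pow_succ]
    omega

/-- Prime powers other than `3`: the Sylow `p`-part of `(p^a)!` is at most its `2`-part. -/
theorem nb_pp_le (p a : ℕ) (hp : p.Prime) (ha : 0 < a) (h3 : p ^ a ≠ 3) :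
    p ^ ((p ^ a).factorial.factorization p) ≤ 2 ^ ((p ^ a).factorial.factorization 2) := by
  rcases hp.eq_two_or_odd' with rfl | ⟨k, rfl⟩
  · exact le_rfl
  · have hg := nb_geom (2 * k + 1) a hp
    simp only [Nat.add_sub_cancel] at hg
    obtain ⟨E, hE⟩ : ∃ E, E = ((2 * k + 1) ^ a).factorial.factorization (2 * k + 1) := ⟨_, rfl⟩
    rw [← hE] at hg ⊢
    have hT : ((2 * k + 1) ^ a).factorial.factorization 2 =
        (k * E).factorial.factorization 2 + k * E := by
      rw [← hg, show E * (2 * k) + 1 = 2 * (k * E) + 1 by ring, nb_v_odd]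
    rw [hT]
    have hk0 : k ≠ 0 := by
      rintro rfl
      exact hp.ne_one (by norm_num)
    rcases Nat.lt_or_ge k 3 with hk | hk
    · have hk12 : k = 1 ∨ k = 2 := by omega
      rcases hk12 with rfl | rfl
      · -- p = 3
        have hg' : E * 2 + 1 = 3 ^ a := by simpa using hg
        have h3' : 3 ^ a ≠ 3 := by simpa using h3
        rw [one_mul, show (2 * 1 + 1 : ℕ) = 3 by norm_num]
        have hmod := nb_three_mod a
        have ha2 : 2 ≤ a := by
          rcases Nat.lt_or_ge a 2 with h | h
          · have : a = 1 := by omega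
            subst this
            exact absurd (by norm_num) h3'
          · exact h
        have h9 : 9 ≤ 3 ^ a := by
          calc 9 = 3 ^ 2 := by norm_num
            _ ≤ 3 ^ a := Nat.pow_le_pow_right (by norm_num) ha2
        obtain ⟨j, hj⟩ : ∃ j, E = 4 * j ∨ E = 4 * j + 1 := ⟨E / 4, by omega⟩
        have hj1 : 1 ≤ j := by omega
        have hv : 3 * j ≤ E.factorial.factorization 2 := by
          have h1 : (4 * j).factorial.factorization 2 ≤ E.factorial.factorization 2 :=
            nb_v_mono (by omega)
          have h2 : (4 * j).factorial.factorization 2 =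
              (2 * j).factorial.factorization 2 + 2 * j := by
            rw [show 4 * j = 2 * (2 * j) by ring, nb_fp 2 _ Nat.prime_two]
          have h4 : (2 * j).factorial.factorization 2 = j.factorial.factorization 2 + j :=
            nb_fp 2 j Nat.prime_two
          omega
        have key : 3 ^ E ≤ 2 ^ (3 * j + E) := by
          rcases hj with hj | hj
          · rw [hj]
            calc 3 ^ (4 * j) = 81 ^ j := by rw [pow_mul]; norm_num
              _ ≤ 128 ^ j := Nat.pow_le_pow_left (by norm_num) j
              _ = 2 ^ (3 * j + 4 * j) := by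
                rw [show 3 * j + 4 * j = 7 * j by ring, pow_mul]; norm_num
          · rw [hj]
            calc 3 ^ (4 * j + 1) = 3 * 81 ^ j := by rw [pow_succ, pow_mul]; norm_num; ring
              _ ≤ 2 * 128 ^ j := nb_81_128 j hj1
              _ = 2 ^ (3 * j + (4 * j + 1)) := by
                rw [show 3 * j + (4 * j + 1) = 7 * j + 1 by ring, pow_succ, pow_mul]
                norm_num; ring
        exact key.trans (Nat.pow_le_pow_right (by norm_num) (by omega))
      · -- p = 5
        have h5 : (2 * E).factorial.factorization 2 = E.factorial.factorization 2 + E :=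
          nb_fp 2 E Nat.prime_two
        calc (2 * 2 + 1) ^ E ≤ 8 ^ E := Nat.pow_le_pow_left (by norm_num) E
          _ = 2 ^ (3 * E) := by rw [pow_mul]; norm_num
          _ ≤ 2 ^ ((2 * E).factorial.factorization 2 + 2 * E) :=
            Nat.pow_le_pow_right (by norm_num) (by omega)
    · calc (2 * k + 1) ^ E ≤ (2 ^ k) ^ E := Nat.pow_le_pow_left (nb_two_pow k hk) E
        _ = 2 ^ (k * E) := (pow_mul 2 k E).symm
        _ ≤ 2 ^ ((k * E).factorial.factorization 2 + k * E) :=
          Nat.pow_le_pow_right (by norm_num) (Nat.le_add_left _ _)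

/-- Peeling one prime power off `nilBound`. -/
theorem nb_peel (p a u : ℕ) (hp : p.Prime) (ha : 0 < a) (hu : 0 < u) (hpu : ¬ p ∣ u) :
    Lead.nilBound (p ^ a * u) =
      p ^ ((p ^ a).factorial.factorization p) * Lead.nilBound u := by
  have hq0 : p ^ a ≠ 0 := pow_ne_zero _ hp.ne_zero
  have hu0 : u ≠ 0 := hu.ne'
  unfold Lead.nilBound
  rw [Nat.primeFactors_mul hq0 hu0, Nat.primeFactors_prime_pow ha.ne' hp]
  have hdisj : Disjoint ({p} : Finset ℕ) u.primeFactors := by
    rw [Finset.disjoint_singleton_left, Nat.mem_primeFactors]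
    exact fun h => hpu h.2.1
  rw [Finset.prod_union hdisj, Finset.prod_singleton]
  have h1 : (p ^ a * u).factorization p = a := by
    rw [Nat.factorization_mul hq0 hu0, Finsupp.add_apply, hp.factorization_pow,
      Finsupp.single_eq_same, Nat.factorization_eq_zero_of_not_dvd hpu, add_zero]
  rw [h1]
  congr 1
  apply Finset.prod_congr rfl
  intro r hr
  have hrp : r ≠ p := by
    rintro rfl
    exact hpu (Nat.mem_primeFactors.mp hr).2.1
  have h2 : (p ^ a * u).factorization r = u.factorization r := by
    rw [Nat.factorization_mul hq0 hu0, Finsupp.add_apply, hp.factorization_pow]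
    simp [Finsupp.single_apply, hrp, hrp.symm]
  rw [h2]

theorem nilBound_one : Lead.nilBound 1 = 1 := by
  simp [Lead.nilBound]

theorem nilBound_three : Lead.nilBound 3 = 3 := by
  have h := nb_peel 3 1 1 Nat.prime_three (by norm_num) (by norm_num) (by norm_num)
  have hg := nb_geom 3 1 Nat.prime_three
  simp only [pow_one, mul_one] at h hg
  have hE : (3 : ℕ).factorial.factorization 3 = 1 := by omega
  rw [h, hE, nilBound_one]
  norm_num

theorem nilBound_le (m : ℕ) (hm : 0 < m) (h3 : m ≠ 3) :
    Lead.nilBound m ≤ 2 ^ (m.factorial.factorization 2) := by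
  induction m using Nat.strong_induction_on with
  | _ m ih =>
  rcases Nat.lt_or_ge m 2 with hlt | hge
  · have hm1 : m = 1 := by omega
    subst hm1
    rw [nilBound_one]
    exact Nat.one_le_two_pow
  · -- a general peeling step
    have peel : ∀ p : ℕ, p.Prime → p ∣ m → ∃ a u : ℕ, 0 < a ∧ 0 < u ∧ ¬ p ∣ u ∧
        a = m.factorization p ∧ p ^ a * u = m := by
      intro p hp hpm
      refine ⟨m.factorization p, m / p ^ m.factorization p,
        hp.factorization_pos_of_dvd hm.ne' hpm, ?_, Nat.not_dvd_ordCompl hp hm.ne', rfl,
        Nat.ordProj_mul_ordCompl_eq_self m p⟩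
      exact Nat.div_pos (Nat.le_of_dvd hm (Nat.ordProj_dvd m p))
        (pow_pos hp.pos _)
    by_cases hc : m.factorization 3 = 1
    · -- `3` divides `m` exactly once
      have h3m : 3 ∣ m := Nat.dvd_of_factorization_pos (by omega)
      obtain ⟨a, u, ha, hu, hpu, hadef, hmu⟩ := peel 3 Nat.prime_three h3m
      have ha1 : a = 1 := by omega
      subst ha1
      rw [pow_one] at hmu
      have hu2 : 2 ≤ u := by
        rcases Nat.lt_or_ge u 2 with h | h
        · exfalso
          have : u = 1 := by omega
          subst this
          omega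
        · exact h
      have hu3 : u ≠ 3 := by
        rintro rfl
        exact hpu (dvd_refl 3)
      have hih := ih u (by omega) hu hu3
      have hp1 := nb_peel 3 1 u Nat.prime_three (by norm_num) hu hpu
      have hg := nb_geom 3 1 Nat.prime_three
      simp only [pow_one] at hp1 hg
      have hE : (3 : ℕ).factorial.factorization 3 = 1 := by omega
      rw [hE, pow_one, hmu] at hp1
      have hv1 := nb_v_add u (2 * u)
      have hv2 : (2 * u).factorial.factorization 2 = u.factorial.factorization 2 + u :=
        nb_fp 2 u Nat.prime_two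
      have hv3 : u.factorial.factorization 2 + 2 ≤ m.factorial.factorization 2 := by
        rw [← hmu, show 3 * u = u + 2 * u by ring]
        omega
      calc Lead.nilBound m = 3 * Lead.nilBound u := hp1
        _ ≤ 4 * 2 ^ (u.factorial.factorization 2) := by
          have := Nat.mul_le_mul_left 3 hih
          have h0 : 0 < 2 ^ (u.factorial.factorization 2) := by positivity
          omega
        _ = 2 ^ (u.factorial.factorization 2 + 2) := by rw [pow_add]; ring
        _ ≤ 2 ^ (m.factorial.factorization 2) := Nat.pow_le_pow_right (by norm_num) hv3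
    · -- peel the smallest prime factor
      have hm1 : m ≠ 1 := by omega
      have hp := Nat.minFac_prime hm1
      obtain ⟨a, u, ha, hu, hpu, hadef, hmu⟩ := peel m.minFac hp (Nat.minFac_dvd m)
      obtain ⟨p, hpdef⟩ : ∃ p, p = m.minFac := ⟨_, rfl⟩
      rw [← hpdef] at hp hpu hadef hmu
      have hq3 : p ^ a ≠ 3 := by
        intro hq
        have hp3 : p = 3 :=
          (Nat.prime_dvd_prime_iff_eq hp Nat.prime_three).mp (hq ▸ dvd_pow_self p ha.ne')
        subst hp3
        have ha1 : a = 1 := by
          rcases Nat.lt_or_ge a 2 with h | h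
          · omega
          · have : 3 ^ 2 ≤ 3 ^ a := Nat.pow_le_pow_right (by norm_num) h
            omega
        exact hc (by omega)
      have hpp := nb_pp_le p a hp ha hq3
      have hpeel := nb_peel p a u hp ha hu hpu
      rw [hmu] at hpeel
      rcases Nat.lt_or_ge u 2 with hu1 | hu2
      · have hu1' : u = 1 := by omega
        subst hu1'
        rw [mul_one] at hmu
        rw [hpeel, nilBound_one, mul_one, ← hmu]
        exact hpp
      · have hu3 : u ≠ 3 := by
          rintro rfl
          apply hc
          have hp3 : p ≠ 3 := by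
            rintro rfl
            exact hpu (dvd_refl 3)
          rw [← hmu, Nat.factorization_mul (pow_ne_zero _ hp.ne_zero) (by norm_num),
            Finsupp.add_apply, hp.factorization_pow, Nat.prime_three.factorization_self]
          simp [Finsupp.single_apply, hp3, hp3.symm]
        have hq2 : 2 ≤ p ^ a := by
          calc 2 ≤ p := hp.two_le
            _ = p ^ 1 := (pow_one p).symm
            _ ≤ p ^ a := Nat.pow_le_pow_right hp.pos ha
        have hum : u < m := by
          rw [← hmu]
          nlinarith
        have hih := ih u hum hu hu3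
        have hv : (p ^ a).factorial.factorization 2 + u.factorial.factorization 2 ≤
            m.factorial.factorization 2 := by
          refine (nb_v_add (p ^ a) u).trans (nb_v_mono ?_)
          rw [← hmu]
          exact Nat.add_le_mul hq2 hu2
        calc Lead.nilBound m = p ^ ((p ^ a).factorial.factorization p) * Lead.nilBound u := hpeel
          _ ≤ 2 ^ ((p ^ a).factorial.factorization 2) * 2 ^ (u.factorial.factorization 2) :=
            Nat.mul_le_mul hpp hih
          _ = 2 ^ ((p ^ a).factorial.factorization 2 + u.factorial.factorization 2) :=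
            (pow_add 2 _ _).symm
          _ ≤ 2 ^ (m.factorial.factorization 2) := Nat.pow_le_pow_right (by norm_num) hv

end Cfsg.Agent.Helper1
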