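import Mathlib
import Cfsg.Agent.Helper1.FunNpc
import Cfsg.Prelude.Def_LocalEven

set_option autoImplicit false

namespace Cfsg.Agent.Helper1

universe u

open Cfsg Pointwise
open scoped commutatorElement

theorem omegaCenter_normal {G : Type*} [Group G] (p : ℕ) (R : Subgroup G) [hRn : R.Normal] :
    (omegaCenter p R).Normal := by
  refine ⟨fun x hx g => ?_⟩
  obtain ⟨hxR, hxc, hxp⟩ := mem_omegaCenter.mp hx
  refine mem_omegaCenter.mpr ⟨hRn.conj_mem x hxR g, fun h hh => ?_,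
    by rw [conj_pow, hxp, mul_one, mul_inv_cancel]⟩
  have h1 := hxc (g⁻¹ * h * g) (by have h0 := hRn.conj_mem h hh g⁻¹; rwa [inv_inv] at h0)
  calc h * (g * x * g⁻¹) = g * (g⁻¹ * h * g * x) * g⁻¹ := by group
    _ = g * (x * (g⁻¹ * h * g)) * g⁻¹ := by rw [h1]
    _ = g * x * g⁻¹ * h := by group

/-- If `d` commutes with `z = [d, x]`, then `d ^ i * x = z ^ i * x * d ^ i`. -/
theorem pow_mul_of_comm {G : Type*} [Group G] (d x : G)
    (h : d * (d * x * d⁻¹ * x⁻¹) = (d * x * d⁻¹ * x⁻¹) * d) (i : ℕ) :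
    d ^ i * x = (d * x * d⁻¹ * x⁻¹) ^ i * x * d ^ i := by
  obtain ⟨z, hz⟩ : ∃ z, z = d * x * d⁻¹ * x⁻¹ := ⟨_, rfl⟩
  rw [← hz] at h ⊢
  induction i with
  | zero => simp
  | succ i ih =>
    rw [pow_succ' d i, pow_succ z i, mul_assoc d, ih]
    have h1 : d * z ^ i = z ^ i * d := ((show Commute d z from h).pow_right i).eq
    generalize d ^ i = D at *
    generalize z ^ i = Z at *
    calc d * (Z * x * D) = (d * Z) * x * D := by group
      _ = Z * (d * x * d⁻¹ * x⁻¹) * x * d * D := by rw [h1]; group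
      _ = Z * z * x * (d * D) := by rw [← hz]; group

theorem pow_comm_of_comm_mem {G : Type*} [Group G] (V : Subgroup G) (p : ℕ)
    (hVp : ∀ v ∈ V, v ^ p = 1) (d x : G) (hd : ∀ v ∈ V, d * v = v * d)
    (hx : d * x * d⁻¹ * x⁻¹ ∈ V) : d ^ p * x = x * d ^ p := by
  have h2 := pow_mul_of_comm d x (hd _ hx) p
  rw [hVp _ hx, one_mul] at h2
  exact h2

theorem conj_mul_eq {G : Type*} [Group G] (u D a : G) :
    (u * D) * a * (u * D)⁻¹ = u * (D * a * D⁻¹) * u⁻¹ := by group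

theorem conj_cancel {G : Type*} [Group G] (D a : G) : (D * a * D⁻¹) * D = D * a := by group

/-- Quadratic action on a normal `p`-subgroup: commutators of `g` with the abelian
`p'`-layer act as `p`-elements. -/
theorem quad_stab (p : ℕ) [hpF : Fact p.Prime] (hp2 : p ≠ 2) :
    ∀ (n : ℕ) (N : Type u) [Group N] [Finite N], Nat.card N = n →
      ∀ (P N₂ N₁ : Subgroup N), P.Normal → N₂.Normal → N₁.Normal → IsPGroup p P →
      IsPGroup p N₂ → (∀ a ∈ N₁, ∀ b ∈ N₁, a * b * a⁻¹ * b⁻¹ ∈ N₂) →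
      ∀ m : ℕ, m.Coprime p → (∀ a ∈ N₁, a ^ m ∈ N₂) →
      ∀ g : N, (∀ x ∈ P, g * (g * x * g⁻¹ * x⁻¹) * g⁻¹ = g * x * g⁻¹ * x⁻¹) →
      ∀ k ∈ N₁, ∃ j : ℕ, ∀ x ∈ P,
        (g * k * g⁻¹ * k⁻¹) ^ (p ^ j) * x = x * (g * k * g⁻¹ * k⁻¹) ^ (p ^ j) := by
  intro n
  induction n using Nat.strong_induction_on with
  | _ n IH =>
  intro N _ _ hn P N₂ N₁ hPn hN₂n hN₁n hP hN₂ hcomm m hm hpow g hq k hk
  have hp : p.Prime := Fact.out
  haveI := hPn
  haveI := hN₂n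
  haveI := hN₁n
  by_cases hP1 : P = ⊥
  · refine ⟨0, fun x hx => ?_⟩
    rw [hP1, Subgroup.mem_bot] at hx
    rw [hx, mul_one, one_mul]
  · obtain ⟨R, hR⟩ : ∃ R : Subgroup N, R = N₂ ⊔ P := ⟨_, rfl⟩
    haveI hRn : R.Normal := by rw [hR]; infer_instance
    have hRp : IsPGroup p R := by rw [hR]; exact hN₂.to_sup_of_normal_right hP
    have hPR : P ≤ R := by rw [hR]; exact le_sup_right
    have hN₂R : N₂ ≤ R := by rw [hR]; exact le_sup_left
    haveI hΩn : (omegaCenter p R).Normal := omegaCenter_normal p R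
    obtain ⟨V, hV⟩ : ∃ V : Subgroup N, V = P ⊓ omegaCenter p R := ⟨_, rfl⟩
    haveI hVn : V.Normal := by rw [hV]; infer_instance
    have hVmem : ∀ x, x ∈ V ↔ x ∈ P ∧ x ∈ R ∧ (∀ h ∈ R, h * x = x * h) ∧ x ^ p = 1 := by
      intro x; rw [hV, Subgroup.mem_inf, mem_omegaCenter]
    have hVP : V ≤ P := fun x hx => ((hVmem x).mp hx).1
    have hVc : ∀ u ∈ V, ∀ v ∈ V, u * v = v * u := by
      intro u hu v hv
      exact ((hVmem v).mp hv).2.2.1 u (hPR (hVP hu))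
    have hVp : ∀ v ∈ V, v ^ p = 1 := fun v hv => ((hVmem v).mp hv).2.2.2
    have hRC : R ≤ Subgroup.centralizer (V : Set N) := by
      intro r hr
      rw [Subgroup.mem_centralizer_iff]
      intro v hv
      exact (((hVmem v).mp hv).2.2.1 r hr).symm
    have hV1 : V ≠ ⊥ := by
      obtain ⟨c₀, hc₀P, hc₀1, hc₀⟩ := Helper21.exists_fixed_of_pgroup_normalizes P R hP hRp
        (by rw [Subgroup.normalizer_eq_top_iff.mpr hPn]; exact le_top) hP1
      obtain ⟨F, hF⟩ : ∃ F : Subgroup N, F = P ⊓ Subgroup.centralizer (R : Set N) := ⟨_, rfl⟩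
      have hc₀F : c₀ ∈ F := by
        rw [hF]
        refine Subgroup.mem_inf.mpr ⟨hc₀P, ?_⟩
        rw [Subgroup.mem_centralizer_iff]
        intro r hr
        have h1 := hc₀ r hr
        calc r * c₀ = r * c₀ * r⁻¹ * r := by group
          _ = c₀ * r := by rw [h1]
      have hFp : IsPGroup p F := by rw [hF]; exact hP.to_le inf_le_left
      have hF1 : F ≠ ⊥ := by
        intro h
        rw [h, Subgroup.mem_bot] at hc₀F
        exact hc₀1 hc₀F
      have hdvd : p ∣ Nat.card F := by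
        obtain ⟨e, he⟩ := (IsPGroup.iff_card).mp hFp
        have he0 : e ≠ 0 := by
          rintro rfl
          rw [pow_zero] at he
          exact hF1 (Subgroup.card_eq_one.mp he)
        rw [he]; exact dvd_pow_self p he0
      obtain ⟨x, hx⟩ := exists_prime_orderOf_dvd_card' (G := ↥F) p hdvd
      have hxF : (x : N) ∈ P ⊓ Subgroup.centralizer (R : Set N) := hF.le x.2
      obtain ⟨hxP, hxC⟩ := Subgroup.mem_inf.mp hxF
      have hxp : (x : N) ^ p = 1 := by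
        have h1 : x ^ p = 1 := by rw [← hx]; exact pow_orderOf_eq_one x
        have h2 := congrArg Subtype.val h1
        simpa using h2
      have hxV : (x : N) ∈ V :=
        (hVmem _).mpr ⟨hxP, hPR hxP, fun h hh => (Subgroup.mem_centralizer_iff.mp hxC) h hh, hxp⟩
      intro hbot
      rw [hbot, Subgroup.mem_bot] at hxV
      have h2 : x = 1 := Subtype.ext hxV
      rw [h2, orderOf_one] at hx
      exact hp.one_lt.ne hx
    obtain ⟨c, hc⟩ : ∃ c, c = g * k * g⁻¹ * k⁻¹ := ⟨_, rfl⟩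
    have hgk : g * k * g⁻¹ ∈ N₁ := hN₁n.conj_mem k hk g
    have hggk : g * (g * k * g⁻¹) * g⁻¹ ∈ N₁ := hN₁n.conj_mem _ hgk g
    have hN₂C : N₂ ≤ Subgroup.centralizer (V : Set N) := hN₂R.trans hRC
    have hcV : c ∈ Subgroup.centralizer (V : Set N) := by
      rw [hc]
      exact group_quadratic V hVc p hp hp2 hVp g k (fun v hv => hq v (hVP hv)) m hm
        (hN₂C (hpow k hk)) (hN₂C (hcomm k hk _ hgk)) (hN₂C (hcomm k hk _ hggk))
        (hN₂C (hcomm _ hgk _ hggk))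
    have hlt : Nat.card (N ⧸ V) < n := hn ▸ card_quotient_lt_of_ne_bot V hV1
    obtain ⟨π, hπ⟩ : ∃ π : N →* N ⧸ V, π = QuotientGroup.mk' V := ⟨_, rfl⟩
    have hπs : Function.Surjective π := by rw [hπ]; exact QuotientGroup.mk'_surjective V
    have hπk : ∀ x, π x = 1 ↔ x ∈ V := by
      intro x; rw [hπ]; exact mk'_eq_one_iff'
    obtain ⟨j, hj⟩ := IH (Nat.card (N ⧸ V)) hlt (N ⧸ V) rfl (P.map π) (N₂.map π) (N₁.map π)
      (hPn.map π hπs) (hN₂n.map π hπs) (hN₁n.map π hπs) (hP.map π) (hN₂.map π)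
      (by
        rintro _ ⟨a, ha, rfl⟩ _ ⟨b, hb, rfl⟩
        exact ⟨a * b * a⁻¹ * b⁻¹, hcomm a ha b hb, by simp only [map_mul, map_inv]⟩)
      m hm
      (by
        rintro _ ⟨a, ha, rfl⟩
        exact ⟨a ^ m, hpow a ha, map_pow π a m⟩)
      (π g)
      (by
        rintro _ ⟨x, hx, rfl⟩
        have h1 := congrArg π (hq x hx)
        simp only [map_mul, map_inv] at h1
        exact h1)
      (π k) (Subgroup.mem_map_of_mem π hk)
    refine ⟨j + 1, fun x hx => ?_⟩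
    obtain ⟨d, hd⟩ : ∃ d, d = c ^ (p ^ j) := ⟨_, rfl⟩
    have hdV : ∀ v ∈ V, d * v = v * d := by
      intro v hv
      have h1 : d ∈ Subgroup.centralizer (V : Set N) := by
        rw [hd]; exact Subgroup.pow_mem _ hcV _
      exact ((Subgroup.mem_centralizer_iff.mp h1) v hv).symm
    have hdx : d * x * d⁻¹ * x⁻¹ ∈ V := by
      apply (hπk _).mp
      have h1 := hj (π x) (Subgroup.mem_map_of_mem π hx)
      have h2 : π d * π x = π x * π d := by
        rw [hd, hc]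
        simp only [map_mul, map_inv, map_pow]
        exact h1
      rw [map_mul, map_mul, map_mul, map_inv, map_inv, h2]
      group
    have h3 := pow_comm_of_comm_mem V p hVp d x hdV hdx
    rw [← hc, pow_succ, pow_mul, ← hd]
    exact h3

/-- The core statement: an element acting quadratically on a normal `p`-subgroup `P` of a
group of `p`-length one with abelian `p'`-layer lies in `O_p` modulo `C(P)` (`p` odd). -/
theorem quad_pcore {p : ℕ} [hpF : Fact p.Prime] (hp2 : p ≠ 2) {N : Type u} [Group N] [Finite N]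
    (P C N₂ N₁ : Subgroup N) [hPn : P.Normal] [hCn : C.Normal] [hN₂n : N₂.Normal]
    [hN₁n : N₁.Normal] (hP : IsPGroup p P) (hN₂ : IsPGroup p N₂)
    (hC : ∀ x, x ∈ C ↔ ∀ y ∈ P, x * y = y * x)
    (hcomm : ∀ a ∈ N₁, ∀ b ∈ N₁, a * b * a⁻¹ * b⁻¹ ∈ N₂)
    (m : ℕ) (hm : m.Coprime p) (hpow : ∀ a ∈ N₁, a ^ m ∈ N₂)
    (j₁ : ℕ) (hj₁ : ∀ z : N, z ^ (p ^ j₁) ∈ N₁)
    (g : N) (hq : ∀ x ∈ P, g * (g * x * g⁻¹ * x⁻¹) * g⁻¹ = g * x * g⁻¹ * x⁻¹) :
    (QuotientGroup.mk g : N ⧸ C) ∈ Cfsg.pCore p (N ⧸ C) := by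
  have hp : p.Prime := Fact.out
  obtain ⟨π, hπ⟩ : ∃ π : N →* N ⧸ C, π = QuotientGroup.mk' C := ⟨_, rfl⟩
  have hπs : Function.Surjective π := by rw [hπ]; exact QuotientGroup.mk'_surjective C
  have hπk : ∀ x, π x = 1 ↔ x ∈ C := by
    intro x; rw [hπ]; exact mk'_eq_one_iff'
  obtain ⟨e, he⟩ := (IsPGroup.iff_card).mp hP
  have hg1 : π g ^ (p ^ e) = 1 := by
    rw [← map_pow, hπk, hC]
    intro x hx
    have hzP : g * x * g⁻¹ * x⁻¹ ∈ P := P.mul_mem (hPn.conj_mem x hx g) (P.inv_mem hx)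
    have hgz : g * (g * x * g⁻¹ * x⁻¹) = (g * x * g⁻¹ * x⁻¹) * g := by
      have h1 := hq x hx
      calc g * (g * x * g⁻¹ * x⁻¹) = g * (g * x * g⁻¹ * x⁻¹) * g⁻¹ * g := by group
        _ = (g * x * g⁻¹ * x⁻¹) * g := by rw [h1]
    have h2 := pow_mul_of_comm g x hgz (p ^ e)
    have h3 : (g * x * g⁻¹ * x⁻¹) ^ (p ^ e) = 1 := by
      have h4 := pow_card_eq_one' (G := ↥P) (x := ⟨_, hzP⟩)
      rw [he] at h4
      exact congrArg Subtype.val h4
    rw [h3, one_mul] at h2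
    exact h2
  have hcomm' : ∀ k ∈ N₁, π (g * k * g⁻¹ * k⁻¹) ∈ N₂.map π := by
    intro k hk
    obtain ⟨j, hj⟩ := quad_stab p hp2 (Nat.card N) N rfl P N₂ N₁ hPn hN₂n hN₁n hP hN₂ hcomm
      m hm hpow g hq k hk
    obtain ⟨c, hc⟩ : ∃ c, c = g * k * g⁻¹ * k⁻¹ := ⟨_, rfl⟩
    rw [← hc] at hj ⊢
    have hcN₁ : c ∈ N₁ := by
      rw [hc]; exact N₁.mul_mem (hN₁n.conj_mem k hk g) (N₁.inv_mem hk)
    have hcC : c ^ (p ^ j) ∈ C := (hC _).mpr hj
    have h1 : c ∈ N₂ ⊔ C := mem_of_pow_mem_coprime (N₂ ⊔ C) c m (p ^ j)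
      (Nat.Coprime.pow_right j hm) ((le_sup_left : N₂ ≤ N₂ ⊔ C) (hpow c hcN₁))
      ((le_sup_right : C ≤ N₂ ⊔ C) hcC)
    have h2 : π c ∈ (N₂ ⊔ C).map π := Subgroup.mem_map_of_mem π h1
    rw [Subgroup.map_sup] at h2
    have h3 : C.map π = ⊥ := by
      rw [Subgroup.map_eq_bot_iff]
      exact le_of_eq (by rw [hπ, QuotientGroup.ker_mk'])
    rwa [h3, sup_bot_eq] at h2
  obtain ⟨D, hD⟩ : ∃ D : Subgroup (N ⧸ C),
      D = ⨅ S : Sylow p (N ⧸ C), (S : Subgroup (N ⧸ C)) := ⟨_, rfl⟩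
  have hDn : D.Normal := by
    refine ⟨fun x hx t => ?_⟩
    rw [hD, Subgroup.mem_iInf] at hx ⊢
    intro S
    have h1 : x ∈ t⁻¹ • S := hx (t⁻¹ • S)
    rw [Helper12.mem_sylow_smul_iff, inv_inv] at h1
    exact h1
  obtain ⟨S₀⟩ : Nonempty (Sylow p (N ⧸ C)) := inferInstance
  have hDp : IsPGroup p D := by
    rw [hD]; exact S₀.isPGroup'.to_le (iInf_le _ S₀)
  have hgD : π g ∈ D := by
    rw [hD, Subgroup.mem_iInf]
    intro S
    have hz : IsPGroup p (Subgroup.zpowers (π g)) :=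
      Helper12.isPGroup_zpowers_of_pow_eq_one hg1
    obtain ⟨S', hS'⟩ := hz.exists_le_sylow
    obtain ⟨t, ht⟩ := MulAction.exists_smul_eq (N ⧸ C) S S'
    have hgS' : π g ∈ t • S := by rw [ht]; exact hS' (Subgroup.mem_zpowers _)
    rw [Helper12.mem_sylow_smul_iff] at hgS'
    have hgS'' : t⁻¹ * π g * t ∈ (S : Subgroup (N ⧸ C)) := hgS'
    haveI hN₁b : (N₁.map π).Normal := hN₁n.map π hπs
    haveI hN₂b : (N₂.map π).Normal := hN₂n.map π hπs
    have hsup : N₁.map π ⊔ (S : Subgroup (N ⧸ C)) = ⊤ := by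
      apply sup_sylow_eq_top (N₁.map π) S j₁
      intro y
      obtain ⟨z, rfl⟩ := hπs y
      rw [← map_pow]; exact Subgroup.mem_map_of_mem π (hj₁ z)
    obtain ⟨s', hs', x', hx', htsx⟩ := exists_mul_of_sup_eq_top
      (C := (S : Subgroup (N ⧸ C))) (N := N₁.map π) (by rw [sup_comm]; exact hsup) t⁻¹
    obtain ⟨k, hk, rfl⟩ := hx'
    have hw : π g * π k * (π g)⁻¹ * (π k)⁻¹ ∈ (S : Subgroup (N ⧸ C)) := by
      have h1 := hcomm' k hk
      rw [map_mul, map_mul, map_mul, map_inv, map_inv] at h1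
      exact (normal_pgroup_le_sylow (N₂.map π) (hN₂.map π) S) h1
    have hconj : π k * π g * (π k)⁻¹ ∈ (S : Subgroup (N ⧸ C)) := by
      have h1 : s'⁻¹ * (t⁻¹ * π g * t) * s' ∈ (S : Subgroup (N ⧸ C)) :=
        Subgroup.mul_mem _ (Subgroup.mul_mem _ (Subgroup.inv_mem _ hs') hgS'') hs'
      have h2 : s'⁻¹ * (t⁻¹ * π g * t) * s' = π k * π g * (π k)⁻¹ := by
        have h3 : t = (s' * π k)⁻¹ := by rw [← htsx, inv_inv]
        rw [htsx, h3]; group
      rwa [h2] at h1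
    have h4 : π g = (π g * π k * (π g)⁻¹ * (π k)⁻¹) * (π k * π g * (π k)⁻¹) := by group
    rw [h4]; exact Subgroup.mul_mem _ hw hconj
  have hle : D ≤ Cfsg.pCore p (N ⧸ C) := Cfsg.Agent.Helper9.le_pCore hDn hDp
  have hfin : (QuotientGroup.mk g : N ⧸ C) = π g := by rw [hπ]; rfl
  rw [hfin]; exact hle hgD

/-- `p`-length one with abelian `p'`-layer: the structure of a minimal counterexample to
a Thompson-type criterion. -/
def PStr (p : ℕ) (Z : Type u) [Group Z] : Prop :=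
  ∃ Z₂ Z₁ : Subgroup Z, Z₂.Normal ∧ Z₁.Normal ∧ IsPGroup p Z₂ ∧
    (∀ a ∈ Z₁, ∀ b ∈ Z₁, a * b * a⁻¹ * b⁻¹ ∈ Z₂) ∧
    (∃ m : ℕ, m.Coprime p ∧ ∀ a ∈ Z₁, a ^ m ∈ Z₂) ∧
    ∃ j : ℕ, ∀ z : Z, z ^ (p ^ j) ∈ Z₁

theorem pStr_subgroup {p : ℕ} {Z : Type u} [Group Z] (X : Subgroup Z) (h : PStr p Z) :
    PStr p ↥X := by
  obtain ⟨Z₂, Z₁, hZ₂n, hZ₁n, hZ₂, hcomm, ⟨m, hm, hpow⟩, j, hj⟩ := h
  haveI := hZ₂n
  haveI := hZ₁n
  refine ⟨Z₂.subgroupOf X, Z₁.subgroupOf X, inferInstance, inferInstance, hZ₂.comap_subtype,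
    ?_, ⟨m, hm, ?_⟩, j, ?_⟩
  · intro a ha b hb
    rw [Subgroup.mem_subgroupOf] at ha hb ⊢
    exact hcomm a ha b hb
  · intro a ha
    rw [Subgroup.mem_subgroupOf] at ha ⊢
    rw [Subgroup.coe_pow]; exact hpow a ha
  · intro z
    rw [Subgroup.mem_subgroupOf, Subgroup.coe_pow]; exact hj z

theorem pStr_of_surjective {p : ℕ} {Z Z' : Type u} [Group Z] [Group Z'] (f : Z →* Z')
    (hf : Function.Surjective f) (h : PStr p Z) : PStr p Z' := by
  obtain ⟨Z₂, Z₁, hZ₂n, hZ₁n, hZ₂, hcomm, ⟨m, hm, hpow⟩, j, hj⟩ := h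
  refine ⟨Z₂.map f, Z₁.map f, hZ₂n.map f hf, hZ₁n.map f hf, hZ₂.map f, ?_, ⟨m, hm, ?_⟩, j, ?_⟩
  · rintro _ ⟨a, ha, rfl⟩ _ ⟨b, hb, rfl⟩
    exact ⟨a * b * a⁻¹ * b⁻¹, hcomm a ha b hb, by simp only [map_mul, map_inv]⟩
  · rintro _ ⟨a, ha, rfl⟩
    exact ⟨a ^ m, hpow a ha, map_pow f a m⟩
  · intro z
    obtain ⟨y, rfl⟩ := hf z
    exact ⟨y ^ (p ^ j), hj y, map_pow f y _⟩

theorem normalizerPStable_of_pStr {p : ℕ} [Fact p.Prime] (hp2 : p ≠ 2) {Z : Type u} [Group Z]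
    [Finite Z] (h : PStr p Z) : Cfsg.IsNormalizerPStable p Z := by
  intro P hP g hg hquad
  have hq : ∀ x ∈ P, g * (g * x * g⁻¹ * x⁻¹) * g⁻¹ = g * x * g⁻¹ * x⁻¹ := by
    intro x hx
    have h1 : ⁅⁅x, g⁆, g⁆ ∈ (⁅⁅P, Subgroup.zpowers g⁆, Subgroup.zpowers g⁆ : Subgroup Z) :=
      Subgroup.commutator_mem_commutator
        (Subgroup.commutator_mem_commutator hx (Subgroup.mem_zpowers g)) (Subgroup.mem_zpowers g)
    rw [hquad, Subgroup.mem_bot] at h1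
    have h2 : (x * g * x⁻¹ * g⁻¹) * g * (x * g * x⁻¹ * g⁻¹)⁻¹ * g⁻¹ = 1 := h1
    calc g * (g * x * g⁻¹ * x⁻¹) * g⁻¹
        = (g * x * g⁻¹ * x⁻¹) * ((x * g * x⁻¹ * g⁻¹) * g * (x * g * x⁻¹ * g⁻¹)⁻¹ * g⁻¹) := by
          group
      _ = g * x * g⁻¹ * x⁻¹ := by rw [h2, mul_one]
  obtain ⟨N₂, N₁, hN₂n, hN₁n, hN₂, hcomm, ⟨m, hm, hpow⟩, j, hj⟩ :=
    pStr_subgroup (Subgroup.normalizer (P : Set Z)) h
  haveI := hN₂n
  haveI := hN₁n
  exact quad_pcore hp2 (P.subgroupOf (Subgroup.normalizer (P : Set Z)))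
    ((Subgroup.centralizer (P : Set Z)).subgroupOf (Subgroup.normalizer (P : Set Z))) N₂ N₁
    hP.comap_subtype hN₂
    (by
      intro x
      rw [Subgroup.mem_subgroupOf, Subgroup.mem_centralizer_iff]
      constructor
      · intro h y hy
        rw [Subgroup.mem_subgroupOf] at hy
        exact Subtype.ext (h (y : Z) hy).symm
      · intro h y hy
        have h1 := h ⟨y, Subgroup.le_normalizer hy⟩ (by rw [Subgroup.mem_subgroupOf]; exact hy)
        exact (congrArg Subtype.val h1).symm)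
    hcomm m hm hpow j hj ⟨g, hg⟩
    (fun x hx => Subtype.ext (hq (x : Z) (Subgroup.mem_subgroupOf.mp hx)))

/-- If `N_Q(W(T))` has a normal `p`-complement and `W(T)` controls strong fusion, then `Q` has a
normal `p`-complement. -/
theorem npc_of_controlsStrongFusion {p : ℕ} [Fact p.Prime] {Q : Type u} [Group Q] [Finite Q]
    (W : ∀ (X : Type u) [Group X], Subgroup X) (hW : Cfsg.IsCharPFunctor.{u} p W)
    (T : Sylow p Q)
    (hN : HasNormalPComplement p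
      (Subgroup.normalizer ((Cfsg.inducedFunctor W (T : Subgroup Q) : Subgroup Q) : Set Q)))
    (hctl : Cfsg.ControlsStrongFusion p (Cfsg.inducedFunctor W (T : Subgroup Q))) :
    HasNormalPComplement p Q := by
  have hp : p.Prime := Fact.out
  obtain ⟨U, hU⟩ : ∃ U : Subgroup Q, U = Cfsg.inducedFunctor W (T : Subgroup Q) := ⟨_, rfl⟩
  rw [← hU] at hN hctl
  obtain ⟨T₁, hUT₁, hfus⟩ := hctl
  obtain ⟨h, hh⟩ := MulAction.exists_smul_eq Q T T₁
  have hT₁map : (T₁ : Subgroup Q) = (T : Subgroup Q).map (MulAut.conj h).toMonoidHom := by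
    rw [← hh]; exact Helper12.sylow_smul_coe_eq_map T h
  have hWT₁ : Cfsg.inducedFunctor W (T₁ : Subgroup Q) = U.map (MulAut.conj h).toMonoidHom := by
    rw [hT₁map, Helper12.inducedFunctor_map hW _ _ T.isPGroup' (conj_inj_on h _), hU]
  obtain ⟨x, hxN, hx⟩ := (hfus (U : Set Q) (fun a ha => hUT₁ ha)).2 h (by
    rintro _ ⟨a, ha, rfl⟩
    have h1 : h * a * h⁻¹ ∈ Cfsg.inducedFunctor W (T₁ : Subgroup Q) := by
      rw [hWT₁]; exact ⟨a, ha, rfl⟩
    exact inducedFunctor_le_self W _ h1)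
  have hle : U.map (MulAut.conj h).toMonoidHom ≤ U := by
    rintro _ ⟨a, ha, rfl⟩
    show h * a * h⁻¹ ∈ U
    rw [hx a ha]
    exact (Subgroup.mem_normalizer_iff.mp hxN a).mp ha
  have heq : U.map (MulAut.conj h).toMonoidHom = U :=
    Subgroup.eq_of_le_of_card_ge hle
      (Subgroup.card_map_of_injective (MulAut.conj h).injective).ge
  have hT₁N : (T₁ : Subgroup Q) ≤ Subgroup.normalizer (U : Set Q) := by
    have h1 := normalizer_le_normalizer_induced hW (T₁ : Subgroup Q) T₁.isPGroup'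
    rw [hWT₁, heq] at h1
    exact Subgroup.le_normalizer.trans h1
  rw [← Lead.frobHyp_iff] at hN ⊢
  intro X hX g hg hcop
  obtain ⟨c, hc⟩ := Helper12.exists_conj_mem_sylow T₁ hX
  obtain ⟨X', hX'⟩ : ∃ X' : Subgroup Q, X' = X.map (MulAut.conj c).toMonoidHom := ⟨_, rfl⟩
  have hX'mem : ∀ y, y ∈ X' ↔ c⁻¹ * y * c ∈ X := by
    intro y; rw [hX']; exact Helper12.mem_map_conj_iff X c y
  have hX'T : X' ≤ (T₁ : Subgroup Q) := by
    rw [hX']
    rintro _ ⟨q, hq, rfl⟩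
    exact hc q hq
  have hX'p : IsPGroup p X' := by rw [hX']; exact hX.map _
  obtain ⟨g', hg'⟩ : ∃ g', g' = c * g * c⁻¹ := ⟨_, rfl⟩
  have hg'N : ∀ y ∈ X', g' * y * g'⁻¹ ∈ X' := by
    intro y hy
    rw [hX'mem] at hy ⊢
    have h1 := (Subgroup.mem_normalizer_iff.mp hg _).mp hy
    have e : c⁻¹ * (g' * y * g'⁻¹) * c = g * (c⁻¹ * y * c) * g⁻¹ := by rw [hg']; group
    rw [e]; exact h1
  obtain ⟨x, hxN, hx⟩ := (hfus (X' : Set Q) (fun a ha => hX'T ha)).2 g' (by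
    rintro _ ⟨a, ha, rfl⟩
    exact hX'T (hg'N a ha))
  have hpowconj : ∀ i : ℕ, ∀ a ∈ X',
      g' ^ i * a * (g' ^ i)⁻¹ = x ^ i * a * (x ^ i)⁻¹ ∧ g' ^ i * a * (g' ^ i)⁻¹ ∈ X' := by
    intro i
    induction i with
    | zero => intro a ha; simp [ha]
    | succ i ih =>
      intro a ha
      obtain ⟨h1, h2⟩ := ih a ha
      refine ⟨?_, ?_⟩
      · rw [pow_succ' g' i, pow_succ' x i, conj_mul_eq g' (g' ^ i), conj_mul_eq x (x ^ i), h1]
        exact hx _ (by rw [← h1]; exact h2)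
      · rw [pow_succ' g' i, conj_mul_eq g' (g' ^ i)]
        exact hg'N _ h2
  obtain ⟨e, n', hn', hxo⟩ :=
    Nat.exists_eq_pow_mul_and_not_dvd (orderOf_pos x).ne' p hp.ne_one
  obtain ⟨y, hy⟩ : ∃ y, y = x ^ (p ^ e) := ⟨_, rfl⟩
  have hycop : (orderOf y).Coprime p := by
    have h1 : y ^ n' = 1 := by
      rw [hy, ← pow_mul, ← hxo]; exact pow_orderOf_eq_one x
    exact Nat.Coprime.coprime_dvd_left (orderOf_dvd_of_pow_eq_one h1)
      ((Nat.Prime.coprime_iff_not_dvd hp).mpr hn').symm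
  have hyN : y ∈ Subgroup.normalizer (U : Set Q) := by
    rw [hy]; exact Subgroup.pow_mem _ hxN _
  have hyX' : y ∈ Subgroup.normalizer (X' : Set Q) := by
    apply Subgroup.mem_normalizer_fintype
    intro a ha
    rw [hy, ← (hpowconj (p ^ e) a ha).1]
    exact (hpowconj (p ^ e) a ha).2
  have hyC : y ∈ Subgroup.centralizer (X' : Set Q) :=
    Lead.FrobHyp.apply_of_subgroup (Subgroup.normalizer (U : Set Q)) hN X' hX'p
      (hX'T.trans hT₁N) y hyN hyX' hycop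
  have hg'C : g' ^ (p ^ e) ∈ Subgroup.centralizer (X' : Set Q) := by
    rw [Subgroup.mem_centralizer_iff]
    intro a ha
    have h1 := (hpowconj (p ^ e) a ha).1
    have h2 := (Subgroup.mem_centralizer_iff.mp hyC) a ha
    rw [← hy] at h1
    have h3 : y * a * y⁻¹ = a := by rw [← h2]; group
    rw [h3] at h1
    calc a * g' ^ (p ^ e) = (g' ^ (p ^ e) * a * (g' ^ (p ^ e))⁻¹) * g' ^ (p ^ e) := by rw [h1]
      _ = g' ^ (p ^ e) * a := conj_cancel _ _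
  have hg'cen : g' ∈ Subgroup.centralizer (X' : Set Q) :=
    mem_of_pow_mem_coprime _ g' (p ^ e) (orderOf g) (Nat.Coprime.pow_left e hcop.symm) hg'C
      (by
        rw [hg', conj_pow, pow_orderOf_eq_one, mul_one, mul_inv_cancel]
        exact Subgroup.one_mem _)
  rw [Subgroup.mem_centralizer_iff]
  intro q hq
  have hq' : c * q * c⁻¹ ∈ X' := by
    rw [hX'mem]
    have e' : c⁻¹ * (c * q * c⁻¹) * c = q := by group
    rw [e']; exact hq
  have h1 := (Subgroup.mem_centralizer_iff.mp hg'cen) _ hq'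
  rw [hg'] at h1
  have h2 : c⁻¹ * (c * q * c⁻¹ * (c * g * c⁻¹)) * c = c⁻¹ * (c * g * c⁻¹ * (c * q * c⁻¹)) * c := by
    rw [h1]
  have e1 : c⁻¹ * (c * q * c⁻¹ * (c * g * c⁻¹)) * c = q * g := by group
  have e2 : c⁻¹ * (c * g * c⁻¹ * (c * q * c⁻¹)) * c = g * q := by group
  rw [e1, e2] at h2
  exact h2

end Cfsg.Agent.Helper1
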