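import Mathlib
import Cfsg.Prelude.Def_PLocal
import Cfsg.Prelude.Def_LocalEven
import Cfsg.Agent.Helper16.QdP
import Cfsg.Agent.Helper27.Involves
import Cfsg.Agent.Helper2.SLGen
import Cfsg.Agent.Helper1.Dickson

set_option autoImplicit false

namespace Cfsg.Agent.Helper1

open Matrix

section QdPlane

/-- Involvement passes from a quotient to the group. -/
theorem involves_of_surjective_hom {H : Type*} [Group H] {A : Type*} [Group A] {B : Type*}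
    [Group B] (π : A →* B) (hπ : Function.Surjective π) (h : Cfsg.Involves H B) :
    Cfsg.Involves H A := by
  obtain ⟨K, f, hf⟩ := Helper27.involves_exists_surj h
  exact Helper27.involves_of_surj (K.comap π) (f.comp (π.subgroupComap K))
    (hf.comp (π.subgroupComap_surjective_of_surjective K hπ))

/-- A map from an additive group turning sums into products sends `0` to `1` and negatives to
inverses. -/
theorem add_hom_zero_neg {A : Type*} [AddGroup A] {Y : Type*} [Group Y] (f : A → Y)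
    (hf : ∀ s t, f (s + t) = f s * f t) : f 0 = 1 ∧ ∀ s, f (-s) = (f s)⁻¹ := by
  have h0 : f 0 = 1 := by
    have h := hf 0 0
    rw [add_zero] at h
    calc f 0 = (f 0)⁻¹ * (f 0 * f 0) := by group
      _ = (f 0)⁻¹ * f 0 := by rw [← h]
      _ = 1 := inv_mul_cancel _
  refine ⟨h0, fun s => ?_⟩
  apply eq_inv_of_mul_eq_one_left
  rw [← hf, neg_add_cancel, h0]

/-- Two elements of `SL₂` with the same action on vectors are equal. -/
theorem sl2_eq_of_mulVec {F : Type*} [Field F] (A B : Matrix.SpecialLinearGroup (Fin 2) F)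
    (h : ∀ t : Fin 2 → F, A.1 *ᵥ t = B.1 *ᵥ t) : A = B := by
  have h1 : B⁻¹ * A = 1 := by
    apply Helper16.sl2_eq_one_of_fix_all
    intro t
    rw [Matrix.SpecialLinearGroup.coe_mul, ← Matrix.mulVec_mulVec, h t]
    exact Helper16.sl2_inv_mulVec B t
  exact (inv_mul_eq_one.mp h1).symm

/-- Multiplication of affine matrices. -/
theorem qdLift_mul' {F : Type*} [Field F] (A B : Matrix.SpecialLinearGroup (Fin 2) F)
    (s t : Fin 2 → F) :
    Helper16.qdLift A s * Helper16.qdLift B t = Helper16.qdLift (A * B) (s + A.1 *ᵥ t) := by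
  obtain ⟨a1, a2, a3, a4, a5, a6⟩ := Helper16.qdLift_apply A s
  obtain ⟨b1, b2, b3, b4, b5, b6⟩ := Helper16.qdLift_apply B t
  obtain ⟨k1, k2, k3, k4, k5, k6⟩ := Helper16.qdLift_apply (A * B) (s + A.1 *ᵥ t)
  obtain ⟨r0, r1, r2⟩ := Helper16.qdOver_row (Helper16.qdLift B t)
  have hv0 : (A.1 *ᵥ t) 0 = A.1 0 0 * t 0 + A.1 0 1 * t 1 := by
    simp [Matrix.mulVec, dotProduct, Fin.sum_univ_two]
  have hv1 : (A.1 *ᵥ t) 1 = A.1 1 0 * t 0 + A.1 1 1 * t 1 := by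
    simp [Matrix.mulVec, dotProduct, Fin.sum_univ_two]
  apply Helper16.qdOver_ext6
  · rw [Helper16.qdOver_mul_apply, a1, a2, b1, b4, r0, k1, Helper16.sl2_mul_apply]; ring
  · rw [Helper16.qdOver_mul_apply, a1, a2, b2, b5, r1, k2, Helper16.sl2_mul_apply]; ring
  · rw [Helper16.qdOver_mul_apply, a1, a2, a3, b3, b6, r2, k3, Pi.add_apply, hv0]; ring
  · rw [Helper16.qdOver_mul_apply, a4, a5, b1, b4, r0, k4, Helper16.sl2_mul_apply]; ring
  · rw [Helper16.qdOver_mul_apply, a4, a5, b2, b5, r1, k5, Helper16.sl2_mul_apply]; ring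
  · rw [Helper16.qdOver_mul_apply, a4, a5, a6, b3, b6, r2, k6, Pi.add_apply, hv1]; ring

/-- Frattini complement: if a `2`-element `t` inverts the `p`-group `Pl` (`p` odd) and lies in a
normal subgroup `Z`, then some subgroup `NN` containing `t` meets `Pl` trivially and covers the
group modulo `Z`. -/
theorem exists_complement_of_inverting {Y : Type*} [Group Y] [Finite Y] (p : ℕ) (hp : Odd p)
    (Pl Z : Subgroup Y) [Z.Normal] (hPlp : ∀ v ∈ Pl, v ^ p = 1)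
    (t : Y) (htZ : t ∈ Z) (a : ℕ) (hta : t ^ 2 ^ a = 1)
    (ht : ∀ v ∈ Pl, t * v * t⁻¹ = v⁻¹) :
    ∃ NN : Subgroup Y, t ∈ NN ∧ (∀ v ∈ Pl, v ∈ NN → v = 1) ∧
      ∀ g : Y, ∃ n ∈ NN, ∃ z ∈ Z, g = n * z := by
  obtain ⟨zt, hzt⟩ : ∃ zt : ↥Z, zt = ⟨t, htZ⟩ := ⟨_, rfl⟩
  have hztpow : zt ^ 2 ^ a = 1 := by
    rw [hzt]
    apply Subtype.ext
    rw [Subgroup.coe_pow, Subgroup.coe_one]
    exact hta
  have hord : orderOf zt ∣ 2 ^ a := orderOf_dvd_of_pow_eq_one hztpow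
  obtain ⟨b, _, hb⟩ := (Nat.dvd_prime_pow Nat.prime_two).mp hord
  have hzp : IsPGroup 2 ↥(Subgroup.zpowers zt) :=
    IsPGroup.of_card (n := b) (by rw [Nat.card_zpowers, hb])
  obtain ⟨S₂, hS₂⟩ := hzp.exists_le_sylow
  have hfr := Sylow.normalizer_sup_eq_top S₂
  obtain ⟨T, hT⟩ : ∃ T : Subgroup Y, T = (S₂ : Subgroup ↥Z).map Z.subtype := ⟨_, rfl⟩
  rw [← hT] at hfr
  have htT : t ∈ T := by
    rw [hT]
    exact ⟨zt, hS₂ (Subgroup.mem_zpowers zt), by rw [hzt]; rfl⟩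
  have hT2 : IsPGroup 2 ↥T := by
    rw [hT]
    exact S₂.isPGroup'.map Z.subtype
  refine ⟨Subgroup.normalizer (T : Set Y), Subgroup.le_normalizer htT, ?_, ?_⟩
  · intro v hvPl hvN
    have h1 : v * t * v⁻¹ ∈ T := (Subgroup.mem_normalizer_iff.mp hvN t).mp htT
    have h2 : v * t * v⁻¹ * t⁻¹ ∈ T := T.mul_mem h1 (T.inv_mem htT)
    have h3 : v * t * v⁻¹ * t⁻¹ = v * v := by
      calc v * t * v⁻¹ * t⁻¹ = v * (t * v⁻¹ * t⁻¹) := by group
        _ = v * (v⁻¹)⁻¹ := by rw [ht _ (Pl.inv_mem hvPl)]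
        _ = v * v := by rw [inv_inv]
    rw [h3] at h2
    obtain ⟨k, hk⟩ := hT2 ⟨v * v, h2⟩
    have hk' : (v * v) ^ 2 ^ k = 1 := by
      have h4 := congrArg Subtype.val hk
      rw [Subgroup.coe_pow, Subgroup.coe_one] at h4
      exact h4
    have hk2 : v ^ 2 ^ (k + 1) = 1 := by
      rw [pow_succ, mul_comm, pow_mul, pow_two]
      exact hk'
    have hd1 : orderOf v ∣ 2 ^ (k + 1) := orderOf_dvd_of_pow_eq_one hk2
    have hd2 : orderOf v ∣ p := orderOf_dvd_of_pow_eq_one (hPlp v hvPl)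
    have hcop : Nat.Coprime (2 ^ (k + 1)) p :=
      Nat.Coprime.pow_left _ (Nat.coprime_two_left.mpr hp)
    have h5 : orderOf v ∣ 1 := by
      have h6 := Nat.dvd_gcd hd1 hd2
      rw [Nat.Coprime.gcd_eq_one hcop] at h6
      exact h6
    exact orderOf_eq_one_iff.mp (Nat.dvd_one.mp h5)
  · intro g
    have hg : g ∈ Subgroup.normalizer (T : Set Y) ⊔ Z := by rw [hfr]; trivial
    obtain ⟨n, hn, z, hz, hnz⟩ := Subgroup.mem_sup_of_normal_right.mp hg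
    exact ⟨n, hn, z, hz, hnz.symm⟩

/-- A group with a parametrised plane `φ₀`, a matrix-valued action homomorphism `m` and a
complement `NN` covering `SL₂(p)` involves `Qd(p)`. -/
theorem qd_involved_of_complement {Y : Type*} [Group Y] (p : ℕ) [Fact p.Prime]
    (φ₀ : (Fin 2 → ZMod p) → Y) (hφadd : ∀ s t, φ₀ (s + t) = φ₀ s * φ₀ t)
    (hφinj : Function.Injective φ₀)
    (m : Y →* Matrix.SpecialLinearGroup (Fin 2) (ZMod p))
    (hm : ∀ (g : Y) (t : Fin 2 → ZMod p), g * φ₀ t * g⁻¹ = φ₀ ((m g).1 *ᵥ t))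
    (NN : Subgroup Y) (hNN1 : ∀ s, φ₀ s ∈ NN → s = 0)
    (hNN2 : ∀ A : Matrix.SpecialLinearGroup (Fin 2) (ZMod p), ∃ n ∈ NN, m n = A) :
    Cfsg.Involves ↥(Cfsg.qd p) Y := by
  obtain ⟨hφ0, hφneg⟩ := add_hom_zero_neg φ₀ hφadd
  have hmφ : ∀ s, m (φ₀ s) = 1 := by
    intro s
    apply Helper16.sl2_eq_one_of_fix_all
    intro t
    apply hφinj
    rw [← hm, ← hφneg, ← hφadd, ← hφadd]
    congr 1
    abel
  have hmul : ∀ (s s' : Fin 2 → ZMod p) (n n' : Y),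
      φ₀ s * n * (φ₀ s' * n') = φ₀ (s + (m n).1 *ᵥ s') * (n * n') := by
    intro s s' n n'
    rw [hφadd, ← hm]
    group
  have huniq : ∀ (s s' : Fin 2 → ZMod p) (n n' : Y), n ∈ NN → n' ∈ NN →
      φ₀ s * n = φ₀ s' * n' → s = s' := by
    intro s s' n n' hn hn' h
    have h1 : φ₀ (-s' + s) = n' * n⁻¹ := by
      rw [hφadd, hφneg]
      calc (φ₀ s')⁻¹ * φ₀ s = (φ₀ s')⁻¹ * (φ₀ s * n) * n⁻¹ := by group
        _ = (φ₀ s')⁻¹ * (φ₀ s' * n') * n⁻¹ := by rw [h]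
        _ = n' * n⁻¹ := by group
    have h2 : -s' + s = 0 := hNN1 _ (by rw [h1]; exact NN.mul_mem hn' (NN.inv_mem hn))
    exact (neg_add_eq_zero.mp h2).symm
  obtain ⟨K, hK⟩ : ∃ K : Subgroup Y, ∀ k : Y, k ∈ K ↔ ∃ s, ∃ n ∈ NN, k = φ₀ s * n := by
    refine ⟨{ carrier := {k | ∃ s, ∃ n ∈ NN, k = φ₀ s * n}
              mul_mem' := ?_
              one_mem' := ?_
              inv_mem' := ?_ }, fun k => Iff.rfl⟩
    · rintro _ _ ⟨s, n, hn, rfl⟩ ⟨s', n', hn', rfl⟩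
      exact ⟨_, _, NN.mul_mem hn hn', hmul s s' n n'⟩
    · exact ⟨0, 1, NN.one_mem, by rw [hφ0, one_mul]⟩
    · rintro _ ⟨s, n, hn, rfl⟩
      refine ⟨(m n⁻¹).1 *ᵥ (-s), n⁻¹, NN.inv_mem hn, ?_⟩
      rw [← hm, hφneg]
      group
  have hdec : ∀ k : ↥K, ∃ s, ∃ n ∈ NN, (k : Y) = φ₀ s * n := fun k => (hK k).mp k.2
  choose sc nc hnc hk using hdec
  have hmk : ∀ k : ↥K, m (k : Y) = m (nc k) := by
    intro k
    conv_lhs => rw [hk k]
    rw [map_mul, hmφ, one_mul]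
  have hsc : ∀ k k' : ↥K, sc (k * k') = sc k + (m (k : Y)).1 *ᵥ sc k' := by
    intro k k'
    have h1 : φ₀ (sc (k * k')) * nc (k * k') =
        φ₀ (sc k + (m (nc k)).1 *ᵥ sc k') * (nc k * nc k') := by
      have e : ((k * k' : ↥K) : Y) = (k : Y) * (k' : Y) := rfl
      rw [← hmul, ← hk k, ← hk k', ← e, ← hk (k * k')]
    rw [hmk k]
    exact huniq (sc (k * k')) (sc k + (m (nc k)).1 *ᵥ sc k') (nc (k * k')) (nc k * nc k')
      (hnc _) (NN.mul_mem (hnc k) (hnc k')) h1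
  obtain ⟨Φ, hΦ⟩ : ∃ Φ : ↥K →* ↥(Cfsg.qdOver (ZMod p)),
      ∀ k : ↥K, Φ k = Helper16.qdLift (m (k : Y)) (sc k) := by
    refine ⟨MonoidHom.mk' (fun k => Helper16.qdLift (m (k : Y)) (sc k)) ?_, fun k => rfl⟩
    intro k k'
    show Helper16.qdLift (m ((k * k' : ↥K) : Y)) (sc (k * k')) = _
    rw [hsc, qdLift_mul', Subgroup.coe_mul, map_mul]
  have hsurj : Function.Surjective Φ := by
    intro M
    obtain ⟨n, hn, hmn⟩ := hNN2 (Helper16.qdPi (ZMod p) M)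
    obtain ⟨v, hv⟩ : ∃ v : Fin 2 → ZMod p, v = ![M.1.1 0 2, M.1.1 1 2] := ⟨_, rfl⟩
    have hkK : φ₀ v * n ∈ K := (hK _).mpr ⟨v, n, hn, rfl⟩
    refine ⟨⟨φ₀ v * n, hkK⟩, ?_⟩
    have h1 : sc ⟨φ₀ v * n, hkK⟩ = v :=
      huniq (sc ⟨φ₀ v * n, hkK⟩) v (nc ⟨φ₀ v * n, hkK⟩) n (hnc _) hn
        (hk ⟨φ₀ v * n, hkK⟩).symm
    have h2 : m ((⟨φ₀ v * n, hkK⟩ : ↥K) : Y) = Helper16.qdPi (ZMod p) M := by
      show m (φ₀ v * n) = _
      rw [map_mul, hmφ, one_mul, hmn]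
    rw [hΦ, h1, h2, hv]
    exact Helper16.qdLift_pi M
  exact Helper27.involves_of_surj K Φ hsurj

end QdPlane

end Cfsg.Agent.Helper1
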