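import Mathlib
import Cfsg.Agent.Helper1.QdPlane

set_option autoImplicit false

namespace Cfsg.Agent.Helper1

open Matrix

section QdConfig

/-- A finite group containing a "natural `SL₂(p)`-plane configuration" involves `Qd(p)`. -/
theorem qd_involved_of_config {Γ : Type*} [Group Γ] [Finite Γ] (p : ℕ) [Fact p.Prime]
    (hp2 : p ≠ 2) (u₁ u₂ g₁ g₂ : Γ) (hu₁ : u₁ ≠ 1) (hp₁ : u₁ ^ p = 1) (hp₂ : u₂ ^ p = 1)
    (hcomm : u₁ * u₂ = u₂ * u₁)
    (h11 : g₁ * u₁ * g₁⁻¹ = u₁) (h12 : g₁ * u₂ * g₁⁻¹ = u₁ * u₂)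
    (h21 : g₂ * u₁ * g₂⁻¹ = u₁ * u₂) (h22 : g₂ * u₂ * g₂⁻¹ = u₂) :
    Cfsg.Involves ↥(Cfsg.qd p) Γ := by
  classical
  have hpp : p.Prime := Fact.out
  haveI : NeZero p := ⟨hpp.ne_zero⟩
  have hodd : Odd p := hpp.odd_of_ne_two hp2
  have hc : Commute u₁ u₂ := hcomm
  have ho₁ : orderOf u₁ = p := orderOf_eq_prime hp₁ hu₁
  have hvalinj : ∀ a b : ZMod p, u₁ ^ a.val = u₁ ^ b.val → a = b := by
    intro a b h
    rw [pow_eq_pow_iff_modEq, ho₁] at h
    exact ZMod.val_injective p (Nat.ModEq.eq_of_lt_of_lt h (ZMod.val_lt a) (ZMod.val_lt b))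
  have hvaladd : ∀ (u : Γ), u ^ p = 1 → ∀ a b : ZMod p,
      u ^ (a + b).val = u ^ a.val * u ^ b.val := by
    intro u hu a b
    rw [ZMod.val_add, ← pow_eq_pow_mod _ hu, pow_add]
  obtain ⟨φ₀, hφ₀⟩ : ∃ φ₀ : (Fin 2 → ZMod p) → Γ,
      ∀ t, φ₀ t = u₁ ^ (t 0).val * u₂ ^ (t 1).val := ⟨_, fun t => rfl⟩
  have hφadd : ∀ s t, φ₀ (s + t) = φ₀ s * φ₀ t := by
    intro s t
    rw [hφ₀ (s + t), hφ₀ s, hφ₀ t, Pi.add_apply, Pi.add_apply, hvaladd u₁ hp₁, hvaladd u₂ hp₂]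
    have hcc : u₁ ^ (t 0).val * u₂ ^ (s 1).val = u₂ ^ (s 1).val * u₁ ^ (t 0).val :=
      (hc.pow_pow _ _).eq
    calc u₁ ^ (s 0).val * u₁ ^ (t 0).val * (u₂ ^ (s 1).val * u₂ ^ (t 1).val)
        = u₁ ^ (s 0).val * ((u₁ ^ (t 0).val * u₂ ^ (s 1).val) * u₂ ^ (t 1).val) := by
          simp only [mul_assoc]
      _ = u₁ ^ (s 0).val * ((u₂ ^ (s 1).val * u₁ ^ (t 0).val) * u₂ ^ (t 1).val) := by rw [hcc]
      _ = u₁ ^ (s 0).val * u₂ ^ (s 1).val * (u₁ ^ (t 0).val * u₂ ^ (t 1).val) := by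
          simp only [mul_assoc]
  obtain ⟨hφ0, hφneg⟩ := add_hom_zero_neg φ₀ hφadd
  have hconj : ∀ (g x y : Γ), g * u₁ * g⁻¹ = x → g * u₂ * g⁻¹ = y →
      ∀ t, g * φ₀ t * g⁻¹ = x ^ (t 0).val * y ^ (t 1).val := by
    intro g x y hx hy t
    rw [hφ₀, ← conj_mul, ← conj_pow, ← conj_pow, hx, hy]
  have hF1 : ∀ t, g₁ * φ₀ t * g₁⁻¹ = u₁ ^ (t 1).val * φ₀ t := by
    intro t
    rw [hconj g₁ u₁ (u₁ * u₂) h11 h12 t, hc.mul_pow, hφ₀ t, ← mul_assoc, ← mul_assoc,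
      ← pow_add, ← pow_add, add_comm (t 0).val (t 1).val]
  have hF2 : ∀ t, g₂ * φ₀ t * g₂⁻¹ = φ₀ t * u₂ ^ (t 0).val := by
    intro t
    rw [hconj g₂ (u₁ * u₂) u₂ h21 h22 t, hc.mul_pow, hφ₀ t, mul_assoc, mul_assoc,
      ← pow_add, ← pow_add, add_comm (t 0).val (t 1).val]
  have hφinj : Function.Injective φ₀ := by
    intro s t hst
    have e1 : u₁ ^ (s 1).val * φ₀ t = u₁ ^ (t 1).val * φ₀ t := by
      have a1 := hF1 s
      rw [hst] at a1
      exact a1.symm.trans (hF1 t)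
    have h1 : s 1 = t 1 := hvalinj _ _ (mul_right_cancel e1)
    have e2 : u₁ ^ (s 0).val * u₂ ^ (t 1).val = u₁ ^ (t 0).val * u₂ ^ (t 1).val := by
      have a2 := hst
      rw [hφ₀ s, hφ₀ t, h1] at a2
      exact a2
    have h0 : s 0 = t 0 := hvalinj _ _ (mul_right_cancel e2)
    exact funext (Fin.forall_fin_two.mpr ⟨h0, h1⟩)
  have h01 : (0 : Fin 2) ≠ 1 := by decide
  have h10 : (1 : Fin 2) ≠ 0 := by decide
  have hU : ∀ t : Fin 2 → ZMod p,
      φ₀ ((Matrix.SpecialLinearGroup.transvection h01 (1 : ZMod p)).1 *ᵥ t) =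
        u₁ ^ (t 1).val * φ₀ t := by
    intro t
    have e0 : ((Matrix.SpecialLinearGroup.transvection h01 (1 : ZMod p)).1 *ᵥ t) 0 =
        t 0 + t 1 := by
      simp [Matrix.SpecialLinearGroup.transvection, Matrix.transvection, Matrix.mulVec,
        dotProduct, Fin.sum_univ_two, Matrix.add_apply, Matrix.single_apply, Matrix.one_apply]
    have e1 : ((Matrix.SpecialLinearGroup.transvection h01 (1 : ZMod p)).1 *ᵥ t) 1 = t 1 := by
      simp [Matrix.SpecialLinearGroup.transvection, Matrix.transvection, Matrix.mulVec,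
        dotProduct, Fin.sum_univ_two, Matrix.add_apply, Matrix.single_apply, Matrix.one_apply]
    rw [hφ₀ ((Matrix.SpecialLinearGroup.transvection h01 (1 : ZMod p)).1 *ᵥ t), e0, e1,
      hvaladd u₁ hp₁, hφ₀ t, ← mul_assoc, ← pow_add, ← pow_add,
      add_comm (t 0).val (t 1).val]
  have hL : ∀ t : Fin 2 → ZMod p,
      φ₀ ((Matrix.SpecialLinearGroup.transvection h10 (1 : ZMod p)).1 *ᵥ t) =
        φ₀ t * u₂ ^ (t 0).val := by
    intro t
    have e0 : ((Matrix.SpecialLinearGroup.transvection h10 (1 : ZMod p)).1 *ᵥ t) 0 = t 0 := by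
      simp [Matrix.SpecialLinearGroup.transvection, Matrix.transvection, Matrix.mulVec,
        dotProduct, Fin.sum_univ_two, Matrix.add_apply, Matrix.single_apply, Matrix.one_apply]
    have e1 : ((Matrix.SpecialLinearGroup.transvection h10 (1 : ZMod p)).1 *ᵥ t) 1 =
        t 0 + t 1 := by
      simp [Matrix.SpecialLinearGroup.transvection, Matrix.transvection, Matrix.mulVec,
        dotProduct, Fin.sum_univ_two, Matrix.add_apply, Matrix.single_apply, Matrix.one_apply]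
    rw [hφ₀ ((Matrix.SpecialLinearGroup.transvection h10 (1 : ZMod p)).1 *ᵥ t), e0, e1,
      hvaladd u₂ hp₂, hφ₀ t, mul_assoc, ← pow_add, ← pow_add,
      add_comm (t 0).val (t 1).val]
  -- the subgroup of elements acting on the plane through `SL₂(p)`
  obtain ⟨ΓS, hΓS⟩ : ∃ ΓS : Subgroup Γ, ∀ g : Γ, g ∈ ΓS ↔
      ∃ A : Matrix.SpecialLinearGroup (Fin 2) (ZMod p),
        ∀ t, g * φ₀ t * g⁻¹ = φ₀ (A.1 *ᵥ t) := by
    refine ⟨{ carrier := {g | ∃ A : Matrix.SpecialLinearGroup (Fin 2) (ZMod p),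
                ∀ t, g * φ₀ t * g⁻¹ = φ₀ (A.1 *ᵥ t)}
              mul_mem' := ?_
              one_mem' := ?_
              inv_mem' := ?_ }, fun g => Iff.rfl⟩
    · rintro g g' ⟨A, hA⟩ ⟨A', hA'⟩
      refine ⟨A * A', fun t => ?_⟩
      rw [Matrix.SpecialLinearGroup.coe_mul, ← Matrix.mulVec_mulVec, ← hA, ← hA']
      group
    · refine ⟨1, fun t => ?_⟩
      rw [Matrix.SpecialLinearGroup.coe_one, Matrix.one_mulVec]
      group
    · rintro g ⟨A, hA⟩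
      refine ⟨A⁻¹, fun t => ?_⟩
      have h := hA (A⁻¹.1 *ᵥ t)
      rw [Matrix.mulVec_mulVec, ← Matrix.SpecialLinearGroup.coe_mul, mul_inv_cancel,
        Matrix.SpecialLinearGroup.coe_one, Matrix.one_mulVec] at h
      rw [← h]
      group
  have hex : ∀ g : ↥ΓS, ∃ A : Matrix.SpecialLinearGroup (Fin 2) (ZMod p),
      ∀ t, (g : Γ) * φ₀ t * (g : Γ)⁻¹ = φ₀ (A.1 *ᵥ t) := fun g => (hΓS g).mp g.2
  choose mf hmf using hex
  have hmuniq : ∀ (g : ↥ΓS) (A : Matrix.SpecialLinearGroup (Fin 2) (ZMod p)),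
      (∀ t, (g : Γ) * φ₀ t * (g : Γ)⁻¹ = φ₀ (A.1 *ᵥ t)) → mf g = A := by
    intro g A hA
    apply sl2_eq_of_mulVec
    intro t
    apply hφinj
    rw [← hmf g t, hA t]
  obtain ⟨m, hm⟩ : ∃ m : ↥ΓS →* Matrix.SpecialLinearGroup (Fin 2) (ZMod p),
      ∀ g, m g = mf g := by
    refine ⟨MonoidHom.mk' mf ?_, fun g => rfl⟩
    intro g g'
    apply hmuniq
    intro t
    rw [Matrix.SpecialLinearGroup.coe_mul, ← Matrix.mulVec_mulVec, ← hmf g, ← hmf g',
      Subgroup.coe_mul]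
    group
  have hm' : ∀ (g : ↥ΓS) (t : Fin 2 → ZMod p),
      (g : Γ) * φ₀ t * (g : Γ)⁻¹ = φ₀ ((m g).1 *ᵥ t) := by
    intro g t
    rw [hm]
    exact hmf g t
  have hmeq : ∀ (g : ↥ΓS) (A : Matrix.SpecialLinearGroup (Fin 2) (ZMod p)),
      (∀ t, (g : Γ) * φ₀ t * (g : Γ)⁻¹ = φ₀ (A.1 *ᵥ t)) → m g = A := by
    intro g A h
    rw [hm]
    exact hmuniq g A h
  have hφcomm : ∀ s t, φ₀ s * φ₀ t = φ₀ t * φ₀ s := by
    intro s t
    rw [← hφadd, ← hφadd, add_comm]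
  have hφmem : ∀ s, φ₀ s ∈ ΓS := by
    intro s
    rw [hΓS]
    refine ⟨1, fun t => ?_⟩
    rw [Matrix.SpecialLinearGroup.coe_one, Matrix.one_mulVec, hφcomm s t]
    group
  obtain ⟨ι, hι⟩ : ∃ ι : (Fin 2 → ZMod p) → ↥ΓS, ∀ s, (ι s : Γ) = φ₀ s :=
    ⟨fun s => ⟨φ₀ s, hφmem s⟩, fun s => rfl⟩
  have hιadd : ∀ s t, ι (s + t) = ι s * ι t := by
    intro s t
    apply Subtype.ext
    rw [Subgroup.coe_mul, hι, hι, hι, hφadd]
  obtain ⟨hι0, hιneg⟩ := add_hom_zero_neg ι hιadd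
  have hιinj : Function.Injective ι := by
    intro s t h
    apply hφinj
    rw [← hι, ← hι, h]
  have hιm : ∀ (g : ↥ΓS) (t : Fin 2 → ZMod p), g * ι t * g⁻¹ = ι ((m g).1 *ᵥ t) := by
    intro g t
    apply Subtype.ext
    rw [Subgroup.coe_mul, Subgroup.coe_mul, Subgroup.coe_inv, hι, hι]
    exact hm' g t
  -- surjectivity of `m`
  have hg₁mem : g₁ ∈ ΓS := by
    rw [hΓS]
    exact ⟨Matrix.SpecialLinearGroup.transvection h01 1, fun t => by rw [hF1, hU]⟩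
  have hg₂mem : g₂ ∈ ΓS := by
    rw [hΓS]
    exact ⟨Matrix.SpecialLinearGroup.transvection h10 1, fun t => by rw [hF2, hL]⟩
  have hm₁ : m ⟨g₁, hg₁mem⟩ = Matrix.SpecialLinearGroup.transvection h01 1 :=
    hmeq _ _ (fun t => by
      show g₁ * φ₀ t * g₁⁻¹ = _
      rw [hF1, hU])
  have hm₂ : m ⟨g₂, hg₂mem⟩ = Matrix.SpecialLinearGroup.transvection h10 1 :=
    hmeq _ _ (fun t => by
      show g₂ * φ₀ t * g₂⁻¹ = _
      rw [hF2, hL])
  have hgenT : ∀ (i j : Fin 2) (hij : i ≠ j),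
      ∃ g : ↥ΓS, m g = Matrix.SpecialLinearGroup.transvection hij 1 := by
    intro i j hij
    have hi2 := i.isLt
    have hj2 := j.isLt
    have hne : (i : ℕ) ≠ (j : ℕ) := fun h => hij (Fin.ext h)
    by_cases hi : (i : ℕ) = 0
    · have hi' : i = 0 := Fin.ext hi
      have hj' : j = 1 := Fin.ext (by show (j : ℕ) = 1; omega)
      subst hi'; subst hj'
      exact ⟨_, hm₁⟩
    · have hi' : i = 1 := Fin.ext (by show (i : ℕ) = 1; omega)
      have hj' : j = 0 := Fin.ext (by show (j : ℕ) = 0; omega)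
      subst hi'; subst hj'
      exact ⟨_, hm₂⟩
  have hmsurj : ∀ A : Matrix.SpecialLinearGroup (Fin 2) (ZMod p), ∃ g : ↥ΓS, m g = A := by
    intro A
    refine Helper2.transvection_induction (fun A => ∃ g : ↥ΓS, m g = A) ?_ ?_ A
    · intro i j hij c
      show ∃ g : ↥ΓS, m g = Matrix.SpecialLinearGroup.transvection hij c
      obtain ⟨g, hg⟩ := hgenT i j hij
      refine ⟨g ^ (ZMod.val c), ?_⟩
      rw [map_pow, hg, ← sl_transvection_natCast hij (ZMod.val c), ZMod.natCast_zmod_val]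
    · rintro A B ⟨g, hg⟩ ⟨g', hg'⟩
      exact ⟨g * g', by rw [map_mul, hg, hg']⟩
  -- the central element `-1`
  obtain ⟨negI, hnegI⟩ : ∃ negI : Matrix.SpecialLinearGroup (Fin 2) (ZMod p),
      ∀ t : Fin 2 → ZMod p, negI.1 *ᵥ t = -t := by
    refine ⟨⟨-1, by rw [Matrix.det_neg, Matrix.det_one, Fintype.card_fin]; ring⟩, fun t => ?_⟩
    show (-(1 : Matrix (Fin 2) (Fin 2) (ZMod p))) *ᵥ t = -t
    rw [Matrix.neg_mulVec, Matrix.one_mulVec]
  have hnn : negI * negI = 1 :=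
    sl2_eq_of_mulVec _ _ (fun t => by
      rw [Matrix.SpecialLinearGroup.coe_mul, ← Matrix.mulVec_mulVec, hnegI, hnegI, neg_neg,
        Matrix.SpecialLinearGroup.coe_one, Matrix.one_mulVec])
  have hncomm : ∀ B : Matrix.SpecialLinearGroup (Fin 2) (ZMod p), negI * B = B * negI :=
    fun B => sl2_eq_of_mulVec _ _ (fun t => by
      rw [Matrix.SpecialLinearGroup.coe_mul, Matrix.SpecialLinearGroup.coe_mul,
        ← Matrix.mulVec_mulVec, ← Matrix.mulVec_mulVec, hnegI, hnegI, Matrix.mulVec_neg])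
  obtain ⟨t₀, ht₀⟩ := hmsurj negI
  obtain ⟨a, r, hr, har⟩ := Nat.exists_eq_two_pow_mul_odd (orderOf_pos t₀).ne'
  obtain ⟨tt, htt⟩ : ∃ tt : ↥ΓS, tt = t₀ ^ r := ⟨_, rfl⟩
  have htta : tt ^ 2 ^ a = 1 := by
    rw [htt, ← pow_mul, mul_comm, ← har, pow_orderOf_eq_one]
  have hmtt : m tt = negI := by
    rw [htt, map_pow, ht₀]
    obtain ⟨j, hj⟩ := hr
    rw [hj, pow_succ, pow_mul, pow_two, hnn, one_pow, one_mul]
  -- the plane and the preimage of the centre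
  obtain ⟨Pl, hPl⟩ : ∃ Pl : Subgroup ↥ΓS, ∀ v : ↥ΓS, v ∈ Pl ↔ ∃ s, v = ι s := by
    refine ⟨{ carrier := {v | ∃ s, v = ι s}
              mul_mem' := ?_
              one_mem' := ?_
              inv_mem' := ?_ }, fun v => Iff.rfl⟩
    · rintro _ _ ⟨s, rfl⟩ ⟨s', rfl⟩
      exact ⟨s + s', (hιadd s s').symm⟩
    · exact ⟨0, hι0.symm⟩
    · rintro _ ⟨s, rfl⟩
      exact ⟨-s, (hιneg s).symm⟩
  obtain ⟨Z, hZ⟩ : ∃ Z : Subgroup ↥ΓS, ∀ g : ↥ΓS, g ∈ Z ↔ (m g = 1 ∨ m g = negI) := by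
    refine ⟨{ carrier := {g | m g = 1 ∨ m g = negI}
              mul_mem' := ?_
              one_mem' := ?_
              inv_mem' := ?_ }, fun g => Iff.rfl⟩
    · rintro g g' (h | h) (h' | h')
      · exact Or.inl (by rw [map_mul, h, h', one_mul])
      · exact Or.inr (by rw [map_mul, h, h', one_mul])
      · exact Or.inr (by rw [map_mul, h, h', mul_one])
      · exact Or.inl (by rw [map_mul, h, h', hnn])
    · exact Or.inl (map_one m)
    · rintro g (h | h)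
      · exact Or.inl (by rw [map_inv, h, inv_one])
      · exact Or.inr (by rw [map_inv, h]; exact inv_eq_of_mul_eq_one_right hnn)
  haveI hZn : Z.Normal := by
    constructor
    intro n hn g
    rw [hZ] at hn ⊢
    rcases hn with h | h
    · left
      rw [map_mul, map_mul, h, mul_one, map_inv, mul_inv_cancel]
    · right
      rw [map_mul, map_mul, h, ← hncomm, map_inv, mul_assoc, mul_inv_cancel, mul_one]
  have hPlp : ∀ v ∈ Pl, v ^ p = 1 := by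
    intro v hv
    obtain ⟨s, rfl⟩ := (hPl v).mp hv
    have hpow : ∀ n : ℕ, (ι s) ^ n = ι (n • s) := by
      intro n
      induction n with
      | zero => rw [pow_zero, zero_nsmul, hι0]
      | succ n ih => rw [pow_succ, ih, succ_nsmul, hιadd]
    rw [hpow]
    have h0 : (p • s : Fin 2 → ZMod p) = 0 := by
      funext i
      simp
    rw [h0, hι0]
  have httPl : ∀ v ∈ Pl, tt * v * tt⁻¹ = v⁻¹ := by
    intro v hv
    obtain ⟨s, rfl⟩ := (hPl v).mp hv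
    rw [hιm, hmtt, hnegI, hιneg]
  obtain ⟨NN, htNN, hNN1, hNN2⟩ := exists_complement_of_inverting p hodd Pl Z hPlp tt
    ((hZ tt).mpr (Or.inr hmtt)) a htta httPl
  have hA1 : ∀ s, ι s ∈ NN → s = 0 := by
    intro s hs
    have h := hNN1 (ι s) ((hPl _).mpr ⟨s, rfl⟩) hs
    apply hιinj
    rw [h, hι0]
  have hA2 : ∀ A : Matrix.SpecialLinearGroup (Fin 2) (ZMod p), ∃ n ∈ NN, m n = A := by
    intro A
    obtain ⟨g, hg⟩ := hmsurj A
    obtain ⟨n, hn, z, hz, hgz⟩ := hNN2 g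
    rcases (hZ z).mp hz with h | h
    · exact ⟨n, hn, by rw [← hg, hgz, map_mul, h, mul_one]⟩
    · exact ⟨n * tt, NN.mul_mem hn htNN, by rw [← hg, hgz, map_mul, map_mul, h, hmtt]⟩
  have hinv := qd_involved_of_complement p ι hιadd hιinj m hιm NN hA1 hA2
  exact Helper27.involves_of_injective ΓS.subtype (Subgroup.subtype_injective _) hinv

end QdConfig

end Cfsg.Agent.Helper1
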