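import Mathlib
import Cfsg.Agent.Helper1.QdConfig
import Cfsg.Agent.Helper1.QuadCore
import Cfsg.Agent.Helper1.QuadRing

set_option autoImplicit false

universe u

namespace Cfsg.Agent.Helper1

section QdQuad

/-- Kernel of an additive endomorphism as an additive subgroup. -/
def endKer {W : Type*} [AddCommGroup W] (T : AddMonoid.End W) : AddSubgroup W where
  carrier := {w | T w = 0}
  add_mem' := by
    intro a b ha hb
    show T (a + b) = 0
    rw [map_add, show T a = 0 from ha, show T b = 0 from hb, add_zero]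
  zero_mem' := map_zero T
  neg_mem' := by
    intro a ha
    show T (-a) = 0
    rw [map_neg, show T a = 0 from ha, neg_zero]

theorem mem_endKer {W : Type*} [AddCommGroup W] (T : AddMonoid.End W) (w : W) :
    w ∈ endKer T ↔ T w = 0 := Iff.rfl

/-- The module lemma: two quadratic endomorphism-units acting irreducibly either act trivially or
produce a natural `SL₂(p)`-plane. -/
theorem quad_module_plane {W : Type*} [AddCommGroup W] [Finite W] {p : ℕ} [Fact p.Prime]
    (hp2 : p ≠ 2) (hW : ∀ w : W, p • w = 0) {H : Type*} [Group H]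
    (ρ : H →* AddMonoid.End W) (x y : H)
    (hqx : ∀ w : W, ρ x (ρ x w - w) = ρ x w - w) (hqy : ∀ w : W, ρ y (ρ y w - w) = ρ y w - w)
    (hirr : ∀ U : AddSubgroup W, (∀ u ∈ U, ρ x u ∈ U) → (∀ u ∈ U, ρ y u ∈ U) →
      U = ⊥ ∨ U = ⊤) :
    ((∀ w, ρ x w = w) ∧ (∀ w, ρ y w = w)) ∨
    ∃ (h₁ h₂ : H) (w₁ w₂ : W), w₁ ≠ 0 ∧ ρ h₁ w₁ = w₁ ∧ ρ h₁ w₂ = w₂ + w₁ ∧
      ρ h₂ w₁ = w₁ + w₂ ∧ ρ h₂ w₂ = w₂ := by
  classical
  have hpp : p.Prime := Fact.out
  have hodd : Odd p := hpp.odd_of_ne_two hp2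
  haveI : Finite (AddMonoid.End W) :=
    Finite.of_injective (fun f : AddMonoid.End W => (f : W → W)) DFunLike.coe_injective
  have hpR : ((p : ℕ) : AddMonoid.End W) = 0 := by
    refine AddMonoidHom.ext (fun w => ?_)
    show p • w = 0
    exact hW w
  obtain ⟨A, hA⟩ : ∃ A : AddMonoid.End W, A = ρ x - 1 := ⟨_, rfl⟩
  obtain ⟨B, hB⟩ : ∃ B : AddMonoid.End W, B = ρ y - 1 := ⟨_, rfl⟩
  have hAw : ∀ w, A w = ρ x w - w := fun w => by rw [hA]; rfl
  have hBw : ∀ w, B w = ρ y w - w := fun w => by rw [hB]; rfl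
  have hxw : ∀ w, ρ x w = w + A w := fun w => by rw [hAw]; abel
  have hyw : ∀ w, ρ y w = w + B w := fun w => by rw [hBw]; abel
  have hAAw : ∀ w, A (A w) = 0 := by
    intro w
    rw [hAw (A w), hAw w, hqx w, sub_self]
  have hBBw : ∀ w, B (B w) = 0 := by
    intro w
    rw [hBw (B w), hBw w, hqy w, sub_self]
  have hAA : A * A = 0 := by
    refine AddMonoidHom.ext (fun w => ?_)
    show A (A w) = 0
    exact hAAw w
  have hBB : B * B = 0 := by
    refine AddMonoidHom.ext (fun w => ?_)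
    show B (B w) = 0
    exact hBBw w
  obtain ⟨τ, hτ⟩ : ∃ τ : AddMonoid.End W, τ = A * B + B * A := ⟨_, rfl⟩
  have hτw : ∀ w, τ w = A (B w) + B (A w) := fun w => by rw [hτ]; rfl
  have hτA : ∀ w, τ (A w) = A (τ w) := by
    intro w
    rw [hτw (A w), hτw w, hAAw w, map_zero, add_zero, map_add, hAAw (B w), zero_add]
  have hτB : ∀ w, τ (B w) = B (τ w) := by
    intro w
    rw [hτw (B w), hτw w, hBBw w, map_zero, zero_add, map_add, hBBw (A w), add_zero]
  have hker := hirr (endKer τ)
    (by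
      intro u hu
      rw [mem_endKer] at hu ⊢
      rw [hxw, map_add, hu, hτA, hu, map_zero, add_zero])
    (by
      intro u hu
      rw [mem_endKer] at hu ⊢
      rw [hyw, map_add, hu, hτB, hu, map_zero, add_zero])
  rcases hker with hk | hk
  · -- `τ` is invertible
    have hinj : Function.Injective τ := by
      intro a b hab
      have h1 : a - b ∈ endKer τ := by
        rw [mem_endKer, map_sub, hab, sub_self]
      rw [hk, AddSubgroup.mem_bot] at h1
      exact sub_eq_zero.mp h1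
    have hbij : Function.Bijective τ := Finite.injective_iff_bijective.mp hinj
    obtain ⟨σ, hσ⟩ : ∃ σ : W ≃+ W, ∀ w, σ w = τ w :=
      ⟨AddEquiv.ofBijective τ hbij, fun w => rfl⟩
    have hunit : IsUnit (A * B + B * A) := by
      rw [← hτ]
      refine ⟨⟨τ, σ.symm.toAddMonoidHom, ?_, ?_⟩, rfl⟩
      · refine AddMonoidHom.ext (fun w => ?_)
        show τ (σ.symm w) = w
        rw [← hσ, AddEquiv.apply_symm_apply]
      · refine AddMonoidHom.ext (fun w => ?_)
        show σ.symm (τ w) = w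
        rw [← hσ, AddEquiv.symm_apply_apply]
    obtain ⟨α, hα⟩ : ∃ α : (AddMonoid.End W)ˣ, α = ρ.toHomUnits x := ⟨_, rfl⟩
    obtain ⟨β, hβ⟩ : ∃ β : (AddMonoid.End W)ˣ, β = ρ.toHomUnits y := ⟨_, rfl⟩
    have hαv : (α : AddMonoid.End W) = 1 + A := by
      rw [hα, MonoidHom.coe_toHomUnits, hA]; abel
    have hβv : (β : AddMonoid.End W) = 1 + B := by
      rw [hβ, MonoidHom.coe_toHomUnits, hB]; abel
    obtain ⟨x₀, hx₀, y₀, hy₀, B₀, C₀, hB₀, hC₀, hBC, hx₀v, hy₀v⟩ :=
      quad_pair_exists hodd hpR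
        (Nat.card ↥(Subgroup.closure ({α, β} : Set (AddMonoid.End W)ˣ))) α β A B hαv hβv
        hAA hBB hunit inferInstance le_rfl
    have hrange : Subgroup.closure ({α, β} : Set (AddMonoid.End W)ˣ) ≤
        (ρ.toHomUnits).range := by
      rw [Subgroup.closure_le]
      intro z hz
      rcases hz with rfl | hz
      · exact ⟨x, hα.symm⟩
      · rw [Set.mem_singleton_iff.mp hz]; exact ⟨y, hβ.symm⟩
    obtain ⟨h₁, hh₁⟩ := hrange hx₀
    obtain ⟨h₂, hh₂⟩ := hrange hy₀
    have e₁ : ∀ w, ρ h₁ w = w + C₀ w := by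
      intro w
      have h : ρ h₁ = 1 + C₀ := by rw [← hx₀v, ← hh₁, MonoidHom.coe_toHomUnits]
      rw [h]; rfl
    have e₂ : ∀ w, ρ h₂ w = w + B₀ w := by
      intro w
      have h : ρ h₂ = 1 + B₀ := by rw [← hy₀v, ← hh₂, MonoidHom.coe_toHomUnits]
      rw [h]; rfl
    by_cases hC : ∀ w, C₀ w = 0
    · left
      have hw0 : ∀ w : W, w = 0 := by
        intro w
        have h := DFunLike.congr_fun hBC w
        change B₀ (C₀ w) + C₀ (B₀ w) = w at h
        rw [hC w, hC (B₀ w), map_zero, add_zero] at h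
        exact h.symm
      exact ⟨fun w => (hw0 (ρ x w)).trans (hw0 w).symm,
        fun w => (hw0 (ρ y w)).trans (hw0 w).symm⟩
    · right
      have hC' : ∃ w, C₀ w ≠ 0 := by
        by_contra hcon
        exact hC (fun w => by
          by_contra h
          exact hcon ⟨w, h⟩)
      obtain ⟨w, hw⟩ := hC'
      obtain ⟨w₁, hw₁⟩ : ∃ w₁ : W, w₁ = C₀ w := ⟨_, rfl⟩
      obtain ⟨w₂, hw₂⟩ : ∃ w₂ : W, w₂ = B₀ w₁ := ⟨_, rfl⟩
      have hCw₁ : C₀ w₁ = 0 := by
        rw [hw₁]
        have h := DFunLike.congr_fun hC₀ w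
        exact h
      have hBw₂ : B₀ w₂ = 0 := by
        rw [hw₂]
        have h := DFunLike.congr_fun hB₀ w₁
        exact h
      have hCw₂ : C₀ w₂ = w₁ := by
        have h := DFunLike.congr_fun hBC w₁
        change B₀ (C₀ w₁) + C₀ (B₀ w₁) = w₁ at h
        rw [hCw₁, map_zero, zero_add, ← hw₂] at h
        exact h
      refine ⟨h₁, h₂, w₁, w₂, ?_, ?_, ?_, ?_, ?_⟩
      · rw [hw₁]; exact hw
      · rw [e₁, hCw₁, add_zero]
      · rw [e₁, hCw₂]
      · rw [e₂, ← hw₂]
      · rw [e₂, hBw₂, add_zero]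
  · -- `τ = 0`
    left
    have hτ0 : ∀ w, τ w = 0 := by
      intro w
      have h : w ∈ endKer τ := by rw [hk]; exact AddSubgroup.mem_top w
      exact h
    have hAB : ∀ w, A (B w) = -(B (A w)) := by
      intro w
      have h := hτw w
      rw [hτ0 w] at h
      exact eq_neg_of_add_eq_zero_left h.symm
    have hBA : ∀ w, B (A w) = -(A (B w)) := by
      intro w
      rw [hAB w, neg_neg]
    have hkA := hirr (endKer A)
      (by
        intro u hu
        rw [mem_endKer] at hu ⊢
        rw [hxw, map_add, hAAw, hu, add_zero])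
      (by
        intro u hu
        rw [mem_endKer] at hu ⊢
        rw [hyw, map_add, hAB, hu, map_zero, neg_zero, add_zero])
    have hkB := hirr (endKer B)
      (by
        intro u hu
        rw [mem_endKer] at hu ⊢
        rw [hxw, map_add, hBA, hu, map_zero, neg_zero, add_zero])
      (by
        intro u hu
        rw [mem_endKer] at hu ⊢
        rw [hyw, map_add, hBBw, hu, add_zero])
    have hA0 : ∀ w, A w = 0 := by
      intro w
      rcases hkA with h | h
      · have h1 : A w ∈ endKer A := hAAw w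
        rw [h, AddSubgroup.mem_bot] at h1
        exact h1
      · have h1 : w ∈ endKer A := by rw [h]; exact AddSubgroup.mem_top w
        exact h1
    have hB0 : ∀ w, B w = 0 := by
      intro w
      rcases hkB with h | h
      · have h1 : B w ∈ endKer B := hBBw w
        rw [h, AddSubgroup.mem_bot] at h1
        exact h1
      · have h1 : w ∈ endKer B := by rw [h]; exact AddSubgroup.mem_top w
        exact h1
    exact ⟨fun w => by rw [hxw, hA0, add_zero], fun w => by rw [hyw, hB0, add_zero]⟩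

/-- The group version of `quad_module_plane`, for an elementary abelian group. -/
theorem quad_group_plane {V : Type*} [Group V] [Finite V] {p : ℕ} [Fact p.Prime] (hp2 : p ≠ 2)
    (hcomm : ∀ a b : V, a * b = b * a) (hexp : ∀ v : V, v ^ p = 1) {H : Type*} [Group H]
    (φ : H →* MulAut V) (x y : H)
    (hqx : ∀ v : V, φ x (φ x v * v⁻¹) = φ x v * v⁻¹)
    (hqy : ∀ v : V, φ y (φ y v * v⁻¹) = φ y v * v⁻¹)
    (hirr : ∀ U : Subgroup V, (∀ u ∈ U, φ x u ∈ U) → (∀ u ∈ U, φ y u ∈ U) → U = ⊥ ∨ U = ⊤) :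
    ((∀ v, φ x v = v) ∧ (∀ v, φ y v = v)) ∨
    ∃ (h₁ h₂ : H) (v₁ v₂ : V), v₁ ≠ 1 ∧ φ h₁ v₁ = v₁ ∧ φ h₁ v₂ = v₂ * v₁ ∧
      φ h₂ v₁ = v₁ * v₂ ∧ φ h₂ v₂ = v₂ := by
  letI cg : CommGroup V := { (inferInstance : Group V) with mul_comm := hcomm }
  obtain ⟨ρ, hρ⟩ : ∃ ρ : H →* AddMonoid.End (Additive V),
      ∀ (h : H) (w : Additive V), ρ h w = Additive.ofMul (φ h (Additive.toMul w)) :=
    ⟨(autToEnd V).comp φ, fun h w => rfl⟩
  have hW : ∀ w : Additive V, p • w = 0 := by
    intro w
    apply Additive.toMul.injective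
    rw [toMul_nsmul, toMul_zero]
    exact hexp _
  have hqx' : ∀ w : Additive V, ρ x (ρ x w - w) = ρ x w - w := by
    intro w
    rw [hρ x (ρ x w - w), hρ x w]
    apply Additive.toMul.injective
    show φ x (φ x (Additive.toMul w) / Additive.toMul w) =
      φ x (Additive.toMul w) / Additive.toMul w
    rw [div_eq_mul_inv]
    exact hqx _
  have hqy' : ∀ w : Additive V, ρ y (ρ y w - w) = ρ y w - w := by
    intro w
    rw [hρ y (ρ y w - w), hρ y w]
    apply Additive.toMul.injective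
    show φ y (φ y (Additive.toMul w) / Additive.toMul w) =
      φ y (Additive.toMul w) / Additive.toMul w
    rw [div_eq_mul_inv]
    exact hqy _
  have hirr' : ∀ U : AddSubgroup (Additive V), (∀ u ∈ U, ρ x u ∈ U) → (∀ u ∈ U, ρ y u ∈ U) →
      U = ⊥ ∨ U = ⊤ := by
    intro U hUx hUy
    obtain ⟨S, hS⟩ : ∃ S : Subgroup V, ∀ v : V, v ∈ S ↔ Additive.ofMul v ∈ U :=
      ⟨{ carrier := {v | Additive.ofMul v ∈ U}
         mul_mem' := fun ha hb => U.add_mem ha hb
         one_mem' := U.zero_mem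
         inv_mem' := fun ha => U.neg_mem ha }, fun v => Iff.rfl⟩
    rcases hirr S
      (fun u hu => by
        rw [hS] at hu ⊢
        have h := hUx _ hu
        rw [hρ] at h
        exact h)
      (fun u hu => by
        rw [hS] at hu ⊢
        have h := hUy _ hu
        rw [hρ] at h
        exact h) with h | h
    · left
      rw [eq_bot_iff]
      intro w hw
      have h1 : Additive.toMul w ∈ S := (hS _).mpr hw
      rw [h, Subgroup.mem_bot] at h1
      rw [AddSubgroup.mem_bot]
      exact Additive.toMul.injective h1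
    · right
      rw [eq_top_iff]
      intro w _
      have h1 : Additive.toMul w ∈ S := by rw [h]; exact Subgroup.mem_top _
      exact (hS _).mp h1
  rcases quad_module_plane hp2 hW ρ x y hqx' hqy' hirr' with
    ⟨hx1, hy1⟩ | ⟨h₁, h₂, w₁, w₂, hw₁, r1, r2, r3, r4⟩
  · left
    refine ⟨fun v => ?_, fun v => ?_⟩
    · have h := hx1 (Additive.ofMul v)
      rw [hρ] at h
      exact congrArg Additive.toMul h
    · have h := hy1 (Additive.ofMul v)
      rw [hρ] at h
      exact congrArg Additive.toMul h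
  · right
    refine ⟨h₁, h₂, Additive.toMul w₁, Additive.toMul w₂, ?_, ?_, ?_, ?_, ?_⟩
    · intro h
      exact hw₁ (Additive.toMul.injective h)
    · have h := r1
      rw [hρ] at h
      exact congrArg Additive.toMul h
    · have h := r2
      rw [hρ] at h
      exact congrArg Additive.toMul h
    · have h := r3
      rw [hρ] at h
      exact congrArg Additive.toMul h
    · have h := r4
      rw [hρ] at h
      exact congrArg Additive.toMul h

/-- If `c` centralizes `S` elementwise, so do its powers. -/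
theorem conj_pow_fix {N : Type*} [Group N] (S : Subgroup N) (c : N)
    (h : ∀ u ∈ S, c * u * c⁻¹ = u) (m : ℕ) : ∀ u ∈ S, c ^ m * u * (c ^ m)⁻¹ = u := by
  induction m with
  | zero => intro u _; simp
  | succ m ih =>
    intro u hu
    calc c ^ (m + 1) * u * (c ^ (m + 1))⁻¹ = c ^ m * (c * u * c⁻¹) * (c ^ m)⁻¹ := by
          rw [pow_succ, mul_inv_rev]; simp only [mul_assoc]
      _ = c ^ m * u * (c ^ m)⁻¹ := by rw [h u hu]
      _ = u := ih u hu

end QdQuad

end Cfsg.Agent.Helper1
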