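import Mathlib
import Cfsg.Agent.Helper1.QdQuad

set_option autoImplicit false

universe u

namespace Cfsg.Agent.Helper1

section QdPair

/-- In a finite group, a subgroup stable under conjugation by `g` is stable under conjugation by
`g⁻¹`. -/
theorem conj_inv_mem_of_conj_mem {N : Type*} [Group N] [Finite N] (U : Subgroup N) (g : N)
    (h : ∀ u ∈ U, g * u * g⁻¹ ∈ U) : ∀ u ∈ U, g⁻¹ * u * g ∈ U := by
  intro u hu
  obtain ⟨f, hf⟩ : ∃ f : U → U, ∀ w : U, ((f w : U) : N) = g * w * g⁻¹ :=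
    ⟨fun w => ⟨g * w * g⁻¹, h w w.2⟩, fun w => rfl⟩
  have hinj : Function.Injective f := by
    intro a b hab
    have h1 := congrArg (fun w : U => (w : N)) hab
    simp only [hf] at h1
    apply Subtype.ext
    exact mul_left_cancel (mul_right_cancel h1)
  obtain ⟨w, hw⟩ := (Finite.injective_iff_surjective.mp hinj) ⟨u, hu⟩
  have h2 : g * (w : N) * g⁻¹ = u := by
    rw [← hf w, hw]
  have h3 : g⁻¹ * u * g = w := by
    rw [← h2]; group
  rw [h3]
  exact w.2

/-- In a finite group, an element conjugating a subgroup into itself normalizes it. -/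
theorem mem_normalizer_of_conj_mem {N : Type*} [Group N] [Finite N] (U : Subgroup N) (g : N)
    (h : ∀ u ∈ U, g * u * g⁻¹ ∈ U) : g ∈ Subgroup.normalizer (U : Set N) := by
  rw [Subgroup.mem_normalizer_iff]
  intro u
  refine ⟨h u, fun hu => ?_⟩
  have h1 := conj_inv_mem_of_conj_mem U g h _ hu
  have h2 : g⁻¹ * (g * u * g⁻¹) * g = u := by group
  rwa [h2] at h1

/-- **Key lemma for `p`-stability of `Qd(p)`-free groups.** If `N` does not involve `Qd(p)`
(`p` odd), `P` is a `p`-subgroup and `b₁, b₂ ∈ N(P)` act quadratically on `P`, then every element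
of `⟨b₁, b₂⟩` has a `p`-power centralizing `P`. -/
theorem quad_pair_pgroup (p : ℕ) [Fact p.Prime] (hp2 : p ≠ 2) :
    ∀ (n : ℕ) (N : Type u) [Group N] [Finite N], ¬ Cfsg.Involves ↥(Cfsg.qd p) N →
    ∀ (P : Subgroup N), IsPGroup p P → Nat.card N + Nat.card P = n →
    ∀ b₁ b₂ : N, b₁ ∈ Subgroup.normalizer (P : Set N) → b₂ ∈ Subgroup.normalizer (P : Set N) →
    (∀ u ∈ P, b₁ * (b₁ * u * b₁⁻¹ * u⁻¹) * b₁⁻¹ = b₁ * u * b₁⁻¹ * u⁻¹) →
    (∀ u ∈ P, b₂ * (b₂ * u * b₂⁻¹ * u⁻¹) * b₂⁻¹ = b₂ * u * b₂⁻¹ * u⁻¹) →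
    ∀ h ∈ Subgroup.closure ({b₁, b₂} : Set N), ∃ k : ℕ,
      ∀ u ∈ P, h ^ p ^ k * u * (h ^ p ^ k)⁻¹ = u := by
  intro n
  induction n using Nat.strong_induction_on with
  | _ n ih =>
  intro N _ _ hfree P hP hn b₁ b₂ hb₁ hb₂ hq₁ hq₂ h hh
  classical
  have hpp : p.Prime := Fact.out
  by_cases hred : ∃ P₁ : Subgroup N, P₁ ≤ P ∧ P₁ ≠ ⊥ ∧ P₁ ≠ P ∧
      P ≤ Subgroup.normalizer (P₁ : Set N) ∧ b₁ ∈ Subgroup.normalizer (P₁ : Set N) ∧
      b₂ ∈ Subgroup.normalizer (P₁ : Set N)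
  · -- reducible case
    obtain ⟨P₁, hP₁P, hP₁bot, hP₁ne, hPM, hb₁M, hb₂M⟩ := hred
    have hP₁p : IsPGroup p P₁ := hP.to_le hP₁P
    have hcard1 : Nat.card P₁ < Nat.card P := by
      have hle : Nat.card P₁ ≤ Nat.card P :=
        Nat.le_of_dvd Nat.card_pos (Subgroup.card_dvd_of_le hP₁P)
      rcases Nat.lt_or_ge (Nat.card P₁) (Nat.card P) with h1 | h1
      · exact h1
      · exact absurd (Subgroup.eq_of_le_of_card_ge hP₁P h1) hP₁ne
    obtain ⟨k₁, hk₁⟩ := ih (Nat.card N + Nat.card P₁) (by omega) N hfree P₁ hP₁p rfl b₁ b₂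
      hb₁M hb₂M (fun u hu => hq₁ u (hP₁P hu)) (fun u hu => hq₂ u (hP₁P hu)) h hh
    obtain ⟨M, hM⟩ : ∃ M : Subgroup N, M = Subgroup.normalizer (P₁ : Set N) := ⟨_, rfl⟩
    rw [← hM] at hPM hb₁M hb₂M
    have hP₁M : P₁ ≤ M := by rw [hM]; exact Subgroup.le_normalizer
    haveI hnorm : (P₁.subgroupOf M).Normal := by rw [hM]; infer_instance
    obtain ⟨π, hπ⟩ : ∃ π : ↥M →* ↥M ⧸ P₁.subgroupOf M,
        π = QuotientGroup.mk' (P₁.subgroupOf M) := ⟨_, rfl⟩
    have hπs : Function.Surjective π := by rw [hπ]; exact QuotientGroup.mk'_surjective _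
    have hπker : ∀ z : ↥M, π z = 1 ↔ (z : N) ∈ P₁ := by
      intro z
      rw [hπ, QuotientGroup.mk'_apply, QuotientGroup.eq_one_iff, Subgroup.mem_subgroupOf]
    obtain ⟨P', hP'⟩ : ∃ P' : Subgroup (↥M ⧸ P₁.subgroupOf M), P' = (P.subgroupOf M).map π :=
      ⟨_, rfl⟩
    have hP'p : IsPGroup p P' := by rw [hP']; exact (IsPGroup.comap_subtype hP).map π
    have hfree' : ¬ Cfsg.Involves ↥(Cfsg.qd p) (↥M ⧸ P₁.subgroupOf M) := by
      intro hinv
      exact hfree (Cfsg.Agent.Helper27.involves_of_injective M.subtype M.subtype_injective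
        (involves_of_surjective_hom π hπs hinv))
    have hcard2 : Nat.card (↥M ⧸ P₁.subgroupOf M) + Nat.card P' < n := by
      have h1 : Nat.card ↥M = Nat.card (↥M ⧸ P₁.subgroupOf M) * Nat.card ↥(P₁.subgroupOf M) :=
        Subgroup.card_eq_card_quotient_mul_card_subgroup _
      have h2 : Nat.card ↥(P₁.subgroupOf M) = Nat.card ↥P₁ :=
        Nat.card_congr (Subgroup.subgroupOfEquivOfLe hP₁M).toEquiv
      have h3 : 2 ≤ Nat.card ↥P₁ := by
        by_contra hlt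
        exact hP₁bot (Subgroup.eq_bot_of_card_le P₁ (by omega))
      have h4 : Nat.card ↥M ≤ Nat.card N := Subgroup.card_le_card_group M
      have h5 : Nat.card (↥M ⧸ P₁.subgroupOf M) * 2 ≤ Nat.card ↥M := by
        rw [h1, h2]; exact Nat.mul_le_mul_left _ h3
      have h6 : Nat.card ↥P' ≤ Nat.card ↥P := by
        have e1 : Nat.card ↥(P.subgroupOf M) = Nat.card ↥P :=
          Nat.card_congr (Subgroup.subgroupOfEquivOfLe hPM).toEquiv
        have e2 : Nat.card ↥((P.subgroupOf M).map π) ≤ Nat.card ↥(P.subgroupOf M) :=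
          Nat.card_le_card_of_surjective _ (π.subgroupMap_surjective (P.subgroupOf M))
        rw [hP']
        exact e2.trans e1.le
      have h7 : 0 < Nat.card (↥M ⧸ P₁.subgroupOf M) := Nat.card_pos
      omega
    have hnormM : ∀ b : N, ∀ hbM : b ∈ M, b ∈ Subgroup.normalizer (P : Set N) →
        π ⟨b, hbM⟩ ∈ Subgroup.normalizer (P' : Set (↥M ⧸ P₁.subgroupOf M)) := by
      intro b hbM hb
      rw [hP']
      apply Subgroup.le_normalizer_map π
      refine Subgroup.mem_map_of_mem π ?_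
      rw [Subgroup.mem_normalizer_iff]
      intro z
      show (z : N) ∈ P ↔ b * (z : N) * b⁻¹ ∈ P
      exact (Subgroup.mem_normalizer_iff.mp hb) (z : N)
    have hquadM : ∀ b : N, ∀ hbM : b ∈ M,
        (∀ u ∈ P, b * (b * u * b⁻¹ * u⁻¹) * b⁻¹ = b * u * b⁻¹ * u⁻¹) →
        ∀ u' ∈ P', π ⟨b, hbM⟩ * (π ⟨b, hbM⟩ * u' * (π ⟨b, hbM⟩)⁻¹ * u'⁻¹) * (π ⟨b, hbM⟩)⁻¹ =
          π ⟨b, hbM⟩ * u' * (π ⟨b, hbM⟩)⁻¹ * u'⁻¹ := by
      intro b hbM hq u' hu'
      rw [hP'] at hu'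
      obtain ⟨z, hz, rfl⟩ := hu'
      have h1 : (⟨b, hbM⟩ : ↥M) * (⟨b, hbM⟩ * z * (⟨b, hbM⟩ : ↥M)⁻¹ * z⁻¹) *
          (⟨b, hbM⟩ : ↥M)⁻¹ = ⟨b, hbM⟩ * z * (⟨b, hbM⟩ : ↥M)⁻¹ * z⁻¹ :=
        Subtype.ext (hq (z : N) hz)
      have h2 := congrArg π h1
      simpa only [map_mul, map_inv] using h2
    have key2 := ih (Nat.card (↥M ⧸ P₁.subgroupOf M) + Nat.card P') hcard2
      (↥M ⧸ P₁.subgroupOf M) hfree' P' hP'p rfl
      (π ⟨b₁, hb₁M⟩) (π ⟨b₂, hb₂M⟩) (hnormM b₁ hb₁M hb₁) (hnormM b₂ hb₂M hb₂)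
      (hquadM b₁ hb₁M hq₁) (hquadM b₂ hb₂M hq₂)
    have htrans : ∀ g ∈ Subgroup.closure ({b₁, b₂} : Set N), ∃ hgM : g ∈ M,
        π ⟨g, hgM⟩ ∈ Subgroup.closure
          ({π ⟨b₁, hb₁M⟩, π ⟨b₂, hb₂M⟩} : Set (↥M ⧸ P₁.subgroupOf M)) := by
      intro g hg
      refine Subgroup.closure_induction (p := fun g _ => ∃ hgM : g ∈ M,
        π ⟨g, hgM⟩ ∈ Subgroup.closure
          ({π ⟨b₁, hb₁M⟩, π ⟨b₂, hb₂M⟩} : Set (↥M ⧸ P₁.subgroupOf M))) ?_ ?_ ?_ ?_ hg
      · intro g hg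
        rcases hg with hg | hg
        · have hg' : g = b₁ := hg
          subst hg'
          exact ⟨hb₁M, Subgroup.subset_closure (Set.mem_insert _ _)⟩
        · have hg' : g = b₂ := Set.mem_singleton_iff.mp hg
          subst hg'
          exact ⟨hb₂M, Subgroup.subset_closure (Set.mem_insert_of_mem _ rfl)⟩
      · refine ⟨M.one_mem, ?_⟩
        have h1 : (⟨1, M.one_mem⟩ : ↥M) = 1 := rfl
        rw [h1, map_one]
        exact Subgroup.one_mem _
      · intro a b _ _ ha hb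
        obtain ⟨haM, ha'⟩ := ha
        obtain ⟨hbM, hb'⟩ := hb
        refine ⟨M.mul_mem haM hbM, ?_⟩
        have h1 : (⟨a * b, M.mul_mem haM hbM⟩ : ↥M) = ⟨a, haM⟩ * ⟨b, hbM⟩ := rfl
        rw [h1, map_mul]
        exact Subgroup.mul_mem _ ha' hb'
      · intro a _ ha
        obtain ⟨haM, ha'⟩ := ha
        refine ⟨M.inv_mem haM, ?_⟩
        have h1 : (⟨a⁻¹, M.inv_mem haM⟩ : ↥M) = ⟨a, haM⟩⁻¹ := rfl
        rw [h1, map_inv]
        exact Subgroup.inv_mem _ ha'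
    obtain ⟨hhM, hh'⟩ := htrans h hh
    obtain ⟨k₂, hk₂⟩ := key2 (π ⟨h, hhM⟩) hh'
    obtain ⟨g, hg⟩ : ∃ g : N, g = h ^ p ^ (k₁ + k₂) := ⟨_, rfl⟩
    have hg1 : ∀ u ∈ P₁, g * u * g⁻¹ = u := by
      have e : g = (h ^ p ^ k₁) ^ p ^ k₂ := by rw [hg, ← pow_mul, ← pow_add]
      rw [e]
      exact conj_pow_fix P₁ _ hk₁ _
    have hgM : g ∈ M := by rw [hg]; exact M.pow_mem hhM _
    have hπg : ∀ u' ∈ P', π ⟨g, hgM⟩ * u' * (π ⟨g, hgM⟩)⁻¹ = u' := by
      have e : π ⟨g, hgM⟩ = ((π ⟨h, hhM⟩) ^ p ^ k₂) ^ p ^ k₁ := by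
        have e1 : (⟨g, hgM⟩ : ↥M) = (⟨h, hhM⟩ : ↥M) ^ p ^ (k₁ + k₂) :=
          Subtype.ext (by rw [Subgroup.coe_pow]; exact hg)
        rw [e1, map_pow, ← pow_mul, ← pow_add, add_comm k₂ k₁]
      rw [e]
      exact conj_pow_fix P' _ hk₂ _
    have hg2 : ∀ u ∈ P, u⁻¹ * (g * u * g⁻¹) ∈ P₁ := by
      intro u hu
      have huM : u ∈ M := hPM hu
      have hu' : π ⟨u, huM⟩ ∈ P' := by
        rw [hP']
        exact Subgroup.mem_map_of_mem π (show (⟨u, huM⟩ : ↥M) ∈ P.subgroupOf M from hu)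
      have h1 := hπg _ hu'
      have h2 : π ((⟨u, huM⟩ : ↥M)⁻¹ * (⟨g, hgM⟩ * ⟨u, huM⟩ * (⟨g, hgM⟩ : ↥M)⁻¹)) = 1 := by
        rw [map_mul, map_inv, map_mul, map_mul, map_inv, h1, inv_mul_cancel]
      exact (hπker _).mp h2
    have hpow : ∀ u ∈ P, ∀ m : ℕ,
        g ^ m * u * (g ^ m)⁻¹ = u * (u⁻¹ * (g * u * g⁻¹)) ^ m := by
      intro u hu m
      obtain ⟨c, hc⟩ : ∃ c : N, c = u⁻¹ * (g * u * g⁻¹) := ⟨_, rfl⟩
      have hcP₁ : c ∈ P₁ := by rw [hc]; exact hg2 u hu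
      have hgu : g * u * g⁻¹ = u * c := by rw [hc]; group
      rw [← hc]
      induction m with
      | zero => simp
      | succ m ihm =>
        have h1 : g ^ m * c * (g ^ m)⁻¹ = c := conj_pow_fix P₁ g hg1 m c hcP₁
        calc g ^ (m + 1) * u * (g ^ (m + 1))⁻¹
            = g ^ m * (g * u * g⁻¹) * (g ^ m)⁻¹ := by
              rw [pow_succ, mul_inv_rev]; simp only [mul_assoc]
          _ = (g ^ m * u * (g ^ m)⁻¹) * (g ^ m * c * (g ^ m)⁻¹) := by
              rw [hgu]; simp only [mul_assoc, inv_mul_cancel_left]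
          _ = u * c ^ (m + 1) := by rw [ihm, h1, pow_succ, mul_assoc]
    obtain ⟨j, hj⟩ := IsPGroup.iff_card.mp hP₁p
    refine ⟨k₁ + k₂ + j, ?_⟩
    intro u hu
    have e : h ^ p ^ (k₁ + k₂ + j) = g ^ p ^ j := by rw [hg, ← pow_mul, ← pow_add]
    rw [e, hpow u hu (p ^ j)]
    have hc1 : (u⁻¹ * (g * u * g⁻¹)) ^ p ^ j = 1 := by
      have h1 : (⟨u⁻¹ * (g * u * g⁻¹), hg2 u hu⟩ : ↥P₁) ^ Nat.card ↥P₁ = 1 := pow_card_eq_one'
      rw [hj] at h1
      have h2 := congrArg Subtype.val h1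
      rw [Subgroup.coe_pow] at h2
      exact h2
    rw [hc1, mul_one]
  · -- irreducible case
    by_cases hPbot : P = ⊥
    · refine ⟨0, fun u hu => ?_⟩
      rw [hPbot, Subgroup.mem_bot] at hu
      rw [hu]; simp
    obtain ⟨S, hS⟩ : ∃ S : Subgroup N, ∀ z : N,
        z ∈ S ↔ (z ∈ P ∧ (∀ u ∈ P, z * u = u * z) ∧ z ^ p = 1) := by
      refine ⟨{ carrier := {z | z ∈ P ∧ (∀ u ∈ P, z * u = u * z) ∧ z ^ p = 1}
                mul_mem' := ?_
                one_mem' := ?_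
                inv_mem' := ?_ }, fun z => Iff.rfl⟩
      · rintro a b ⟨haP, hac, hap⟩ ⟨hbP, hbc, hbp⟩
        show a * b ∈ P ∧ (∀ u ∈ P, a * b * u = u * (a * b)) ∧ (a * b) ^ p = 1
        refine ⟨P.mul_mem haP hbP, fun u hu => ?_, ?_⟩
        · rw [mul_assoc, hbc u hu, ← mul_assoc, hac u hu, mul_assoc]
        · have hcomm : Commute a b := hac b hbP
          rw [hcomm.mul_pow, hap, hbp, mul_one]
      · show (1 : N) ∈ P ∧ (∀ u ∈ P, 1 * u = u * 1) ∧ (1 : N) ^ p = 1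
        exact ⟨P.one_mem, fun u _ => by rw [one_mul, mul_one], one_pow p⟩
      · rintro a ⟨haP, hac, hap⟩
        show a⁻¹ ∈ P ∧ (∀ u ∈ P, a⁻¹ * u = u * a⁻¹) ∧ a⁻¹ ^ p = 1
        refine ⟨P.inv_mem haP, fun u hu => ?_, ?_⟩
        · have h1 := hac u hu
          rw [eq_mul_inv_iff_mul_eq, mul_assoc, ← h1, inv_mul_cancel_left]
        · rw [inv_pow, hap, inv_one]
    have hSP : S ≤ P := fun z hz => ((hS z).mp hz).1
    have hSbot : S ≠ ⊥ := by
      haveI : Nontrivial ↥P := (Subgroup.nontrivial_iff_ne_bot P).mpr hPbot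
      haveI : Nontrivial ↥(Subgroup.center ↥P) := hP.center_nontrivial
      have hZp : IsPGroup p ↥(Subgroup.center ↥P) := hP.to_subgroup _
      have hdvd : p ∣ Nat.card ↥(Subgroup.center ↥P) := by
        rcases hZp.card_eq_or_dvd with h1 | h1
        · have h2 : 1 < Nat.card ↥(Subgroup.center ↥P) := Finite.one_lt_card
          omega
        · exact h1
      obtain ⟨z, hz⟩ := exists_prime_orderOf_dvd_card' p hdvd
      have hzS : ((z : ↥P) : N) ∈ S := by
        rw [hS]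
        refine ⟨(z : ↥P).2, fun u hu => ?_, ?_⟩
        · have h1 := Subgroup.mem_center_iff.mp z.2 ⟨u, hu⟩
          exact (congrArg Subtype.val h1).symm
        · have h1 : z ^ p = 1 := by rw [← hz]; exact pow_orderOf_eq_one z
          have h2 : ((z : ↥P) : N) ^ p = ((((z ^ p : ↥(Subgroup.center ↥P)) : ↥P)) : N) := rfl
          rw [h2, h1]
          rfl
      intro hbot
      rw [hbot, Subgroup.mem_bot] at hzS
      have hz1 : z = 1 := Subtype.ext (Subtype.ext hzS)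
      rw [hz1, orderOf_one] at hz
      exact hpp.one_lt.ne hz
    have hSinv : ∀ g ∈ Subgroup.normalizer (P : Set N), ∀ z ∈ S, g * z * g⁻¹ ∈ S := by
      intro g hg z hz
      rw [hS] at hz ⊢
      obtain ⟨hzP, hzc, hzp⟩ := hz
      refine ⟨(Subgroup.mem_normalizer_iff.mp hg z).mp hzP, fun u hu => ?_, ?_⟩
      · have hu' : g⁻¹ * u * g ∈ P := by
          have h1 := (Subgroup.mem_normalizer_iff.mp (Subgroup.inv_mem _ hg) u).mp hu
          rwa [inv_inv] at h1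
        have h2 := hzc _ hu'
        calc g * z * g⁻¹ * u = g * (z * (g⁻¹ * u * g)) * g⁻¹ := by group
          _ = g * ((g⁻¹ * u * g) * z) * g⁻¹ := by rw [h2]
          _ = u * (g * z * g⁻¹) := by group
      · rw [conj_pow, hzp, mul_one, mul_inv_cancel]
    have hSeq : S = P := by
      by_contra hne
      apply hred
      refine ⟨S, hSP, hSbot, hne, ?_, ?_, ?_⟩
      · intro g hg
        exact mem_normalizer_of_conj_mem S g (hSinv g (Subgroup.le_normalizer hg))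
      · exact mem_normalizer_of_conj_mem S b₁ (hSinv b₁ hb₁)
      · exact mem_normalizer_of_conj_mem S b₂ (hSinv b₂ hb₂)
    have hab : ∀ a ∈ P, ∀ b ∈ P, a * b = b * a := by
      intro a ha b hb
      rw [← hSeq] at ha
      exact ((hS a).mp ha).2.1 b hb
    have hexpP : ∀ a ∈ P, a ^ p = 1 := by
      intro a ha
      rw [← hSeq] at ha
      exact ((hS a).mp ha).2.2
    obtain ⟨φ, hφ⟩ : ∃ φ : ↥(Subgroup.normalizer (P : Set N)) →* MulAut ↥P,
        ∀ (g : ↥(Subgroup.normalizer (P : Set N))) (v : ↥P),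
          ((φ g v : ↥P) : N) = (g : N) * (v : N) * (g : N)⁻¹ :=
      ⟨Subgroup.normalizerMonoidHom P, fun g v => rfl⟩
    have hqx : ∀ (b : N) (hb : b ∈ Subgroup.normalizer (P : Set N)),
        (∀ u ∈ P, b * (b * u * b⁻¹ * u⁻¹) * b⁻¹ = b * u * b⁻¹ * u⁻¹) →
        ∀ v : ↥P, φ ⟨b, hb⟩ (φ ⟨b, hb⟩ v * v⁻¹) = φ ⟨b, hb⟩ v * v⁻¹ := by
      intro b hb hq v
      apply Subtype.ext
      rw [hφ, Subgroup.coe_mul, hφ, Subgroup.coe_inv]
      exact hq v v.2
    have hirr : ∀ U : Subgroup ↥P, (∀ u ∈ U, φ ⟨b₁, hb₁⟩ u ∈ U) →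
        (∀ u ∈ U, φ ⟨b₂, hb₂⟩ u ∈ U) → U = ⊥ ∨ U = ⊤ := by
      intro U hU₁ hU₂
      obtain ⟨U', hU'⟩ : ∃ U' : Subgroup N, U' = U.map P.subtype := ⟨_, rfl⟩
      have hU'P : U' ≤ P := by
        rw [hU']
        rintro _ ⟨w, _, rfl⟩
        exact w.2
      have hmem : ∀ w : ↥P, (w : N) ∈ U' ↔ w ∈ U := by
        intro w
        rw [hU']
        constructor
        · intro hw
          obtain ⟨w', hw', hww'⟩ := Subgroup.mem_map.mp hw
          have h1 : w' = w := Subtype.ext hww'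
          rw [← h1]; exact hw'
        · intro hw
          exact Subgroup.mem_map_of_mem P.subtype hw
      have hconj : ∀ (b : N) (hb : b ∈ Subgroup.normalizer (P : Set N)),
          (∀ u ∈ U, φ ⟨b, hb⟩ u ∈ U) → b ∈ Subgroup.normalizer (U' : Set N) := by
        intro b hb hU
        apply mem_normalizer_of_conj_mem
        intro u hu
        have huP : u ∈ P := hU'P hu
        have h1 : (⟨u, huP⟩ : ↥P) ∈ U := (hmem ⟨u, huP⟩).mp hu
        have h2 := hU _ h1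
        have h3 := (hmem _).mpr h2
        rw [hφ] at h3
        exact h3
      by_cases hU'bot : U' = ⊥
      · left
        rw [eq_bot_iff]
        intro w hw
        have h1 : (w : N) ∈ U' := (hmem w).mpr hw
        rw [hU'bot, Subgroup.mem_bot] at h1
        rw [Subgroup.mem_bot]
        exact Subtype.ext h1
      · right
        by_contra hUtop
        apply hred
        refine ⟨U', hU'P, hU'bot, ?_, ?_, hconj b₁ hb₁ hU₁, hconj b₂ hb₂ hU₂⟩
        · intro hUP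
          apply hUtop
          rw [eq_top_iff]
          intro w _
          apply (hmem w).mp
          rw [hUP]
          exact w.2
        · intro g hg
          apply mem_normalizer_of_conj_mem
          intro u hu
          have huP : u ∈ P := hU'P hu
          have h1 : g * u * g⁻¹ = u := by
            rw [hab g hg u huP, mul_assoc, mul_inv_cancel, mul_one]
          rw [h1]; exact hu
    have hcommV : ∀ a b : ↥P, a * b = b * a := fun a b => Subtype.ext (hab a a.2 b b.2)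
    have hexpV : ∀ v : ↥P, v ^ p = 1 := fun v =>
      Subtype.ext (by rw [Subgroup.coe_pow]; exact hexpP v v.2)
    rcases quad_group_plane hp2 hcommV hexpV φ ⟨b₁, hb₁⟩ ⟨b₂, hb₂⟩ (hqx b₁ hb₁ hq₁)
      (hqx b₂ hb₂ hq₂) hirr with ⟨hx1, hy1⟩ | ⟨h₁, h₂, v₁, v₂, hv₁, r1, r2, r3, r4⟩
    · -- trivial action
      refine ⟨0, ?_⟩
      rw [pow_zero, pow_one]
      have hcent : ∀ g ∈ Subgroup.closure ({b₁, b₂} : Set N), ∀ u ∈ P, g * u * g⁻¹ = u := by
        intro g hg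
        refine Subgroup.closure_induction (p := fun g _ => ∀ u ∈ P, g * u * g⁻¹ = u)
          ?_ ?_ ?_ ?_ hg
        · intro g hg u hu
          rcases hg with hg | hg
          · have hg' : g = b₁ := hg
            rw [hg']
            have h1 := congrArg Subtype.val (hx1 ⟨u, hu⟩)
            rw [hφ] at h1
            exact h1
          · have hg' : g = b₂ := Set.mem_singleton_iff.mp hg
            rw [hg']
            have h1 := congrArg Subtype.val (hy1 ⟨u, hu⟩)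
            rw [hφ] at h1
            exact h1
        · intro u _; simp
        · intro a b _ _ ha hb u hu
          have h1 : a * b * u * (a * b)⁻¹ = a * (b * u * b⁻¹) * a⁻¹ := by group
          rw [h1, hb u hu, ha u hu]
        · intro a _ ha u hu
          have h1 := ha u hu
          rw [inv_inv]
          calc a⁻¹ * u * a = a⁻¹ * (a * u * a⁻¹) * a := by rw [h1]
            _ = u := by group
      exact hcent h hh
    · exfalso
      apply hfree
      refine qd_involved_of_config p hp2 (v₁ : N) (v₂ : N) (h₁ : N) (h₂ : N)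
        ?_ ?_ ?_ ?_ ?_ ?_ ?_ ?_
      · intro h1
        exact hv₁ (Subtype.ext h1)
      · exact hexpP _ v₁.2
      · exact hexpP _ v₂.2
      · exact hab _ v₁.2 _ v₂.2
      · have h1 := congrArg Subtype.val r1
        rw [hφ] at h1
        exact h1
      · have h1 := congrArg Subtype.val r2
        rw [hφ, Subgroup.coe_mul] at h1
        rw [h1]
        exact (hab _ v₁.2 _ v₂.2).symm
      · have h1 := congrArg Subtype.val r3
        rw [hφ, Subgroup.coe_mul] at h1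
        exact h1
      · have h1 := congrArg Subtype.val r4
        rw [hφ] at h1
        exact h1

end QdPair

end Cfsg.Agent.Helper1
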