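import Mathlib
import Cfsg.Agent.Helper1.QdPair
import Cfsg.Agent.Helper10.PStabOdd
import Cfsg.Agent.Helper21.BaerSuzuki
import Cfsg.Agent.Helper27.PStable

set_option autoImplicit false

universe u

namespace Cfsg.Agent.Helper1

open scoped commutatorElement

section QdStab

/-- `p`-stability for `Qd(p)`-free groups (`p` odd), for a normal `p`-subgroup. -/
theorem pstab_qd_normal {N : Type u} [Group N] [Finite N] (p : ℕ) [Fact p.Prime] (hp : p ≠ 2)
    (hfree : ¬ Cfsg.Involves ↥(Cfsg.qd p) N)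
    (P : Subgroup N) [hPn : P.Normal] (hP : IsPGroup p P)
    (C : Subgroup N) [C.Normal] (hC : ∀ g : N, (∀ u ∈ P, g * u * g⁻¹ = u) → g ∈ C)
    (a : N) (hq : ∀ u ∈ P, a * (a * u * a⁻¹ * u⁻¹) * a⁻¹ = a * u * a⁻¹ * u⁻¹) :
    (QuotientGroup.mk a : N ⧸ C) ∈ Cfsg.pCore p (N ⧸ C) := by
  classical
  obtain ⟨X, hX⟩ : ∃ X : Set (N ⧸ C), X = {q | ∃ g : N, q = QuotientGroup.mk (g * a * g⁻¹)} :=
    ⟨_, rfl⟩
  have hXn : ∀ (q x : N ⧸ C), x ∈ X → q * x * q⁻¹ ∈ X := by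
    intro q x hx
    rw [hX] at hx ⊢
    obtain ⟨g, rfl⟩ := hx
    induction q using QuotientGroup.induction_on with | _ g' =>
    refine ⟨g' * g, ?_⟩
    rw [← QuotientGroup.mk_inv, ← QuotientGroup.mk_mul, ← QuotientGroup.mk_mul]
    congr 1
    group
  have hXp : ∀ x ∈ X, ∀ y ∈ X, IsPGroup p (Subgroup.closure ({x, y} : Set (N ⧸ C))) := by
    intro x hx y hy
    rw [hX] at hx hy
    obtain ⟨g₁, rfl⟩ := hx
    obtain ⟨g₂, rfl⟩ := hy
    obtain ⟨b₁, hb₁⟩ : ∃ b₁ : N, b₁ = g₁ * a * g₁⁻¹ := ⟨_, rfl⟩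
    obtain ⟨b₂, hb₂⟩ : ∃ b₂ : N, b₂ = g₂ * a * g₂⁻¹ := ⟨_, rfl⟩
    rw [← hb₁, ← hb₂]
    have hconjmem : ∀ g : N, ∀ u ∈ P, g⁻¹ * u * g ∈ P := by
      intro g u hu
      have h1 := hPn.conj_mem u hu g⁻¹
      rwa [inv_inv] at h1
    have hnorm : ∀ b : N, b ∈ Subgroup.normalizer (P : Set N) := by
      intro b
      rw [Subgroup.normalizer_eq_top_iff.mpr hPn]
      exact Subgroup.mem_top b
    have key := quad_pair_pgroup p hp (Nat.card N + Nat.card P) N hfree P hP rfl b₁ b₂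
      (hnorm b₁) (hnorm b₂)
      (by rw [hb₁]; exact Cfsg.Agent.Helper10.quad_conj P a g₁ hq (hconjmem g₁))
      (by rw [hb₂]; exact Cfsg.Agent.Helper10.quad_conj P a g₂ hq (hconjmem g₂))
    have hmap : Subgroup.closure ({(QuotientGroup.mk b₁ : N ⧸ C), QuotientGroup.mk b₂} :
        Set (N ⧸ C)) = (Subgroup.closure ({b₁, b₂} : Set N)).map (QuotientGroup.mk' C) := by
      rw [MonoidHom.map_closure, Set.image_pair]
      rfl
    rw [hmap]
    rintro ⟨_, h, hh, rfl⟩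
    obtain ⟨k, hk⟩ := key h hh
    refine ⟨k, Subtype.ext ?_⟩
    show (QuotientGroup.mk' C h) ^ p ^ k = 1
    rw [← map_pow, QuotientGroup.mk'_apply, QuotientGroup.eq_one_iff]
    exact hC _ hk
  obtain ⟨M, hMn, hMp, hXM⟩ := Cfsg.Agent.Helper21.baer_suzuki_normal X hXn hXp
  apply Cfsg.Agent.Helper27.le_pCore hMn hMp
  apply hXM
  rw [hX]
  exact ⟨1, by simp⟩

/-- `Qd(p)`-free groups (`p` odd) are `p`-stable on every normal `p`-subgroup (commutator form,
centralizer quotient). -/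
theorem pstab_qd_on {G : Type u} [Group G] [Finite G] {p : ℕ} [Fact p.Prime] (hp : p ≠ 2)
    (hfree : ¬ Cfsg.Involves ↥(Cfsg.qd p) G) (V : Subgroup G) [V.Normal] (hV : IsPGroup p V)
    (a : G) (hquad : ⁅⁅V, Subgroup.zpowers a⁆, Subgroup.zpowers a⁆ = ⊥) :
    (QuotientGroup.mk a : G ⧸ Subgroup.centralizer (V : Set G)) ∈
      Cfsg.pCore p (G ⧸ Subgroup.centralizer (V : Set G)) := by
  apply pstab_qd_normal p hp hfree V hV (Subgroup.centralizer (V : Set G))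
  · intro g hg
    rw [Subgroup.mem_centralizer_iff]
    intro u hu
    exact (mul_inv_eq_iff_eq_mul.1 (hg u hu)).symm
  · exact Cfsg.Agent.Helper10.quad_of_commutator V (Subgroup.zpowers a) hquad a
      (Subgroup.mem_zpowers a)

/-- `Qd(p)`-free groups (`p` odd) are `p`-stable in the normalizer form. -/
theorem pstab_qd_elt {G : Type u} [Group G] [Finite G] (p : ℕ) [Fact p.Prime] (hp : p ≠ 2)
    (hfree : ¬ Cfsg.Involves ↥(Cfsg.qd p) G) (P : Subgroup G) (hP : IsPGroup p P) (a : G)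
    (ha : a ∈ Subgroup.normalizer (P : Set G))
    (hq : ∀ u ∈ P, a * (a * u * a⁻¹ * u⁻¹) * a⁻¹ = a * u * a⁻¹ * u⁻¹) :
    (QuotientGroup.mk' ((Subgroup.centralizer (P : Set G)).subgroupOf
        (Subgroup.normalizer (P : Set G))) ⟨a, ha⟩) ∈ Cfsg.pCore p _ := by
  apply pstab_qd_normal p hp
    (fun hinv => hfree (Cfsg.Agent.Helper27.involves_of_injective (Subgroup.subtype _)
      (Subgroup.subtype_injective _) hinv))
    (P.subgroupOf (Subgroup.normalizer (P : Set G))) (IsPGroup.comap_subtype hP)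
  · intro g hg
    rw [Subgroup.mem_subgroupOf, Subgroup.mem_centralizer_iff]
    intro u hu
    have h1 := hg ⟨u, Subgroup.le_normalizer hu⟩ hu
    have h2 : (g : G) * u * (g : G)⁻¹ = u := congrArg Subtype.val h1
    exact (mul_inv_eq_iff_eq_mul.1 h2).symm
  · intro u hu
    apply Subtype.ext
    exact hq (u : G) hu

end QdStab

end Cfsg.Agent.Helper1
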