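import Mathlib
import Cfsg.Agent.Helper1.QdStab
import Cfsg.Agent.Helper16.QdP

set_option autoImplicit false

universe u

namespace Cfsg.Agent.Helper1

open scoped commutatorElement
open Matrix

section QdNps

/-- The Heisenberg group `qdS0 F` has class two: commutators are central. -/
theorem heis_class2 {F : Type*} [Field F] :
    ∀ A ∈ Helper16.qdS0 F, ∀ B ∈ Helper16.qdS0 F, ∀ C ∈ Helper16.qdS0 F,
      C * ⁅A, B⁆ = ⁅A, B⁆ * C := by
  intro A hA B hB C hC
  obtain ⟨b, x, y, rfl⟩ := Helper16.exists_heis hA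
  obtain ⟨b', x', y', rfl⟩ := Helper16.exists_heis hB
  obtain ⟨c, u, v, rfl⟩ := Helper16.exists_heis hC
  have h1 : Helper16.heis b x y * Helper16.heis b' x' y' =
      Helper16.heis 0 (b * y' - b' * y) 0 *
        (Helper16.heis b' x' y' * Helper16.heis b x y) := by
    rw [Helper16.heis_mul, Helper16.heis_mul, Helper16.heis_mul]
    apply Helper16.heis_congr <;> ring
  have h2 : ⁅Helper16.heis b x y, Helper16.heis b' x' y'⁆ =
      Helper16.heis 0 (b * y' - b' * y) 0 := by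
    rw [commutatorElement_def, h1]
    group
  rw [h2, Helper16.heis_mul, Helper16.heis_mul]
  apply Helper16.heis_congr <;> ring

/-- In a subgroup of class two, iterated commutators vanish. -/
theorem comm3_bot_of_class2 {X : Type*} [Group X] (S : Subgroup X)
    (h : ∀ a ∈ S, ∀ b ∈ S, ∀ c ∈ S, c * ⁅a, b⁆ = ⁅a, b⁆ * c) (P Z : Subgroup X)
    (hP : P ≤ S) (hZ : Z ≤ S) : ⁅⁅P, Z⁆, Z⁆ = ⊥ := by
  rw [eq_bot_iff]
  have h1 : ⁅P, Z⁆ ≤ Subgroup.centralizer (S : Set X) := by
    rw [Subgroup.commutator_le]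
    intro a ha b hb
    rw [Subgroup.mem_centralizer_iff]
    intro c hc
    exact h a (hP ha) b (hZ hb) c hc
  rw [Subgroup.commutator_le]
  intro c hc z hz
  rw [Subgroup.mem_bot, commutatorElement_eq_one_iff_commute]
  have h2 := Subgroup.mem_centralizer_iff.mp (h1 hc) z (hZ hz)
  exact h2.symm

/-- An element of `Qd` commuting with all translations has trivial linear part. -/
theorem qdPi_eq_one_of_comm {F : Type*} [Field F] (M : ↥(Cfsg.qdOver F))
    (h : ∀ t : Fin 2 → F, Helper16.qdLift 1 t * M = M * Helper16.qdLift 1 t) :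
    Helper16.qdPi F M = 1 := by
  apply Helper16.sl2_eq_one_of_fix_all
  intro t
  obtain ⟨A, hA⟩ : ∃ A, A = Helper16.qdPi F M := ⟨_, rfl⟩
  obtain ⟨s, hs⟩ : ∃ s : Fin 2 → F, s = ![M.1.1 0 2, M.1.1 1 2] := ⟨_, rfl⟩
  have hM : M = Helper16.qdLift A s := by rw [hA, hs]; exact (Helper16.qdLift_pi M).symm
  have h1 := h t
  rw [hM, qdLift_mul', qdLift_mul'] at h1
  rw [← hA]
  have hone : (1 : Matrix.SpecialLinearGroup (Fin 2) F).1 *ᵥ s = s := by
    rw [Matrix.SpecialLinearGroup.coe_one, Matrix.one_mulVec]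
  have e0 : (t + (1 : Matrix.SpecialLinearGroup (Fin 2) F).1 *ᵥ s) 0 = (s + A.1 *ᵥ t) 0 :=
    congrArg (fun N : ↥(Cfsg.qdOver F) => N.1.1 0 2) h1
  have e1 : (t + (1 : Matrix.SpecialLinearGroup (Fin 2) F).1 *ᵥ s) 1 = (s + A.1 *ᵥ t) 1 :=
    congrArg (fun N : ↥(Cfsg.qdOver F) => N.1.1 1 2) h1
  rw [hone] at e0 e1
  have key : ∀ i : Fin 2, (t + s) i = (s + A.1 *ᵥ t) i → (A.1 *ᵥ t) i = t i := by
    intro i hi
    rw [Pi.add_apply, Pi.add_apply] at hi
    linear_combination -hi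
  funext i
  fin_cases i
  · exact key 0 e0
  · exact key 1 e1

/-- `Qd` over a finite field of characteristic `p` is not `p`-stable in the normalizer form:
the translation subgroup with a transvection is a counterexample. -/
theorem qdOver_not_nps {F : Type*} [Field F] [Fintype F] (p : ℕ) [Fact p.Prime] [CharP F p]
    {X : Type*} [Group X] (e : X ≃* ↥(Cfsg.qdOver F)) : ¬ Cfsg.IsNormalizerPStable p X := by
  intro hst
  classical
  obtain ⟨P, hPmem, hPp⟩ : ∃ P : Subgroup X,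
      (∀ x : X, x ∈ P ↔ Helper16.qdPi F (e x) = 1) ∧ IsPGroup p P :=
    ⟨(Helper16.qdPi F).ker.comap e.toMonoidHom, fun x => Iff.rfl,
      (Helper16.qdPi_ker_isPGroup).comap_of_injective e.toMonoidHom e.injective⟩
  have hPn : P.Normal := by
    refine ⟨fun n hn g => ?_⟩
    rw [hPmem] at hn ⊢
    simp only [map_mul, map_inv]
    rw [hn, mul_one, mul_inv_cancel]
  obtain ⟨g, hg⟩ : ∃ g : X, e g = Helper16.heis 1 0 0 := ⟨e.symm _, e.apply_symm_apply _⟩
  have hnorm : ∀ x : X, x ∈ Subgroup.normalizer (P : Set X) := by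
    intro x
    rw [Subgroup.normalizer_eq_top_iff.mpr hPn]
    exact Subgroup.mem_top x
  obtain ⟨S, hSmem⟩ : ∃ S : Subgroup X, ∀ x : X, x ∈ S ↔ e x ∈ Helper16.qdS0 F :=
    ⟨(Helper16.qdS0 F).comap e.toMonoidHom, fun x => Iff.rfl⟩
  have hPS : P ≤ S := by
    intro x hx
    rw [hSmem]
    rw [hPmem] at hx
    show Helper16.qdPi F (e x) ∈ Helper16.upperUni F
    rw [hx]
    exact Subgroup.one_mem _
  have hgS : g ∈ S := by
    rw [hSmem, hg]
    exact Helper16.heis_mem 1 0 0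
  have hZS : Subgroup.zpowers g ≤ S := by
    rw [Subgroup.zpowers_le]
    exact hgS
  have hquad : ⁅⁅P, Subgroup.zpowers g⁆, Subgroup.zpowers g⁆ = ⊥ := by
    apply comm3_bot_of_class2 S _ P (Subgroup.zpowers g) hPS hZS
    intro a ha b hb c hc
    apply e.injective
    rw [map_mul, map_mul, map_commutatorElement]
    exact heis_class2 _ ((hSmem a).mp ha) _ ((hSmem b).mp hb) _ ((hSmem c).mp hc)
  have h := hst P hPp g (hnorm g) hquad
  obtain ⟨K, hKn, hgK, hKp⟩ := (Helper27.mem_pCore_of_surjective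
    (QuotientGroup.mk' ((Subgroup.centralizer (P : Set X)).subgroupOf
      (Subgroup.normalizer (P : Set X))))
    (QuotientGroup.mk'_surjective _) ⟨g, hnorm g⟩).mp h
  obtain ⟨ψ, hψ⟩ : ∃ ψ : ↥(Subgroup.normalizer (P : Set X)) →*
      Matrix.SpecialLinearGroup (Fin 2) F, ∀ x, ψ x = Helper16.qdPi F (e (x : X)) :=
    ⟨(Helper16.qdPi F).comp (e.toMonoidHom.comp (Subgroup.subtype _)), fun x => rfl⟩
  have hψs : Function.Surjective ψ := by
    intro A
    refine ⟨⟨e.symm (Helper16.qdSec F A), hnorm _⟩, ?_⟩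
    rw [hψ]
    show Helper16.qdPi F (e (e.symm (Helper16.qdSec F A))) = A
    rw [MulEquiv.apply_symm_apply, Helper16.qdPi_sec]
  have hcent : ∀ c : X, c ∈ Subgroup.centralizer (P : Set X) → Helper16.qdPi F (e c) = 1 := by
    intro c hc
    apply qdPi_eq_one_of_comm
    intro t
    have h1 : e.symm (Helper16.qdLift 1 t) ∈ P := by
      rw [hPmem, MulEquiv.apply_symm_apply, Helper16.qdPi_lift]
    have h2 := Subgroup.mem_centralizer_iff.mp hc _ h1
    have h3 := congrArg e h2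
    rw [map_mul, map_mul, MulEquiv.apply_symm_apply] at h3
    exact h3
  haveI hK'n : (K.map ψ).Normal := hKn.map ψ hψs
  have hK'p : IsPGroup p ↥(K.map ψ) := by
    rintro ⟨y, hy⟩
    obtain ⟨k, hk, rfl⟩ := Subgroup.mem_map.mp hy
    obtain ⟨n, hn⟩ := hKp k hk
    refine ⟨n, Subtype.ext ?_⟩
    rw [Subgroup.coe_pow]
    show ψ k ^ p ^ n = 1
    rw [QuotientGroup.ker_mk', Subgroup.mem_subgroupOf] at hn
    rw [← map_pow, hψ]
    exact hcent _ hn
  have hbot : K.map ψ = ⊥ := Helper16.sl2_normal_pgroup_eq_bot (K.map ψ) hK'p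
  have h1 : ψ ⟨g, hnorm g⟩ ∈ K.map ψ := Subgroup.mem_map_of_mem ψ hgK
  rw [hbot, Subgroup.mem_bot, hψ] at h1
  have h2 : Helper16.qdPi F (Helper16.heis 1 0 0) = 1 := by
    rw [← hg]; exact h1
  have h3 : (Helper16.qdPi F (Helper16.heis 1 0 0)).1 0 1 =
      (1 : Matrix.SpecialLinearGroup (Fin 2) F).1 0 1 := by rw [h2]
  have h4 : (Helper16.qdPi F (Helper16.heis 1 0 0)).1 0 1 = (1 : F) := rfl
  have h5 : (1 : Matrix.SpecialLinearGroup (Fin 2) F).1 0 1 = (0 : F) := by
    rw [Matrix.SpecialLinearGroup.coe_one]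
    exact Matrix.one_apply_ne (by decide)
  rw [h4, h5] at h3
  exact one_ne_zero h3

/-- A group isomorphic to `Qd(p)` is not `p`-stable in the normalizer form. -/
theorem qd_not_nps {X : Type*} [Group X] (p : ℕ) [Fact p.Prime] (e : X ≃* ↥(Cfsg.qd p)) :
    ¬ Cfsg.IsNormalizerPStable p X :=
  qdOver_not_nps (F := ZMod p) p e

/-- For odd `p`, sections of a `Qd(p)`-free group are `p`-stable in the normalizer form. -/
theorem nps_of_qd_free {G : Type u} [Group G] [Finite G] {p : ℕ} [Fact p.Prime] (hp : p ≠ 2)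
    (hfree : ¬ Cfsg.Involves ↥(Cfsg.qd p) G) (K R : Subgroup G)
    [hR : (R.subgroupOf K).Normal] : Cfsg.IsNormalizerPStable p (K ⧸ R.subgroupOf K) := by
  intro P hP g hg hquad
  have hfree' : ¬ Cfsg.Involves ↥(Cfsg.qd p) (K ⧸ R.subgroupOf K) := by
    intro hinv
    exact hfree (Helper27.involves_of_injective K.subtype K.subtype_injective
      (involves_of_surjective_hom (QuotientGroup.mk' (R.subgroupOf K))
        (QuotientGroup.mk'_surjective _) hinv))
  exact pstab_qd_elt p hp hfree' P hP g hg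
    (Helper10.quad_of_commutator P (Subgroup.zpowers g) hquad g (Subgroup.mem_zpowers g))

end QdNps

end Cfsg.Agent.Helper1
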