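import Mathlib

set_option autoImplicit false

namespace Cfsg.Agent.Helper1

open scoped commutatorElement

section Repl

variable {G : Type*} [Group G]

theorem mem_map_conj_inv {A : Subgroup G} {b z : G} :
    z ∈ A.map (MulAut.conj b⁻¹).toMonoidHom ↔ b * z * b⁻¹ ∈ A := by
  constructor
  · rintro ⟨y, hy, rfl⟩
    have h : b * ((MulAut.conj b⁻¹).toMonoidHom y) * b⁻¹ = y := by
      simp only [MulEquiv.coe_toMonoidHom, MulAut.conj_apply]; group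
    rw [h]; exact hy
  · intro h
    exact ⟨b * z * b⁻¹, h, by simp only [MulEquiv.coe_toMonoidHom, MulAut.conj_apply]; group⟩

/-- The abstract computation behind Glauberman's replacement theorem. -/
theorem kappa_swap_aux (A I : Subgroup G) (b : G)
    (hA : ∀ x ∈ A, ∀ y ∈ A, x * y = y * x)
    (hI1 : ∀ z ∈ I, ∀ h ∈ A, z * h = h * z)
    (hI2 : ∀ z ∈ I, ∀ h ∈ A, z * (b⁻¹ * h * b) = (b⁻¹ * h * b) * z)
    (a a' x x' t t' c t₁ : G) (ha : a ∈ A) (ha' : a' ∈ A)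
    (hx : x = b⁻¹ * a * b) (hx' : x' = b⁻¹ * a' * b)
    (htd : t = x * a'⁻¹ * x⁻¹ * a') (htd' : t' = x' * a⁻¹ * x'⁻¹ * a)
    (hcd : c = b⁻¹ * (a * x⁻¹) * b * (a * x⁻¹)⁻¹) (ht1d : t₁ = b⁻¹ * t * b)
    (ht' : t' ∈ I) (hc : c ∈ I) (ht1 : t₁ ∈ I) : t₁ = t' := by
  have aa : a * a' = a' * a := hA a ha a' ha'
  have xx : x * x' = x' * x := by
    rw [hx, hx']
    calc b⁻¹ * a * b * (b⁻¹ * a' * b) = b⁻¹ * (a * a') * b := by group
      _ = b⁻¹ * (a' * a) * b := by rw [aa]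
      _ = b⁻¹ * a' * b * (b⁻¹ * a * b) := by group
  have ta : Commute t' a' := hI1 t' ht' a' ha'
  have tx : Commute t' x := by rw [hx]; exact hI2 t' ht' a ha
  have ca' : Commute c a' := hI1 c hc a' ha'
  have cx' : Commute c x' := by rw [hx']; exact hI2 c hc a' ha'
  have ra' : Commute t₁ a' := hI1 t₁ ht1 a' ha'
  have rx' : Commute t₁ x' := by rw [hx']; exact hI2 t₁ ht1 a' ha'
  obtain ⟨u, hu⟩ : ∃ u, u = a * x⁻¹ := ⟨_, rfl⟩
  obtain ⟨g', hg⟩ : ∃ g', g' = x'⁻¹ * a' := ⟨_, rfl⟩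
  have aa2 : a'⁻¹ * a = a * a'⁻¹ := by
    calc a'⁻¹ * a = a'⁻¹ * (a * a') * a'⁻¹ := by group
      _ = a'⁻¹ * (a' * a) * a'⁻¹ := by rw [aa]
      _ = a * a'⁻¹ := by group
  have S1 : a'⁻¹ * u * a' = u * t := by
    rw [hu]
    calc a'⁻¹ * (a * x⁻¹) * a' = (a'⁻¹ * a) * x⁻¹ * a' := by group
      _ = (a * a'⁻¹) * x⁻¹ * a' := by rw [aa2]
      _ = a * x⁻¹ * t := by rw [htd]; group
  have S2 : b⁻¹ * u * b = c * u := by rw [hcd, hu]; group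
  have ca2 : a'⁻¹ * c = c * a'⁻¹ := (ca'.inv_right).eq.symm
  have hW2 : a'⁻¹ * (b⁻¹ * u * b) * a' = g'⁻¹ * (b⁻¹ * (a'⁻¹ * u * a') * b) * g' := by
    rw [hg, hx']; group
  have E1 : c * (u * t) = g'⁻¹ * ((c * u) * t₁) * g' := by
    have h1 : a'⁻¹ * (b⁻¹ * u * b) * a' = c * (u * t) := by
      rw [S2]
      calc a'⁻¹ * (c * u) * a' = (a'⁻¹ * c) * u * a' := by group
        _ = (c * a'⁻¹) * u * a' := by rw [ca2]
        _ = c * (a'⁻¹ * u * a') := by group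
        _ = c * (u * t) := by rw [S1]
    have h3 : b⁻¹ * (u * t) * b = (c * u) * t₁ := by
      rw [← S2, ht1d]; group
    rw [← h1, hW2, S1, h3]
  have Cc : c * g'⁻¹ = g'⁻¹ * c := by
    rw [hg]; exact ((cx'.inv_right).mul_right ca').inv_right.eq
  have Cr : t₁ * g' = g' * t₁ := by
    rw [hg]; exact ((rx'.inv_right).mul_right ra').eq
  have E2 : g'⁻¹ * ((c * u) * t₁) * g' = c * ((g'⁻¹ * u * g') * t₁) := by
    calc g'⁻¹ * ((c * u) * t₁) * g' = (g'⁻¹ * c) * u * (t₁ * g') := by group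
      _ = (c * g'⁻¹) * u * (g' * t₁) := by rw [← Cc, Cr]
      _ = c * ((g'⁻¹ * u * g') * t₁) := by group
  have E3 : u * t = (g'⁻¹ * u * g') * t₁ := mul_left_cancel (E1.trans E2)
  have E4 : t₁ = (g'⁻¹ * u * g')⁻¹ * (u * t) := eq_inv_mul_of_mul_eq E3.symm
  rw [E4]
  have hc2 : (a'⁻¹ * x) * t' = t' * (a'⁻¹ * x) := ((ta.inv_right).mul_right tx).eq.symm
  calc (g'⁻¹ * u * g')⁻¹ * (u * t)
      = a'⁻¹ * (x' * x) * a⁻¹ * x'⁻¹ * (a' * a) * x⁻¹ * t := by rw [hu, hg]; group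
    _ = a'⁻¹ * (x * x') * a⁻¹ * x'⁻¹ * (a * a') * x⁻¹ * t := by rw [← xx, ← aa]
    _ = (a'⁻¹ * x) * (x' * a⁻¹ * x'⁻¹ * a) * a' * x⁻¹ * t := by group
    _ = ((a'⁻¹ * x) * t') * a' * x⁻¹ * t := by rw [← htd']
    _ = (t' * (a'⁻¹ * x)) * a' * x⁻¹ * t := by rw [hc2]
    _ = t' := by rw [htd]; group

/-- Hypotheses of the replacement construction. -/
structure ReplData (p : ℕ) (A B : Subgroup G) (b : G) : Prop where
  comm : ∀ x ∈ A, ∀ y ∈ A, x * y = y * x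
  pgrp : IsPGroup p B
  two : p = 2 → ∀ x ∈ B, ∀ y ∈ B, x * y = y * x
  der : ⁅B, B⁆ ≤ A
  mem : b ∈ B
  n1 : ∀ a ∈ A, b⁻¹ * a * b ∈ Subgroup.normalizer (A : Set G)
  n2 : ∀ a ∈ A, b * a * b⁻¹ ∈ Subgroup.normalizer (A : Set G)

def replI (A : Subgroup G) (b : G) : Subgroup G := A ⊓ A.map (MulAut.conj b⁻¹).toMonoidHom

def replF (A : Subgroup G) (b : G) : Subgroup G :=
  Subgroup.closure {g : G | ∃ a ∈ A, g = a * b⁻¹ * a⁻¹ * b}

theorem mem_replI {A : Subgroup G} {b z : G} :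
    z ∈ replI A b ↔ z ∈ A ∧ b * z * b⁻¹ ∈ A := by
  unfold replI
  rw [Subgroup.mem_inf, mem_map_conj_inv]

variable {p : ℕ} {A B : Subgroup G} {b : G}

theorem ReplData.i1 (h : ReplData p A B b) : ∀ z ∈ replI A b, ∀ y ∈ A, z * y = y * z :=
  fun z hz y hy => h.comm z (mem_replI.mp hz).1 y hy

theorem ReplData.i2 (h : ReplData p A B b) :
    ∀ z ∈ replI A b, ∀ y ∈ A, z * (b⁻¹ * y * b) = (b⁻¹ * y * b) * z := by
  intro z hz y hy
  have h1 := h.comm _ (mem_replI.mp hz).2 y hy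
  calc z * (b⁻¹ * y * b) = b⁻¹ * ((b * z * b⁻¹) * y) * b := by group
    _ = b⁻¹ * (y * (b * z * b⁻¹)) * b := by rw [h1]
    _ = (b⁻¹ * y * b) * z := by group

theorem ReplData.der_le [B.Normal] (h : ReplData p A B b) : ⁅B, B⁆ ≤ replI A b := by
  intro w hw
  refine mem_replI.mpr ⟨h.der hw, h.der ?_⟩
  exact (inferInstance : (⁅B, B⁆ : Subgroup G).Normal).conj_mem w hw b

theorem ReplData.gen_mem [hBn : B.Normal] (h : ReplData p A B b) (a : G) :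
    a * b⁻¹ * a⁻¹ * b ∈ B :=
  B.mul_mem (hBn.conj_mem b⁻¹ (B.inv_mem h.mem) a) h.mem

theorem ReplData.kappa_mem (h : ReplData p A B b) {a a' : G} (ha : a ∈ A) (ha' : a' ∈ A) :
    (b⁻¹ * a * b) * a'⁻¹ * (b⁻¹ * a * b)⁻¹ * a' ∈ replI A b := by
  refine mem_replI.mpr ⟨?_, ?_⟩
  · exact A.mul_mem ((Subgroup.mem_normalizer_iff.mp (h.n1 a ha) a'⁻¹).mp (A.inv_mem ha')) ha'
  · have h1 : b * ((b⁻¹ * a * b) * a'⁻¹ * (b⁻¹ * a * b)⁻¹ * a') * b⁻¹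
        = a * ((b * a' * b⁻¹)⁻¹ * a⁻¹ * ((b * a' * b⁻¹)⁻¹)⁻¹) := by group
    rw [h1]
    exact A.mul_mem ha ((Subgroup.mem_normalizer_iff.mp
      (Subgroup.inv_mem _ (h.n2 a' ha')) a⁻¹).mp (A.inv_mem ha))

theorem ReplData.kappa_mem_B [hBn : B.Normal] (h : ReplData p A B b) {a a' : G} (ha : a ∈ A)
    (ha' : a' ∈ A) : (b⁻¹ * a * b) * a'⁻¹ * (b⁻¹ * a * b)⁻¹ * a' ∈ B := by
  have h1 : a⁻¹ * a'⁻¹ * a = a'⁻¹ := by
    have h2 := h.comm a'⁻¹ (A.inv_mem ha') a ha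
    calc a⁻¹ * a'⁻¹ * a = a⁻¹ * (a'⁻¹ * a) := by group
      _ = a⁻¹ * (a * a'⁻¹) := by rw [h2]
      _ = a'⁻¹ := by group
  have h3 : (b⁻¹ * a * b) * a'⁻¹ * (b⁻¹ * a * b)⁻¹ * a'
      = (a * b⁻¹ * a⁻¹ * b)⁻¹ * (a'⁻¹ * (a * b⁻¹ * a⁻¹ * b) * a'⁻¹⁻¹) := by
    calc (b⁻¹ * a * b) * a'⁻¹ * (b⁻¹ * a * b)⁻¹ * a'
        = (b⁻¹ * a * b) * (a⁻¹ * a'⁻¹ * a) * (b⁻¹ * a * b)⁻¹ * a' := by rw [h1]
      _ = _ := by group
  rw [h3]
  exact B.mul_mem (B.inv_mem (h.gen_mem a)) (hBn.conj_mem _ (h.gen_mem a) a'⁻¹)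

theorem ReplData.kappa_swap [hBn : B.Normal] (h : ReplData p A B b) {a a' : G} (ha : a ∈ A)
    (ha' : a' ∈ A) :
    b⁻¹ * ((b⁻¹ * a * b) * a'⁻¹ * (b⁻¹ * a * b)⁻¹ * a') * b
      = (b⁻¹ * a' * b) * a⁻¹ * (b⁻¹ * a' * b)⁻¹ * a := by
  have ht := h.kappa_mem ha ha'
  have ht' := h.kappa_mem ha' ha
  have htB := h.kappa_mem_B ha ha'
  refine kappa_swap_aux A (replI A b) b h.comm h.i1 h.i2 a a' (b⁻¹ * a * b) (b⁻¹ * a' * b)
    _ _ _ _ ha ha' rfl rfl rfl rfl rfl rfl ht' ?_ ?_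
  · apply h.der_le
    have h1 : b⁻¹ * (a * (b⁻¹ * a * b)⁻¹) * b * (a * (b⁻¹ * a * b)⁻¹)⁻¹
        = ⁅b⁻¹, a * b⁻¹ * a⁻¹ * b⁆ := by
      rw [commutatorElement_def]; group
    rw [h1]
    exact Subgroup.commutator_mem_commutator (B.inv_mem h.mem) (h.gen_mem a)
  · obtain ⟨t, htd⟩ : ∃ t, t = (b⁻¹ * a * b) * a'⁻¹ * (b⁻¹ * a * b)⁻¹ * a' := ⟨_, rfl⟩
    rw [← htd] at ht htB ⊢
    have h1 : b⁻¹ * t * b = t * ⁅t⁻¹, b⁻¹⁆ := by rw [commutatorElement_def]; group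
    rw [h1]
    exact (replI A b).mul_mem ht (h.der_le
      (Subgroup.commutator_mem_commutator (B.inv_mem htB) (B.inv_mem h.mem)))

theorem ReplData.kappa_comm_b [hpF : Fact p.Prime] [hBn : B.Normal] (h : ReplData p A B b)
    {a a' : G} (ha : a ∈ A) (ha' : a' ∈ A) :
    ((b⁻¹ * a * b) * a'⁻¹ * (b⁻¹ * a * b)⁻¹ * a') * b
      = b * ((b⁻¹ * a * b) * a'⁻¹ * (b⁻¹ * a * b)⁻¹ * a') := by
  by_cases hp2 : p = 2
  · exact h.two hp2 _ (h.kappa_mem_B ha ha') b h.mem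
  · have s1 := h.kappa_swap ha ha'
    have s2 := h.kappa_swap ha' ha
    obtain ⟨t, htd⟩ : ∃ t, t = (b⁻¹ * a * b) * a'⁻¹ * (b⁻¹ * a * b)⁻¹ * a' := ⟨_, rfl⟩
    rw [← htd] at s1 s2 ⊢
    rw [← s1] at s2
    have h2 : t * b ^ 2 = b ^ 2 * t := by
      rw [pow_two]
      calc t * (b * b) = (b * b) * (b⁻¹ * (b⁻¹ * t * b) * b) := by group
        _ = (b * b) * t := by rw [s2]
    obtain ⟨k, hk⟩ := h.pgrp ⟨b, h.mem⟩
    have hk1 : b ^ (p ^ k) = 1 := by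
      have := congrArg Subtype.val hk
      simpa using this
    have hodd : Odd (p ^ k) := (hpF.out.odd_of_ne_two hp2).pow
    obtain ⟨m, hm⟩ := hodd
    have h3 : (b ^ 2) ^ (m + 1) = b := by
      rw [← pow_mul]
      have h4 : 2 * (m + 1) = p ^ k + 1 := by rw [hm]; ring
      rw [h4, pow_succ, hk1, one_mul]
    have h5 : Commute t ((b ^ 2) ^ (m + 1)) := (show Commute t (b ^ 2) from h2).pow_right (m + 1)
    rw [h3] at h5
    exact h5.eq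

theorem ReplData.kappa_symm [Fact p.Prime] [B.Normal] (h : ReplData p A B b) {a a' : G}
    (ha : a ∈ A) (ha' : a' ∈ A) :
    (b⁻¹ * a * b) * a'⁻¹ * (b⁻¹ * a * b)⁻¹ * a'
      = (b⁻¹ * a' * b) * a⁻¹ * (b⁻¹ * a' * b)⁻¹ * a := by
  have s1 := h.kappa_swap ha ha'
  have s3 := h.kappa_comm_b ha ha'
  rw [← s1]
  obtain ⟨t, htd⟩ : ∃ t, t = (b⁻¹ * a * b) * a'⁻¹ * (b⁻¹ * a * b)⁻¹ * a' := ⟨_, rfl⟩
  rw [← htd] at s3 ⊢
  calc t = b⁻¹ * (b * t) := by group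
    _ = b⁻¹ * (t * b) := by rw [s3]
    _ = b⁻¹ * t * b := by group

theorem uu_aux (a a' x x' t : G) (htd : t = x * a'⁻¹ * x⁻¹ * a') (ht : t * x'⁻¹ = x'⁻¹ * t) :
    (a * x⁻¹) * (a' * x'⁻¹) = a * a' * x⁻¹ * x'⁻¹ * t := by
  have h1 : (a * x⁻¹) * (a' * x'⁻¹) = a * a' * x⁻¹ * (x * a'⁻¹ * x⁻¹ * a' * x'⁻¹) := by group
  rw [h1, ← htd, ht]
  group

theorem ReplData.gen_comm [Fact p.Prime] [B.Normal] (h : ReplData p A B b) {a a' : G}
    (ha : a ∈ A) (ha' : a' ∈ A) :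
    (a * b⁻¹ * a⁻¹ * b) * (a' * b⁻¹ * a'⁻¹ * b)
      = (a' * b⁻¹ * a'⁻¹ * b) * (a * b⁻¹ * a⁻¹ * b) := by
  have hs := h.kappa_symm ha ha'
  have ht := h.kappa_mem ha ha'
  have ht' := h.kappa_mem ha' ha
  have i2a := h.i2
  obtain ⟨x, hx⟩ : ∃ x, x = b⁻¹ * a * b := ⟨_, rfl⟩
  obtain ⟨x', hx'⟩ : ∃ x', x' = b⁻¹ * a' * b := ⟨_, rfl⟩
  rw [← hx] at hs ht
  rw [← hx'] at hs ht'
  obtain ⟨t, htd⟩ : ∃ t, t = x * a'⁻¹ * x⁻¹ * a' := ⟨_, rfl⟩
  obtain ⟨t', htd'⟩ : ∃ t', t' = x' * a⁻¹ * x'⁻¹ * a := ⟨_, rfl⟩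
  rw [← htd, ← htd'] at hs
  rw [← htd] at ht
  rw [← htd'] at ht'
  have c1 : t * x'⁻¹ = x'⁻¹ * t := by
    have h1 := i2a t ht a' ha'
    rw [← hx'] at h1
    exact (Commute.inv_right (show Commute t x' from h1)).eq
  have c2 : t' * x⁻¹ = x⁻¹ * t' := by
    have h1 := i2a t' ht' a ha
    rw [← hx] at h1
    exact (Commute.inv_right (show Commute t' x from h1)).eq
  have e1 := uu_aux a a' x x' t htd c1
  have e2 := uu_aux a' a x' x t' htd' c2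
  have f1 : a * b⁻¹ * a⁻¹ * b = a * x⁻¹ := by rw [hx]; group
  have f2 : a' * b⁻¹ * a'⁻¹ * b = a' * x'⁻¹ := by rw [hx']; group
  have aa := h.comm a ha a' ha'
  have xx : x⁻¹ * x'⁻¹ = x'⁻¹ * x⁻¹ := by
    rw [hx, hx']
    calc (b⁻¹ * a * b)⁻¹ * (b⁻¹ * a' * b)⁻¹ = b⁻¹ * (a' * a)⁻¹ * b := by group
      _ = b⁻¹ * (a * a')⁻¹ * b := by rw [aa]
      _ = (b⁻¹ * a' * b)⁻¹ * (b⁻¹ * a * b)⁻¹ := by group
  rw [f1, f2, e1, e2, hs, aa]
  calc a' * a * x⁻¹ * x'⁻¹ * t' = a' * a * (x⁻¹ * x'⁻¹) * t' := by group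
    _ = a' * a * (x'⁻¹ * x⁻¹) * t' := by rw [xx]
    _ = a' * a * x'⁻¹ * x⁻¹ * t' := by group

theorem closure_comm (S : Set G) (hS : ∀ x ∈ S, ∀ y ∈ S, x * y = y * x) :
    ∀ x ∈ Subgroup.closure S, ∀ y ∈ Subgroup.closure S, x * y = y * x := by
  have h1 : Subgroup.closure S ≤ Subgroup.centralizer S :=
    (Subgroup.closure_le _).mpr
      (fun x hx => Subgroup.mem_centralizer_iff.mpr (fun y hy => hS y hy x hx))
  intro x hx y hy
  have hx' := Subgroup.mem_centralizer_iff.mp (h1 hx)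
  have h2 : Subgroup.closure S ≤ Subgroup.centralizer ({x} : Set G) :=
    (Subgroup.closure_le _).mpr (fun s hs => Subgroup.mem_centralizer_iff.mpr (fun z hz => by
      rw [Set.mem_singleton_iff] at hz; rw [hz]; exact (hx' s hs).symm))
  exact Subgroup.mem_centralizer_iff.mp (h2 hy) x (Set.mem_singleton x)

theorem closure_pow (S : Set G) (hS : ∀ x ∈ S, ∀ y ∈ S, x * y = y * x) (e : ℕ)
    (hSe : ∀ x ∈ S, x ^ e = 1) : ∀ y ∈ Subgroup.closure S, y ^ e = 1 := by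
  have hc := closure_comm S hS
  intro y hy
  induction hy using Subgroup.closure_induction with
  | mem x hx => exact hSe x hx
  | one => exact one_pow e
  | mul x y hx hy px py => rw [(show Commute x y from hc x hx y hy).mul_pow, px, py, one_mul]
  | inv x hx px => rw [inv_pow, px, inv_one]

theorem star_eq_closure (A : Subgroup G) (b : G) :
    replI A b ⊔ replF A b
      = Subgroup.closure (((replI A b : Subgroup G) : Set G) ∪
          {g : G | ∃ a ∈ A, g = a * b⁻¹ * a⁻¹ * b}) := by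
  unfold replF
  rw [Subgroup.closure_union, Subgroup.closure_eq]

theorem ReplData.gens_comm [Fact p.Prime] [B.Normal] (h : ReplData p A B b) :
    ∀ x ∈ ((replI A b : Subgroup G) : Set G) ∪ {g : G | ∃ a ∈ A, g = a * b⁻¹ * a⁻¹ * b},
    ∀ y ∈ ((replI A b : Subgroup G) : Set G) ∪ {g : G | ∃ a ∈ A, g = a * b⁻¹ * a⁻¹ * b},
      x * y = y * x := by
  have hIg : ∀ z ∈ replI A b, ∀ a ∈ A,
      z * (a * b⁻¹ * a⁻¹ * b) = (a * b⁻¹ * a⁻¹ * b) * z := by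
    intro z hz a ha
    have hf : a * b⁻¹ * a⁻¹ * b = a * (b⁻¹ * a⁻¹ * b) := by group
    rw [hf]
    exact ((show Commute z a from h.i1 z hz a ha).mul_right
      (show Commute z (b⁻¹ * a⁻¹ * b) from h.i2 z hz a⁻¹ (A.inv_mem ha))).eq
  rintro x (hx | ⟨a, ha, rfl⟩) y (hy | ⟨a', ha', rfl⟩)
  · exact h.i1 x hx y (mem_replI.mp hy).1
  · exact hIg x hx a' ha'
  · exact (hIg y hy a ha).symm
  · exact h.gen_comm ha ha'

theorem ReplData.star_comm [Fact p.Prime] [B.Normal] (h : ReplData p A B b) :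
    ∀ y ∈ replI A b ⊔ replF A b, ∀ y' ∈ replI A b ⊔ replF A b, y * y' = y' * y := by
  rw [star_eq_closure]
  exact closure_comm _ h.gens_comm

theorem ReplData.star_le_normalizer (h : ReplData p A B b) :
    replI A b ⊔ replF A b ≤ Subgroup.normalizer (A : Set G) := by
  refine sup_le (fun z hz => Subgroup.le_normalizer (mem_replI.mp hz).1) ?_
  unfold replF
  rw [Subgroup.closure_le]
  rintro _ ⟨a, ha, rfl⟩
  have hf : a * b⁻¹ * a⁻¹ * b = a * (b⁻¹ * a * b)⁻¹ := by group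
  rw [hf]
  exact Subgroup.mul_mem _ (Subgroup.le_normalizer ha) (Subgroup.inv_mem _ (h.n1 a ha))

theorem ReplData.replF_le [B.Normal] (h : ReplData p A B b) : replF A b ≤ B := by
  unfold replF
  rw [Subgroup.closure_le]
  rintro _ ⟨a, _, rfl⟩
  exact h.gen_mem a

theorem ReplData.inf_le [B.Normal] (h : ReplData p A B b) : A ⊓ B ≤ replI A b := by
  intro z hz
  obtain ⟨hzA, hzB⟩ := Subgroup.mem_inf.mp hz
  refine mem_replI.mpr ⟨hzA, ?_⟩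
  have h1 : b * z * b⁻¹ = ⁅b, z⁆ * z := by rw [commutatorElement_def]; group
  rw [h1]
  exact A.mul_mem (h.der (Subgroup.commutator_mem_commutator h.mem hzB)) hzA

theorem ReplData.fiber (h : ReplData p A B b) {a a₁ : G} (ha : a ∈ A) (ha₁ : a₁ ∈ A)
    (hz : (a * b⁻¹ * a⁻¹ * b)⁻¹ * (a₁ * b⁻¹ * a₁⁻¹ * b) ∈ replI A b) :
    a⁻¹ * a₁ ∈ replI A b := by
  have hd : a⁻¹ * a₁ ∈ A := A.mul_mem (A.inv_mem ha) ha₁
  have hk := h.kappa_mem ha (A.inv_mem hd)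
  have h1 : (a⁻¹ * a₁) * (b⁻¹ * (a * a₁⁻¹) * b)
      = ((b⁻¹ * a * b) * (a⁻¹ * a₁)⁻¹⁻¹ * (b⁻¹ * a * b)⁻¹ * (a⁻¹ * a₁)⁻¹)⁻¹
        * ((a * b⁻¹ * a⁻¹ * b)⁻¹ * (a₁ * b⁻¹ * a₁⁻¹ * b)) := by group
  have h2 : (a⁻¹ * a₁) * (b⁻¹ * (a * a₁⁻¹) * b) ∈ replI A b := by
    rw [h1]; exact (replI A b).mul_mem ((replI A b).inv_mem hk) hz
  have h3 : b⁻¹ * (a * a₁⁻¹) * b ∈ replI A b := by
    refine mem_replI.mpr ⟨?_, ?_⟩
    · have h4 : b⁻¹ * (a * a₁⁻¹) * b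
          = (a⁻¹ * a₁)⁻¹ * ((a⁻¹ * a₁) * (b⁻¹ * (a * a₁⁻¹) * b)) := by group
      rw [h4]; exact A.mul_mem (A.inv_mem hd) (mem_replI.mp h2).1
    · have h5 : b * (b⁻¹ * (a * a₁⁻¹) * b) * b⁻¹ = a * a₁⁻¹ := by group
      rw [h5]; exact A.mul_mem ha (A.inv_mem ha₁)
  have h6 : a⁻¹ * a₁
      = ((a⁻¹ * a₁) * (b⁻¹ * (a * a₁⁻¹) * b)) * (b⁻¹ * (a * a₁⁻¹) * b)⁻¹ := by group
  rw [h6]; exact (replI A b).mul_mem h2 ((replI A b).inv_mem h3)

theorem card_le_of_coset_inj [Finite G] (I A A' : Subgroup G) (hIA : I ≤ A) (hIA' : I ≤ A')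
    (f : G → G) (hf : ∀ a ∈ A, f a ∈ A')
    (hinj : ∀ a ∈ A, ∀ a₁ ∈ A, (f a)⁻¹ * f a₁ ∈ I → a⁻¹ * a₁ ∈ I) :
    Nat.card A ≤ Nat.card A' := by
  have key : ∀ {C D : Subgroup G}, C ≤ D → Nat.card D = Nat.card C * C.relIndex D := by
    intro C D hC
    rw [← Subgroup.relIndex_bot_left, ← Subgroup.relIndex_bot_left]
    exact (Subgroup.relIndex_mul_relIndex ⊥ C D bot_le hC).symm
  rw [key hIA, key hIA']
  apply Nat.mul_le_mul_left
  let φ : (↥A ⧸ I.subgroupOf A) → (↥A' ⧸ I.subgroupOf A') :=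
    fun q => QuotientGroup.mk ⟨f (q.out : ↥A), hf _ (q.out).2⟩
  have hφ : Function.Injective φ := by
    intro q q' hqq
    have h3 : (⟨f (q.out : ↥A), hf _ (q.out).2⟩ : ↥A')⁻¹ * ⟨f (q'.out : ↥A), hf _ (q'.out).2⟩
        ∈ I.subgroupOf A' := QuotientGroup.eq.mp hqq
    rw [Subgroup.mem_subgroupOf] at h3
    have h4 : ((q.out : ↥A) : G)⁻¹ * ((q'.out : ↥A) : G) ∈ I := hinj _ (q.out).2 _ (q'.out).2 h3
    calc q = QuotientGroup.mk q.out := (QuotientGroup.out_eq' q).symm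
      _ = QuotientGroup.mk q'.out := QuotientGroup.eq.mpr (Subgroup.mem_subgroupOf.mpr h4)
      _ = q' := QuotientGroup.out_eq' q'
  exact Nat.card_le_card_of_injective φ hφ

theorem ReplData.card_le [Finite G] (h : ReplData p A B b) :
    Nat.card A ≤ Nat.card ↥(replI A b ⊔ replF A b) := by
  refine card_le_of_coset_inj (replI A b) A (replI A b ⊔ replF A b)
    (fun z hz => (mem_replI.mp hz).1) le_sup_left
    (fun a => a * b⁻¹ * a⁻¹ * b) (fun a ha => ?_) (fun a ha a₁ ha₁ hz => h.fiber ha ha₁ hz)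
  exact Subgroup.mem_sup_right
    (show a * b⁻¹ * a⁻¹ * b ∈ replF A b from Subgroup.subset_closure ⟨a, ha, rfl⟩)

theorem pow_class2_aux (u v z : G) (huv : v * u = u * v * z) (hzv : z * v = v * z) :
    ∀ n : ℕ, v ^ n * u = u * v ^ n * z ^ n := by
  intro n
  induction n with
  | zero => simp
  | succ n ih =>
    have hz : z ^ n * v = v * z ^ n := ((show Commute z v from hzv).pow_left n).eq
    calc v ^ (n + 1) * u = v ^ n * (v * u) := by rw [pow_succ, mul_assoc]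
      _ = v ^ n * (u * v * z) := by rw [huv]
      _ = (v ^ n * u) * v * z := by simp only [mul_assoc]
      _ = u * v ^ n * z ^ n * v * z := by rw [ih]
      _ = u * v ^ n * (z ^ n * v) * z := by simp only [mul_assoc]
      _ = u * v ^ n * (v * z ^ n) * z := by rw [hz]
      _ = u * (v ^ n * v) * (z ^ n * z) := by simp only [mul_assoc]
      _ = u * v ^ (n + 1) * z ^ (n + 1) := by rw [← pow_succ, ← pow_succ]

theorem pow_class2 (u v z : G) (huv : v * u = u * v * z) (hzu : z * u = u * z)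
    (hzv : z * v = v * z) :
    ∀ n : ℕ, ∃ m : ℕ, (u * v) ^ n = u ^ n * v ^ n * z ^ m ∧ 2 * m + n = n * n := by
  intro n
  induction n with
  | zero => exact ⟨0, by simp, by norm_num⟩
  | succ n ih =>
    obtain ⟨m, hm, hmn⟩ := ih
    refine ⟨m + n, ?_, ?_⟩
    · have hzm : z ^ m * (u * v) = (u * v) * z ^ m :=
        (((show Commute z u from hzu).mul_right (show Commute z v from hzv)).pow_left m).eq
      have hzn : z ^ n * v = v * z ^ n := ((show Commute z v from hzv).pow_left n).eq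
      calc (u * v) ^ (n + 1) = (u * v) ^ n * (u * v) := pow_succ _ _
        _ = u ^ n * v ^ n * z ^ m * (u * v) := by rw [hm]
        _ = u ^ n * v ^ n * (z ^ m * (u * v)) := by simp only [mul_assoc]
        _ = u ^ n * v ^ n * ((u * v) * z ^ m) := by rw [hzm]
        _ = u ^ n * (v ^ n * u) * v * z ^ m := by simp only [mul_assoc]
        _ = u ^ n * (u * v ^ n * z ^ n) * v * z ^ m := by rw [pow_class2_aux u v z huv hzv n]
        _ = u ^ n * u * v ^ n * (z ^ n * v) * z ^ m := by simp only [mul_assoc]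
        _ = u ^ n * u * v ^ n * (v * z ^ n) * z ^ m := by rw [hzn]
        _ = (u ^ n * u) * (v ^ n * v) * (z ^ n * z ^ m) := by simp only [mul_assoc]
        _ = u ^ (n + 1) * v ^ (n + 1) * z ^ (m + n) := by
          rw [← pow_succ, ← pow_succ, ← pow_add, add_comm n m]
    · have h1 : (n + 1) * (n + 1) = n * n + 2 * n + 1 := by ring
      rw [h1]; omega

theorem pow_class2_odd (u v z : G) (huv : v * u = u * v * z) (hzu : z * u = u * z)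
    (hzv : z * v = v * z) (e : ℕ) (he : Odd e) (hu : u ^ e = 1) (hv : v ^ e = 1) :
    (u * v) ^ e = 1 := by
  have hze : z ^ e = 1 := by
    have h1 := pow_class2_aux u v z huv hzv e
    rw [hv, one_mul, mul_one] at h1
    have h2 : u * z ^ e = u * 1 := by rw [mul_one]; exact h1.symm
    exact mul_left_cancel h2
  obtain ⟨m, hm, hmn⟩ := pow_class2 u v z huv hzu hzv e
  obtain ⟨k, hk⟩ := he
  subst hk
  have h2 : (2 * k + 1) * (2 * k + 1) = 2 * ((2 * k + 1) * k) + (2 * k + 1) := by ring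
  have h3 : m = (2 * k + 1) * k := by
    rw [h2] at hmn
    exact Nat.eq_of_mul_eq_mul_left (by norm_num : 0 < 2) (Nat.add_right_cancel hmn)
  rw [hm, hu, hv, h3, pow_mul, hze]
  simp

theorem ReplData.star_pow [Fact p.Prime] [B.Normal] (h : ReplData p A B b) (e : ℕ)
    (he : e = 0 ∨ Odd e) (hAe : ∀ a ∈ A, a ^ e = 1) :
    ∀ y ∈ replI A b ⊔ replF A b, y ^ e = 1 := by
  rcases he with rfl | he
  · intro y _; exact pow_zero y
  · rw [star_eq_closure]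
    apply closure_pow _ h.gens_comm
    rintro y (hy | ⟨a, ha, rfl⟩)
    · exact hAe y (mem_replI.mp hy).1
    · have hf : a * b⁻¹ * a⁻¹ * b = a * (b⁻¹ * a * b)⁻¹ := by group
      rw [hf]
      have hk := h.kappa_mem ha ha
      have i2a := h.i2
      obtain ⟨x, hx⟩ : ∃ x, x = b⁻¹ * a * b := ⟨_, rfl⟩
      rw [← hx] at hk ⊢
      obtain ⟨z, hz⟩ : ∃ z, z = x * a⁻¹ * x⁻¹ * a := ⟨_, rfl⟩
      rw [← hz] at hk
      have hzu : z * a = a * z := h.i1 z hk a ha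
      have hzx : z * x = x * z := by
        have h1 := i2a z hk a ha
        rwa [← hx] at h1
      have hzv : z * x⁻¹ = x⁻¹ * z := (Commute.inv_right (show Commute z x from hzx)).eq
      have huv : x⁻¹ * a = a * x⁻¹ * z := by rw [hz]; group
      have hxe : (x⁻¹) ^ e = 1 := by
        have h1 : x = b⁻¹ * a * (b⁻¹)⁻¹ := by rw [hx, inv_inv]
        rw [inv_pow, h1, conj_pow, hAe a ha]
        simp
      exact pow_class2_odd a x⁻¹ z huv hzu hzv e he (hAe a ha) hxe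

theorem exists_gen_not_mem [Finite G] (A : Subgroup G) (b : G)
    (hb : b ∉ Subgroup.normalizer (A : Set G)) : ∃ a ∈ A, a * b⁻¹ * a⁻¹ * b ∉ A := by
  by_contra hcon0
  have hcon : ∀ a ∈ A, a * b⁻¹ * a⁻¹ * b ∈ A := fun a ha => by
    by_contra hna
    exact hcon0 ⟨a, ha, hna⟩
  apply hb
  have h1 : b⁻¹ ∈ Subgroup.normalizer (A : Set G) := by
    apply Subgroup.mem_normalizer_fintype
    intro n hn
    have h2 := hcon n⁻¹ (A.inv_mem hn)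
    have h3 : b⁻¹ * n * b⁻¹⁻¹ = n * (n⁻¹ * b⁻¹ * n⁻¹⁻¹ * b) := by group
    rw [h3]; exact A.mul_mem hn h2
  have h4 := Subgroup.inv_mem _ h1
  rwa [inv_inv] at h4

theorem exists_b {p : ℕ} [Fact p.Prime] [Finite G] (A B D : Subgroup G) [hBn : B.Normal]
    (hD : IsPGroup p D) (hAD : A ≤ D) (hBD : B ≤ D)
    (hnot : ¬ B ≤ Subgroup.normalizer (A : Set G)) :
    ∃ b ∈ B, b ∉ Subgroup.normalizer (A : Set G) ∧
      (∀ a ∈ A, b⁻¹ * a * b ∈ Subgroup.normalizer (A : Set G)) ∧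
      (∀ a ∈ A, b * a * b⁻¹ ∈ Subgroup.normalizer (A : Set G)) := by
  obtain ⟨M, hM⟩ : ∃ M : Subgroup G, M = A ⊔ (B ⊓ Subgroup.normalizer (A : Set G)) := ⟨_, rfl⟩
  obtain ⟨K, hK⟩ : ∃ K : Subgroup G, K = A ⊔ B := ⟨_, rfl⟩
  have hMN : M ≤ Subgroup.normalizer (A : Set G) := by
    rw [hM]; exact sup_le Subgroup.le_normalizer inf_le_right
  have hMK : M ≤ K := by rw [hM, hK]; exact sup_le_sup_left inf_le_left A
  have hAM : A ≤ M := by rw [hM]; exact le_sup_left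
  have hKD : K ≤ D := by rw [hK]; exact sup_le hAD hBD
  have hne : M.subgroupOf K ≠ ⊤ := by
    intro htop
    rw [Subgroup.subgroupOf_eq_top] at htop
    exact hnot (le_trans (by rw [hK]; exact le_sup_right) (htop.trans hMN))
  haveI := (hD.to_le hKD).isNilpotent
  have hnc := normalizerCondition_of_isNilpotent (G := ↥K) (M.subgroupOf K)
    (lt_top_iff_ne_top.mpr hne)
  obtain ⟨y, hyN, hyM⟩ := SetLike.exists_of_lt hnc
  have hyK : (y : G) ∈ A ⊔ B := by rw [← hK]; exact y.2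
  obtain ⟨a₀, ha₀, b₀, hb₀, hab⟩ := Subgroup.mem_sup_of_normal_right.mp hyK
  have hy1 : ∀ m ∈ M, (y : G) * m * (y : G)⁻¹ ∈ M := by
    intro m hm
    have h1 := (Subgroup.mem_normalizer_iff.mp hyN ⟨m, hMK hm⟩).mp
      (Subgroup.mem_subgroupOf.mpr hm)
    exact Subgroup.mem_subgroupOf.mp h1
  have hy2 : ∀ m ∈ M, (y : G)⁻¹ * m * (y : G) ∈ M := by
    intro m hm
    have h1 := (Subgroup.mem_normalizer_iff.mp (Subgroup.inv_mem _ hyN) ⟨m, hMK hm⟩).mp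
      (Subgroup.mem_subgroupOf.mpr hm)
    have h2 := Subgroup.mem_subgroupOf.mp h1
    simpa using h2
  have hb₀e : b₀ = a₀⁻¹ * (y : G) := by rw [← hab]; group
  have hb1 : ∀ m ∈ M, b₀ * m * b₀⁻¹ ∈ M := by
    intro m hm
    have h1 : b₀ * m * b₀⁻¹ = a₀⁻¹ * ((y : G) * m * (y : G)⁻¹) * a₀ := by rw [hb₀e]; group
    rw [h1]; exact M.mul_mem (M.mul_mem (M.inv_mem (hAM ha₀)) (hy1 m hm)) (hAM ha₀)
  have hb2 : ∀ m ∈ M, b₀⁻¹ * m * b₀ ∈ M := by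
    intro m hm
    have h1 : b₀⁻¹ * m * b₀ = (y : G)⁻¹ * (a₀ * m * a₀⁻¹) * (y : G) := by rw [hb₀e]; group
    rw [h1]; exact hy2 _ (M.mul_mem (M.mul_mem (hAM ha₀) hm) (M.inv_mem (hAM ha₀)))
  refine ⟨b₀, hb₀, ?_, fun a ha => hMN (hb2 a (hAM ha)), fun a ha => hMN (hb1 a (hAM ha))⟩
  intro hbN
  apply hyM
  rw [Subgroup.mem_subgroupOf, ← hab]
  exact M.mul_mem (hAM ha₀)
    (by rw [hM]; exact Subgroup.mem_sup_right (Subgroup.mem_inf.mpr ⟨hb₀, hbN⟩))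

/-- `e`-abelian subgroups: commutative with all `e`-th powers trivial (`e = 0`: abelian). -/
def IsEAb (e : ℕ) (A : Subgroup G) : Prop :=
  (∀ x ∈ A, ∀ y ∈ A, x * y = y * x) ∧ ∀ a ∈ A, a ^ e = 1

/-- The `e`-abelian subgroups of `D` of largest order. -/
def maxE (e : ℕ) (D : Subgroup G) : Set (Subgroup G) :=
  {A | A ≤ D ∧ IsEAb e A ∧ ∀ B : Subgroup G, B ≤ D → IsEAb e B → Nat.card B ≤ Nat.card A}

/-- Glauberman's replacement theorem (existence form). -/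
theorem replacement {p : ℕ} [Fact p.Prime] [Finite G] (hp2 : p ≠ 2) {e : ℕ} (he : e = 0 ∨ Odd e)
    (D B A : Subgroup G) [B.Normal] (hD : IsPGroup p D) (hBD : B ≤ D)
    (hA : A ∈ maxE e D) (hBA : ⁅B, B⁆ ≤ A) (hnot : ¬ B ≤ Subgroup.normalizer (A : Set G)) :
    ∃ A' ∈ maxE e D, Nat.card ↥(A ⊓ B) < Nat.card ↥(A' ⊓ B) ∧
      A' ≤ Subgroup.normalizer (A : Set G) := by
  obtain ⟨hAD, ⟨hAc, hAe⟩, hAmax⟩ := hA
  obtain ⟨b, hb, hbN, hN1, hN2⟩ := exists_b A B D hD hAD hBD hnot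
  have h : ReplData p A B b := ⟨hAc, hD.to_le hBD, fun h2 => absurd h2 hp2, hBA, hb, hN1, hN2⟩
  have hle : replI A b ⊔ replF A b ≤ D :=
    sup_le (fun z hz => hAD (mem_replI.mp hz).1) (h.replF_le.trans hBD)
  refine ⟨replI A b ⊔ replF A b, ⟨hle, ⟨h.star_comm, h.star_pow e he hAe⟩,
    fun B' hB' hB'e => (hAmax B' hB' hB'e).trans h.card_le⟩, ?_, h.star_le_normalizer⟩
  obtain ⟨a, ha, hfa⟩ := exists_gen_not_mem A b hbN
  have hle2 : A ⊓ B ≤ (replI A b ⊔ replF A b) ⊓ B :=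
    le_inf (h.inf_le.trans le_sup_left) inf_le_right
  by_contra hcon
  have heq := Subgroup.eq_of_le_of_card_ge hle2 (not_lt.mp hcon)
  have hmem : a * b⁻¹ * a⁻¹ * b ∈ (replI A b ⊔ replF A b) ⊓ B :=
    Subgroup.mem_inf.mpr ⟨Subgroup.mem_sup_right
      (show a * b⁻¹ * a⁻¹ * b ∈ replF A b from Subgroup.subset_closure ⟨a, ha, rfl⟩),
      h.gen_mem a⟩
  rw [← heq] at hmem
  exact hfa (Subgroup.mem_inf.mp hmem).1

end Repl

end Cfsg.Agent.Helper1
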