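import Mathlib
import Cfsg.Agent.Helper1.Repl
import Cfsg.Agent.Helper1.ThMain1

set_option autoImplicit false

namespace Cfsg.Agent.Helper1

open scoped commutatorElement

section Repl2

variable {G : Type*} [Group G] {p : ℕ} {A B : Subgroup G} {b : G}

/-- `f(a) f(a') = f(a a') κ(a, a')`. -/
theorem ReplData.gen_mul (h : ReplData p A B b) {a a' : G} (ha : a ∈ A) (ha' : a' ∈ A) :
    (a * b⁻¹ * a⁻¹ * b) * (a' * b⁻¹ * a'⁻¹ * b)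
      = ((a * a') * b⁻¹ * (a * a')⁻¹ * b) *
        ((b⁻¹ * a * b) * a'⁻¹ * (b⁻¹ * a * b)⁻¹ * a') := by
  have hk := h.kappa_mem ha ha'
  have ht := h.i2 _ hk a' ha'
  have hc : a * a' = a' * a := h.comm a ha a' ha'
  have hxx : (b⁻¹ * a * b) * (b⁻¹ * a' * b) = (b⁻¹ * a' * b) * (b⁻¹ * a * b) := by
    calc (b⁻¹ * a * b) * (b⁻¹ * a' * b) = b⁻¹ * (a * a') * b := by group
      _ = b⁻¹ * (a' * a) * b := by rw [hc]
      _ = (b⁻¹ * a' * b) * (b⁻¹ * a * b) := by group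
  have hxxi : (b⁻¹ * a * b)⁻¹ * (b⁻¹ * a' * b)⁻¹ = (b⁻¹ * a' * b)⁻¹ * (b⁻¹ * a * b)⁻¹ := by
    rw [← mul_inv_rev, ← mul_inv_rev, hxx]
  have ht' : ((b⁻¹ * a * b) * a'⁻¹ * (b⁻¹ * a * b)⁻¹ * a') * (b⁻¹ * a' * b)⁻¹
      = (b⁻¹ * a' * b)⁻¹ * ((b⁻¹ * a * b) * a'⁻¹ * (b⁻¹ * a * b)⁻¹ * a') :=
    (Commute.inv_right (show Commute ((b⁻¹ * a * b) * a'⁻¹ * (b⁻¹ * a * b)⁻¹ * a')
      (b⁻¹ * a' * b) from ht)).eq
  have hu := uu_aux a a' (b⁻¹ * a * b) (b⁻¹ * a' * b) _ rfl ht'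
  calc (a * b⁻¹ * a⁻¹ * b) * (a' * b⁻¹ * a'⁻¹ * b)
      = (a * (b⁻¹ * a * b)⁻¹) * (a' * (b⁻¹ * a' * b)⁻¹) := by group
    _ = a * a' * (b⁻¹ * a * b)⁻¹ * (b⁻¹ * a' * b)⁻¹ *
          ((b⁻¹ * a * b) * a'⁻¹ * (b⁻¹ * a * b)⁻¹ * a') := hu
    _ = a * a' * ((b⁻¹ * a * b)⁻¹ * (b⁻¹ * a' * b)⁻¹) *
          ((b⁻¹ * a * b) * a'⁻¹ * (b⁻¹ * a * b)⁻¹ * a') := by simp only [mul_assoc]
    _ = a * a' * ((b⁻¹ * a' * b)⁻¹ * (b⁻¹ * a * b)⁻¹) *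
          ((b⁻¹ * a * b) * a'⁻¹ * (b⁻¹ * a * b)⁻¹ * a') := by rw [hxxi]
    _ = ((a * a') * b⁻¹ * (a * a')⁻¹ * b) *
          ((b⁻¹ * a * b) * a'⁻¹ * (b⁻¹ * a * b)⁻¹ * a') := by group

theorem ReplData.conj_inv_mem [hBn : B.Normal] (h : ReplData p A B b) {z : G}
    (hz : z ∈ replI A b) : b⁻¹ * z * b ∈ A := by
  obtain ⟨hzA, hzb⟩ := mem_replI.mp hz
  have hcA : (b * z * b⁻¹)⁻¹ * z ∈ A := A.mul_mem (A.inv_mem hzb) hzA
  have hcB : (b * z * b⁻¹)⁻¹ * z ∈ B := by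
    have e : (b * z * b⁻¹)⁻¹ * z = b * (z⁻¹ * b⁻¹ * z⁻¹⁻¹) := by group
    rw [e]
    exact B.mul_mem h.mem (hBn.conj_mem b⁻¹ (B.inv_mem h.mem) z⁻¹)
  have h1 : b⁻¹ * ((b * z * b⁻¹)⁻¹ * z) * b ∈ A := by
    have e : b⁻¹ * ((b * z * b⁻¹)⁻¹ * z) * b
        = ((b * z * b⁻¹)⁻¹ * z) * ⁅((b * z * b⁻¹)⁻¹ * z)⁻¹, b⁻¹⁆ := by
      rw [commutatorElement_def]; group
    rw [e]
    exact A.mul_mem hcA
      (h.der (Subgroup.commutator_mem_commutator (B.inv_mem hcB) (B.inv_mem h.mem)))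
  have e2 : b⁻¹ * z * b = z * (b⁻¹ * ((b * z * b⁻¹)⁻¹ * z) * b) := by group
  rw [e2]; exact A.mul_mem hzA h1

theorem ReplData.conj_inv_mem_I [B.Normal] (h : ReplData p A B b) {z : G}
    (hz : z ∈ replI A b) : b⁻¹ * z * b ∈ replI A b := by
  refine mem_replI.mpr ⟨h.conj_inv_mem hz, ?_⟩
  have e : b * (b⁻¹ * z * b) * b⁻¹ = z := by group
  rw [e]; exact (mem_replI.mp hz).1

theorem ReplData.symm (h : ReplData p A B b) : ReplData p A B b⁻¹ :=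
  ⟨h.comm, h.pgrp, h.two, h.der, B.inv_mem h.mem,
    fun a ha => by rw [inv_inv]; exact h.n2 a ha,
    fun a ha => by rw [inv_inv]; exact h.n1 a ha⟩

theorem ReplData.conj_mem_I [B.Normal] (h : ReplData p A B b) {z : G}
    (hz : z ∈ replI A b) : b * z * b⁻¹ ∈ replI A b := by
  obtain ⟨hzA, hzb⟩ := mem_replI.mp hz
  refine mem_replI.mpr ⟨hzb, ?_⟩
  have hw : b * z * b⁻¹ ∈ replI A b⁻¹ := by
    refine mem_replI.mpr ⟨hzb, ?_⟩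
    have e : b⁻¹ * (b * z * b⁻¹) * b⁻¹⁻¹ = z := by group
    rw [e]; exact hzA
  have h1 := h.symm.conj_inv_mem hw
  rw [inv_inv] at h1
  exact h1

theorem ReplData.gen_mem_I [B.Normal] (h : ReplData p A B b) {z : G}
    (hz : z ∈ replI A b) : z * b⁻¹ * z⁻¹ * b ∈ replI A b := by
  have e : z * b⁻¹ * z⁻¹ * b = z * (b⁻¹ * z * b)⁻¹ := by group
  rw [e]
  exact (replI A b).mul_mem hz ((replI A b).inv_mem (h.conj_inv_mem_I hz))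

theorem fiber_conv_aux (Fa Fz Fa1 t : G) (hm : Fa * Fz = Fa1 * t) :
    Fa⁻¹ * Fa1 = Fz * t⁻¹ := by
  calc Fa⁻¹ * Fa1 = Fa⁻¹ * (Fa1 * t) * t⁻¹ := by group
    _ = Fa⁻¹ * (Fa * Fz) * t⁻¹ := by rw [hm]
    _ = Fz * t⁻¹ := by group

theorem ReplData.fiber_conv [B.Normal] (h : ReplData p A B b) {a a₁ : G} (ha : a ∈ A)
    (ha₁ : a₁ ∈ A) (hz : a⁻¹ * a₁ ∈ replI A b) :
    (a * b⁻¹ * a⁻¹ * b)⁻¹ * (a₁ * b⁻¹ * a₁⁻¹ * b) ∈ replI A b := by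
  have hzA : a⁻¹ * a₁ ∈ A := (mem_replI.mp hz).1
  have hm := h.gen_mul ha hzA
  have e1 : a * (a⁻¹ * a₁) = a₁ := by group
  rw [e1] at hm
  have hk := h.kappa_mem ha hzA
  have hfz := h.gen_mem_I hz
  rw [fiber_conv_aux _ _ _ _ hm]
  exact (replI A b).mul_mem hfz ((replI A b).inv_mem hk)

theorem ReplData.star_decomp [Fact p.Prime] [B.Normal] (h : ReplData p A B b) :
    ∀ y ∈ replI A b ⊔ replF A b, ∃ a ∈ A, ∃ z ∈ replI A b, y = (a * b⁻¹ * a⁻¹ * b) * z := by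
  have hIg : ∀ z ∈ replI A b, ∀ a ∈ A,
      z * (a * b⁻¹ * a⁻¹ * b) = (a * b⁻¹ * a⁻¹ * b) * z :=
    fun z hz a ha => h.gens_comm z (Set.mem_union_left _ hz) _
      (Set.mem_union_right _ ⟨a, ha, rfl⟩)
  intro y hy
  rw [star_eq_closure] at hy
  induction hy using Subgroup.closure_induction with
  | mem x hx =>
    rcases hx with hx | ⟨a, ha, rfl⟩
    · exact ⟨1, A.one_mem, x, hx, by group⟩
    · exact ⟨a, ha, 1, (replI A b).one_mem, by group⟩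
  | one => exact ⟨1, A.one_mem, 1, (replI A b).one_mem, by group⟩
  | mul x y hx hy px py =>
    obtain ⟨a, ha, z, hz, rfl⟩ := px
    obtain ⟨a', ha', z', hz', rfl⟩ := py
    refine ⟨a * a', A.mul_mem ha ha',
      ((b⁻¹ * a * b) * a'⁻¹ * (b⁻¹ * a * b)⁻¹ * a') * (z * z'),
      (replI A b).mul_mem (h.kappa_mem ha ha') ((replI A b).mul_mem hz hz'), ?_⟩
    calc (a * b⁻¹ * a⁻¹ * b) * z * ((a' * b⁻¹ * a'⁻¹ * b) * z')
        = (a * b⁻¹ * a⁻¹ * b) * (z * (a' * b⁻¹ * a'⁻¹ * b)) * z' := by simp only [mul_assoc]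
      _ = (a * b⁻¹ * a⁻¹ * b) * ((a' * b⁻¹ * a'⁻¹ * b) * z) * z' := by rw [hIg z hz a' ha']
      _ = ((a * b⁻¹ * a⁻¹ * b) * (a' * b⁻¹ * a'⁻¹ * b)) * (z * z') := by simp only [mul_assoc]
      _ = (((a * a') * b⁻¹ * (a * a')⁻¹ * b) *
            ((b⁻¹ * a * b) * a'⁻¹ * (b⁻¹ * a * b)⁻¹ * a')) * (z * z') := by
          rw [h.gen_mul ha ha']
      _ = ((a * a') * b⁻¹ * (a * a')⁻¹ * b) *
            (((b⁻¹ * a * b) * a'⁻¹ * (b⁻¹ * a * b)⁻¹ * a') * (z * z')) := by rw [mul_assoc]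
  | inv x hx px =>
    obtain ⟨a, ha, z, hz, rfl⟩ := px
    have hm := h.gen_mul ha (A.inv_mem ha)
    have hk := h.kappa_mem ha (A.inv_mem ha)
    refine ⟨a⁻¹, A.inv_mem ha, ((b⁻¹ * a * b) * a⁻¹⁻¹ * (b⁻¹ * a * b)⁻¹ * a⁻¹)⁻¹ * z⁻¹,
      (replI A b).mul_mem ((replI A b).inv_mem hk) ((replI A b).inv_mem hz), ?_⟩
    have e1 : (a * a⁻¹) * b⁻¹ * (a * a⁻¹)⁻¹ * b = 1 := by group
    rw [e1, one_mul] at hm
    have hc := hIg z⁻¹ ((replI A b).inv_mem hz) a ha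
    calc ((a * b⁻¹ * a⁻¹ * b) * z)⁻¹ = z⁻¹ * (a * b⁻¹ * a⁻¹ * b)⁻¹ := by rw [mul_inv_rev]
      _ = (a * b⁻¹ * a⁻¹ * b)⁻¹ * z⁻¹ :=
          (Commute.inv_right (show Commute z⁻¹ (a * b⁻¹ * a⁻¹ * b) from hc)).eq
      _ = (a⁻¹ * b⁻¹ * a⁻¹⁻¹ * b) *
            ((a * b⁻¹ * a⁻¹ * b) * (a⁻¹ * b⁻¹ * a⁻¹⁻¹ * b))⁻¹ * z⁻¹ := by group
      _ = (a⁻¹ * b⁻¹ * a⁻¹⁻¹ * b) *
            ((b⁻¹ * a * b) * a⁻¹⁻¹ * (b⁻¹ * a * b)⁻¹ * a⁻¹)⁻¹ * z⁻¹ := by rw [hm]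
      _ = (a⁻¹ * b⁻¹ * a⁻¹⁻¹ * b) *
            (((b⁻¹ * a * b) * a⁻¹⁻¹ * (b⁻¹ * a * b)⁻¹ * a⁻¹)⁻¹ * z⁻¹) := by rw [mul_assoc]

theorem ReplData.card_star_le [Fact p.Prime] [Finite G] [B.Normal] (h : ReplData p A B b) :
    Nat.card ↥(replI A b ⊔ replF A b) ≤ Nat.card A := by
  have hdec := h.star_decomp
  choose! g hgA zf hzI hyeq using hdec
  refine card_le_of_coset_inj (replI A b) (replI A b ⊔ replF A b) A le_sup_left
    (fun z hz => (mem_replI.mp hz).1) g hgA ?_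
  intro y hy y₁ hy₁ hz
  have h3 := h.fiber_conv (hgA y hy) (hgA y₁ hy₁) hz
  have e : y⁻¹ * y₁ = (zf y)⁻¹ * ((g y * b⁻¹ * (g y)⁻¹ * b)⁻¹ *
      (g y₁ * b⁻¹ * (g y₁)⁻¹ * b)) * zf y₁ := by
    calc y⁻¹ * y₁ = ((g y * b⁻¹ * (g y)⁻¹ * b) * zf y)⁻¹ *
          ((g y₁ * b⁻¹ * (g y₁)⁻¹ * b) * zf y₁) := by
          rw [← hyeq y hy, ← hyeq y₁ hy₁]
      _ = _ := by group
  rw [e]
  exact (replI A b).mul_mem ((replI A b).mul_mem ((replI A b).inv_mem (hzI y hy)) h3)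
    (hzI y₁ hy₁)

theorem ReplData.exponent_dvd [Fact p.Prime] [Finite G] [B.Normal] (h : ReplData p A B b)
    (hp2 : p ≠ 2) (hAp : IsPGroup p A) :
    Monoid.exponent ↥(replI A b ⊔ replF A b) ∣ Monoid.exponent ↥A := by
  have hp : p.Prime := Fact.out
  have hodd : Monoid.exponent ↥A = 0 ∨ Odd (Monoid.exponent ↥A) := by
    right
    obtain ⟨k, hk⟩ := (IsPGroup.iff_card).mp hAp
    have hd : Monoid.exponent ↥A ∣ p ^ k := by rw [← hk]; exact Group.exponent_dvd_nat_card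
    obtain ⟨j, -, hj⟩ := (Nat.dvd_prime_pow hp).mp hd
    rw [hj]; exact (hp.odd_of_ne_two hp2).pow
  have hAe : ∀ a ∈ A, a ^ Monoid.exponent ↥A = 1 := by
    intro a ha
    have h1 := congrArg Subtype.val (Monoid.pow_exponent_eq_one (⟨a, ha⟩ : ↥A))
    simpa using h1
  apply Monoid.exponent_dvd_of_forall_pow_eq_one
  intro y
  apply Subtype.ext
  rw [Subgroup.coe_pow]
  exact h.star_pow _ hodd hAe y y.2

theorem conj_mem_star (A : Subgroup G) (b c : G)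
    (hI : ∀ z ∈ replI A b, c * z * c⁻¹ ∈ replI A b ⊔ replF A b)
    (hF : ∀ a ∈ A, c * (a * b⁻¹ * a⁻¹ * b) * c⁻¹ ∈ replI A b ⊔ replF A b) :
    ∀ y ∈ replI A b ⊔ replF A b, c * y * c⁻¹ ∈ replI A b ⊔ replF A b := by
  have key : Subgroup.closure (((replI A b : Subgroup G) : Set G) ∪
      {g : G | ∃ a ∈ A, g = a * b⁻¹ * a⁻¹ * b})
      ≤ (replI A b ⊔ replF A b).comap (MulAut.conj c).toMonoidHom := by
    rw [Subgroup.closure_le]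
    rintro y (hy | ⟨a, ha, rfl⟩)
    · show c * y * c⁻¹ ∈ replI A b ⊔ replF A b
      exact hI y hy
    · show c * (a * b⁻¹ * a⁻¹ * b) * c⁻¹ ∈ replI A b ⊔ replF A b
      exact hF a ha
  intro y hy
  rw [star_eq_closure] at hy
  have h1 := key hy
  exact h1

theorem ReplData.le_normalizer_star [Fact p.Prime] [B.Normal] (h : ReplData p A B b) :
    A ≤ Subgroup.normalizer ((replI A b ⊔ replF A b : Subgroup G) : Set G) := by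
  apply le_normalizer_of_conj_mem
  intro a' ha'
  apply conj_mem_star
  · intro z hz
    have e : a' * z * a'⁻¹ = z := by
      have hc := h.i1 z hz a' ha'
      calc a' * z * a'⁻¹ = (z * a') * a'⁻¹ := by rw [hc]
        _ = z := by group
    rw [e]; exact Subgroup.mem_sup_left hz
  · intro a ha
    have hk := h.kappa_mem ha (A.inv_mem ha')
    have hc : a' * a = a * a' := h.comm a' ha' a ha
    have e : a' * (a * b⁻¹ * a⁻¹ * b) * a'⁻¹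
        = (a * b⁻¹ * a⁻¹ * b) * ((b⁻¹ * a * b) * a'⁻¹⁻¹ * (b⁻¹ * a * b)⁻¹ * a'⁻¹) := by
      calc a' * (a * b⁻¹ * a⁻¹ * b) * a'⁻¹ = (a' * a) * (b⁻¹ * a⁻¹ * b * a'⁻¹) := by group
        _ = (a * a') * (b⁻¹ * a⁻¹ * b * a'⁻¹) := by rw [hc]
        _ = _ := by group
    rw [e]
    exact Subgroup.mul_mem _ (Subgroup.mem_sup_right
      (show a * b⁻¹ * a⁻¹ * b ∈ replF A b from Subgroup.subset_closure ⟨a, ha, rfl⟩))
      (Subgroup.mem_sup_left hk)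

theorem ReplData.b_mem_normalizer_star [Fact p.Prime] [Finite G] [hBn : B.Normal]
    (h : ReplData p A B b) :
    b ∈ Subgroup.normalizer ((replI A b ⊔ replF A b : Subgroup G) : Set G) := by
  refine Subgroup.mem_normalizer_fintype (fun n hn => conj_mem_star A b b ?_ ?_ n hn)
  · intro z hz; exact Subgroup.mem_sup_left (h.conj_mem_I hz)
  · intro a ha
    have e : b * (a * b⁻¹ * a⁻¹ * b) * b⁻¹
        = (a * b⁻¹ * a⁻¹ * b) * ⁅(a * b⁻¹ * a⁻¹ * b)⁻¹, b⁆ := by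
      rw [commutatorElement_def]; group
    rw [e]
    exact Subgroup.mul_mem _ (Subgroup.mem_sup_right
      (show a * b⁻¹ * a⁻¹ * b ∈ replF A b from Subgroup.subset_closure ⟨a, ha, rfl⟩))
      (Subgroup.mem_sup_left (h.der_le (Subgroup.commutator_mem_commutator
        (B.inv_mem (h.gen_mem a)) h.mem)))

theorem ReplData.normalizer_le_normalizer_star [Fact p.Prime] [hBn : B.Normal]
    (h : ReplData p A B b)
    (hbN : ∀ n ∈ Subgroup.normalizer (A : Set G), b * n * b⁻¹ ∈ Subgroup.normalizer (A : Set G)) :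
    Subgroup.normalizer (A : Set G)
      ≤ Subgroup.normalizer ((replI A b ⊔ replF A b : Subgroup G) : Set G) := by
  apply le_normalizer_of_conj_mem
  intro n hn
  have hnI : ∀ z ∈ replI A b, n * z * n⁻¹ ∈ replI A b := by
    intro z hz
    obtain ⟨hzA, hzb⟩ := mem_replI.mp hz
    refine mem_replI.mpr ⟨(Subgroup.mem_normalizer_iff.mp hn z).mp hzA, ?_⟩
    have e : b * (n * z * n⁻¹) * b⁻¹ = (b * n * b⁻¹) * (b * z * b⁻¹) * (b * n * b⁻¹)⁻¹ := by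
      group
    rw [e]
    exact (Subgroup.mem_normalizer_iff.mp (hbN n hn) _).mp hzb
  apply conj_mem_star
  · intro z hz; exact Subgroup.mem_sup_left (hnI z hz)
  · intro a ha
    have hm := hbN n hn
    have hcN : n⁻¹ * (b * n * b⁻¹) ∈ Subgroup.normalizer (A : Set G) :=
      Subgroup.mul_mem _ (Subgroup.inv_mem _ hn) hm
    have hcB : n⁻¹ * (b * n * b⁻¹) ∈ B := by
      have e : n⁻¹ * (b * n * b⁻¹) = (n⁻¹ * b * n⁻¹⁻¹) * b⁻¹ := by group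
      rw [e]; exact B.mul_mem (hBn.conj_mem b h.mem n⁻¹) (B.inv_mem h.mem)
    have hwA : ⁅a, n⁻¹ * (b * n * b⁻¹)⁆ ∈ A := by
      have e : ⁅a, n⁻¹ * (b * n * b⁻¹)⁆
          = a * ((n⁻¹ * (b * n * b⁻¹)) * a⁻¹ * (n⁻¹ * (b * n * b⁻¹))⁻¹) := by
        rw [commutatorElement_def]; group
      rw [e]
      exact A.mul_mem ha ((Subgroup.mem_normalizer_iff.mp hcN a⁻¹).mp (A.inv_mem ha))
    have hwB : ⁅a, n⁻¹ * (b * n * b⁻¹)⁆ ∈ B := by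
      have e : ⁅a, n⁻¹ * (b * n * b⁻¹)⁆
          = (a * (n⁻¹ * (b * n * b⁻¹)) * a⁻¹) * (n⁻¹ * (b * n * b⁻¹))⁻¹ := by
        rw [commutatorElement_def]
      rw [e]
      exact B.mul_mem (hBn.conj_mem _ hcB a) (B.inv_mem hcB)
    have hwI : ⁅a, n⁻¹ * (b * n * b⁻¹)⁆ ∈ replI A b :=
      h.inf_le (Subgroup.mem_inf.mpr ⟨hwA, hwB⟩)
    have ha₂ : (b * n * b⁻¹) * a * (b * n * b⁻¹)⁻¹ ∈ A :=
      (Subgroup.mem_normalizer_iff.mp hm a).mp ha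
    have e : n * (a * b⁻¹ * a⁻¹ * b) * n⁻¹
        = (n * ⁅a, n⁻¹ * (b * n * b⁻¹)⁆ * n⁻¹) *
          (((b * n * b⁻¹) * a * (b * n * b⁻¹)⁻¹) * b⁻¹ *
            ((b * n * b⁻¹) * a * (b * n * b⁻¹)⁻¹)⁻¹ * b) := by
      rw [commutatorElement_def]; group
    rw [e]
    exact Subgroup.mul_mem _ (Subgroup.mem_sup_left (hnI _ hwI))
      (Subgroup.mem_sup_right (show _ ∈ replF A b from Subgroup.subset_closure ⟨_, ha₂, rfl⟩))

end Repl2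

end Cfsg.Agent.Helper1
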