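import Mathlib
import Cfsg.Agent.Helper1.Basic
import Cfsg.Agent.Helper1.Basic3
import Cfsg.Agent.Helper1.SZ
import Cfsg.Agent.Helper1.Coprime
import Cfsg.Agent.Helper1.Coprime2
import Cfsg.Agent.Helper20.Wielandt

set_option autoImplicit false

namespace Cfsg.Agent.Helper1

open Pointwise

universe u

theorem normalizer_sup_mem {G : Type*} [Group G] {H K : Subgroup G} {x : G}
    (hH : x ∈ Subgroup.normalizer (H : Set G)) (hK : x ∈ Subgroup.normalizer (K : Set G)) :
    x ∈ Subgroup.normalizer ((H ⊔ K : Subgroup G) : Set G) := by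
  rw [mem_normalizer_iff_conj_smul] at hH hK ⊢
  rw [Subgroup.smul_sup, hH, hK]

/-- The join of two subnormal subgroups of a finite group is subnormal. -/
theorem sup_isSubnormal_aux (n : ℕ) : ∀ (G : Type u) [Group G] [Finite G], Nat.card G = n →
    ∀ H K : Subgroup G, H.IsSubnormal → K.IsSubnormal → (H ⊔ K).IsSubnormal := by
  induction n using Nat.strong_induction_on with
  | _ n ih =>
  intro G _ _ hn H K hH hK
  by_cases htriv : (⊤ : Subgroup G) = ⊥
  · have h1 : H ⊔ K = ⊤ := by
      rw [htriv, eq_bot_iff, ← htriv]; exact le_top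
    rw [h1]; exact Subgroup.IsSubnormal.top
  · obtain ⟨M, -, hMn, hMne, hMmin⟩ :=
      Cfsg.Agent.Helper20.exists_minNormal_le (⊤ : Subgroup G) inferInstance htriv
    haveI := hMn
    have hlt : Nat.card (G ⧸ M) < n := hn ▸ card_quotient_lt_of_ne_bot M hMne
    have h1 := ih _ hlt (G ⧸ M) rfl _ _ (hH.map (QuotientGroup.mk'_surjective M))
      (hK.map (QuotientGroup.mk'_surjective M))
    have h2 := h1.comap (QuotientGroup.mk' M)
    rw [← Subgroup.map_sup, Subgroup.comap_map_eq, QuotientGroup.ker_mk'] at h2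
    have hMH := Cfsg.Agent.Helper20.minNormal_le_normalizer_subnormal M hMn hMne hMmin H hH
    have hMK := Cfsg.Agent.Helper20.minNormal_le_normalizer_subnormal M hMn hMne hMmin K hK
    have hnorm : (H ⊔ K) ⊔ M ≤ Subgroup.normalizer ((H ⊔ K : Subgroup G) : Set G) := by
      refine sup_le Subgroup.le_normalizer ?_
      intro x hx
      exact normalizer_sup_mem (hMH hx) (hMK hx)
    exact Subgroup.IsSubnormal.step _ _ le_sup_left h2
      ((Subgroup.normal_subgroupOf_iff_le_normalizer le_sup_left).mpr hnorm)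

theorem sup_isSubnormal {G : Type u} [Group G] [Finite G] (H K : Subgroup G)
    (hH : H.IsSubnormal) (hK : K.IsSubnormal) : (H ⊔ K).IsSubnormal :=
  sup_isSubnormal_aux _ G rfl H K hH hK

/-- A subnormal, non-normal subgroup has a conjugate different from it that normalises it. -/
theorem exists_conj_ne_le_normalizer_aux (n : ℕ) : ∀ (K : Type u) [Group K] [Finite K],
    Nat.card K = n → ∀ S : Subgroup K, S.IsSubnormal → ¬ S.Normal →
    ∃ x : K, MulAut.conj x • S ≠ S ∧ MulAut.conj x • S ≤ Subgroup.normalizer (S : Set K) := by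
  induction n using Nat.strong_induction_on with
  | _ n ih =>
  intro K _ _ hn S hS hSn
  have hStop : S ≠ ⊤ := by
    rintro rfl; exact hSn inferInstance
  obtain ⟨N, hNn, hSN, hNlt⟩ := hS.exists_normal_and_le_and_lt_top_of_ne hStop
  by_cases hS'n : (S.subgroupOf N).Normal
  · have hNle : N ≤ Subgroup.normalizer (S : Set K) :=
      (Subgroup.normal_subgroupOf_iff_le_normalizer hSN).mp hS'n
    have hex : ∃ x : K, MulAut.conj x • S ≠ S := by
      by_contra hcon
      push_neg at hcon
      exact hSn (Subgroup.Normal.of_conjugate_fixed hcon)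
    obtain ⟨x, hx⟩ := hex
    refine ⟨x, hx, ?_⟩
    have h1 : MulAut.conj x • S ≤ MulAut.conj x • N := conj_smul_mono x hSN
    have h2 : MulAut.conj x • N = N := by
      haveI := hNn
      exact Subgroup.Normal.conj_smul_eq_self x N
    rw [h2] at h1
    exact h1.trans hNle
  · have hlt : Nat.card N < n := by
      rw [← hn]
      exact lt_of_le_of_ne (Subgroup.card_le_card_group N)
        (fun e => hNlt.ne (Subgroup.eq_top_of_card_eq N e))
    obtain ⟨y, hy1, hy2⟩ := ih _ hlt N rfl (S.subgroupOf N) hS.subgroupOf hS'n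
    have h3 : MulAut.conj (y : K) • S = (MulAut.conj y • S.subgroupOf N).map N.subtype := by
      rw [map_subtype_conj_smul, Subgroup.map_subgroupOf_eq_of_le hSN]
    refine ⟨(y : K), ?_, ?_⟩
    · intro heq
      apply hy1
      apply Subgroup.map_injective N.subtype_injective
      rw [← h3, Subgroup.map_subgroupOf_eq_of_le hSN, heq]
    · rw [h3]
      rintro g ⟨g', hg', rfl⟩
      have h4 := map_subtype_mem_normalizer N (S.subgroupOf N) g' (hy2 hg')
      rwa [Subgroup.map_subgroupOf_eq_of_le hSN] at h4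

theorem exists_conj_ne_le_normalizer {K : Type u} [Group K] [Finite K] (S : Subgroup K)
    (hS : S.IsSubnormal) (hSn : ¬ S.Normal) :
    ∃ x : K, MulAut.conj x • S ≠ S ∧ MulAut.conj x • S ≤ Subgroup.normalizer (S : Set K) :=
  exists_conj_ne_le_normalizer_aux _ K rfl S hS hSn

/-- Relative subnormality is preserved by conjugation. -/
theorem subnormal_conj {G : Type*} [Group G] (x : G) {S H : Subgroup G}
    (h : (S.subgroupOf H).IsSubnormal) :
    ((MulAut.conj x • S).subgroupOf (MulAut.conj x • H)).IsSubnormal := by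
  have hmem : ∀ g : (MulAut.conj x • H : Subgroup G),
      ((MulAut.conj x⁻¹).toMonoidHom.comp (Subgroup.subtype _)) g ∈ H := by
    intro g
    have h1 := mem_conj_smul.mp g.2
    show x⁻¹ * (g : G) * x⁻¹⁻¹ ∈ H
    rw [inv_inv]; exact h1
  have h2 := h.comap (((MulAut.conj x⁻¹).toMonoidHom.comp (Subgroup.subtype _)).codRestrict H hmem)
  have e : Subgroup.comap
      (((MulAut.conj x⁻¹).toMonoidHom.comp (Subgroup.subtype _)).codRestrict H hmem)
      (S.subgroupOf H) = (MulAut.conj x • S).subgroupOf (MulAut.conj x • H) := by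
    ext g
    rw [Subgroup.mem_comap, Subgroup.mem_subgroupOf, Subgroup.mem_subgroupOf, mem_conj_smul]
    show x⁻¹ * (g : G) * x⁻¹⁻¹ ∈ S ↔ x⁻¹ * (g : G) * x ∈ S
    rw [inv_inv]
  rw [e] at h2
  exact h2

theorem subnormal_subgroupOf_subgroupOf {G : Type*} [Group G] {X Y H : Subgroup G} (hYH : Y ≤ H)
    (h : (X.subgroupOf Y).IsSubnormal) :
    ((X.subgroupOf H).subgroupOf (Y.subgroupOf H)).IsSubnormal := by
  have h2 := h.comap (Subgroup.subgroupOfEquivOfLe hYH).toMonoidHom
  have e : Subgroup.comap (Subgroup.subgroupOfEquivOfLe hYH).toMonoidHom (X.subgroupOf Y)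
      = (X.subgroupOf H).subgroupOf (Y.subgroupOf H) := Subgroup.ext fun z => Iff.rfl
  rw [e] at h2
  exact h2

/-- Wielandt's zipper lemma. -/
theorem zipper {G : Type u} [Group G] [Finite G] (S : Subgroup G) :
    (∀ H : Subgroup G, S ≤ H → H ≠ ⊤ → (S.subgroupOf H).IsSubnormal) →
    ¬ S.IsSubnormal →
    ∃ M : Subgroup G, IsCoatom M ∧ S ≤ M ∧
      ∀ M' : Subgroup G, IsCoatom M' → S ≤ M' → M' = M := by
  refine WellFoundedGT.induction (motive := fun S : Subgroup G =>
    (∀ H : Subgroup G, S ≤ H → H ≠ ⊤ → (S.subgroupOf H).IsSubnormal) →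
    ¬ S.IsSubnormal →
    ∃ M : Subgroup G, IsCoatom M ∧ S ≤ M ∧
      ∀ M' : Subgroup G, IsCoatom M' → S ≤ M' → M' = M) S ?_
  intro S ih hyp hns
  have hNtop : Subgroup.normalizer (S : Set G) ≠ ⊤ := by
    intro h
    exact hns (Subgroup.Normal.isSubnormal (Subgroup.normalizer_eq_top_iff.mp h))
  obtain ⟨M, hM, hNM⟩ :=
    (eq_top_or_exists_le_coatom (Subgroup.normalizer (S : Set G))).resolve_left hNtop
  have hSM : S ≤ M := Subgroup.le_normalizer.trans hNM
  refine ⟨M, hM, hSM, ?_⟩
  intro K hK hSK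
  have hsubK := hyp K hSK hK.1
  by_cases hnK : (S.subgroupOf K).Normal
  · have h1 : K ≤ Subgroup.normalizer (S : Set G) :=
      (Subgroup.normal_subgroupOf_iff_le_normalizer hSK).mp hnK
    exact ((hK.le_iff_eq hM.1).mp (h1.trans hNM)).symm
  · obtain ⟨y, hy1, hy2⟩ := exists_conj_ne_le_normalizer (S.subgroupOf K) hsubK hnK
    have h3 : MulAut.conj (y : G) • S = (MulAut.conj y • S.subgroupOf K).map K.subtype := by
      rw [map_subtype_conj_smul, Subgroup.map_subgroupOf_eq_of_le hSK]
    have hx1 : MulAut.conj (y : G) • S ≠ S := by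
      intro heq
      apply hy1
      apply Subgroup.map_injective K.subtype_injective
      rw [← h3, Subgroup.map_subgroupOf_eq_of_le hSK, heq]
    have hx2 : MulAut.conj (y : G) • S ≤ Subgroup.normalizer (S : Set G) := by
      rw [h3]
      rintro g ⟨g', hg', rfl⟩
      have h4 := map_subtype_mem_normalizer K (S.subgroupOf K) g' (hy2 hg')
      rwa [Subgroup.map_subgroupOf_eq_of_le hSK] at h4
    have hx3 : MulAut.conj (y : G) • S ≤ K := by
      intro g hg
      rw [mem_conj_smul] at hg
      have e : g = (y : G) * ((y : G)⁻¹ * g * y) * (y : G)⁻¹ := by group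
      rw [e]
      exact K.mul_mem (K.mul_mem y.2 (hSK hg)) (K.inv_mem y.2)
    obtain ⟨T, hT⟩ : ∃ T : Subgroup G, T = S ⊔ MulAut.conj (y : G) • S := ⟨_, rfl⟩
    have hS_T : S ≤ T := by rw [hT]; exact le_sup_left
    have hx_T : MulAut.conj (y : G) • S ≤ T := by rw [hT]; exact le_sup_right
    have hST : S < T := by
      refine lt_of_le_of_ne hS_T ?_
      intro heq
      apply hx1
      have hle : MulAut.conj (y : G) • S ≤ S := hx_T.trans (le_of_eq heq.symm)
      exact Subgroup.eq_of_le_of_card_ge hle (le_of_eq (card_conj_smul S (y : G)).symm)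
    have hTN : T ≤ Subgroup.normalizer (S : Set G) := by
      rw [hT]; exact sup_le Subgroup.le_normalizer hx2
    have hTK : T ≤ K := by rw [hT]; exact sup_le hSK hx3
    have hTM : T ≤ M := hTN.trans hNM
    have hypT : ∀ H : Subgroup G, T ≤ H → H ≠ ⊤ → (T.subgroupOf H).IsSubnormal := by
      intro H hTH hH
      have hSH : S ≤ H := hS_T.trans hTH
      have hxH : MulAut.conj (y : G) • S ≤ H := hx_T.trans hTH
      have h1 := hyp H hSH hH
      have hH' : MulAut.conj (y : G)⁻¹ • H ≠ ⊤ := by
        intro h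
        apply hH
        have h5 : MulAut.conj (y : G) • MulAut.conj (y : G)⁻¹ • H
            = MulAut.conj (y : G) • (⊤ : Subgroup G) := by rw [h]
        rwa [conj_smul_smul_inv, conj_smul_top] at h5
      have hSH' : S ≤ MulAut.conj (y : G)⁻¹ • H := by
        have h6 := conj_smul_mono (y : G)⁻¹ hxH
        rwa [conj_smul_inv_smul] at h6
      have h2 := hyp _ hSH' hH'
      have h7 := subnormal_conj (y : G) h2
      rw [conj_smul_smul_inv] at h7
      have h4 := sup_isSubnormal _ _ h1 h7
      rw [← Subgroup.subgroupOf_sup hSH hxH] at h4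
      rw [hT]; exact h4
    have hnsT : ¬ T.IsSubnormal := by
      intro hTs
      apply hns
      exact Subgroup.IsSubnormal.step S T hST.le hTs
        ((Subgroup.normal_subgroupOf_iff_le_normalizer hST.le).mpr hTN)
    obtain ⟨M₀, hM₀, hTM₀, huniq⟩ := ih T hST hypT hnsT
    rw [huniq K hK hTK, huniq M hM hTM]

/-- Wielandt's subnormality criterion. -/
theorem subnormal_of_join_aux (n : ℕ) : ∀ (G : Type u) [Group G] [Finite G], Nat.card G = n →
    ∀ A : Subgroup G, (∀ g : G, (A.subgroupOf (A ⊔ MulAut.conj g • A)).IsSubnormal) →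
    A.IsSubnormal := by
  induction n using Nat.strong_induction_on with
  | _ n ih =>
  intro G _ _ hn A h
  by_contra hns
  have hyp : ∀ H : Subgroup G, A ≤ H → H ≠ ⊤ → (A.subgroupOf H).IsSubnormal := by
    intro H hAH hH
    have hlt : Nat.card H < n := by
      rw [← hn]
      exact lt_of_le_of_ne (Subgroup.card_le_card_group H)
        (fun e => hH (Subgroup.eq_top_of_card_eq H e))
    refine ih _ hlt H rfl (A.subgroupOf H) ?_
    intro g
    have hgA : MulAut.conj (g : G) • A ≤ H := by
      intro z hz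
      rw [mem_conj_smul] at hz
      have e : z = (g : G) * ((g : G)⁻¹ * z * g) * (g : G)⁻¹ := by group
      rw [e]
      exact H.mul_mem (H.mul_mem g.2 (hAH hz)) (H.inv_mem g.2)
    have e1 : MulAut.conj g • A.subgroupOf H = (MulAut.conj (g : G) • A).subgroupOf H := by
      ext z
      rw [mem_conj_smul, Subgroup.mem_subgroupOf, Subgroup.mem_subgroupOf, mem_conj_smul]
      rfl
    rw [e1, ← Subgroup.subgroupOf_sup hAH hgA]
    exact subnormal_subgroupOf_subgroupOf (sup_le hAH hgA) (h g)
  obtain ⟨M, hM, hAM, huniq⟩ := zipper A hyp hns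
  have hall : ∀ g : G, MulAut.conj g • A ≤ M := by
    intro g
    have hne : A ⊔ MulAut.conj g • A ≠ ⊤ := by
      intro htop
      apply hns
      have h1 := h g
      have h2 : (A ⊔ MulAut.conj g • A).IsSubnormal := by
        rw [htop]; exact Subgroup.IsSubnormal.top
      exact Subgroup.IsSubnormal.trans le_sup_left h1 h2
    obtain ⟨M', hM', hle⟩ := (eq_top_or_exists_le_coatom _).resolve_left hne
    rw [← huniq M' hM' (le_sup_left.trans hle)]
    exact le_sup_right.trans hle
  have hNC : Subgroup.normalClosure (A : Set G) ≤ M := by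
    show Subgroup.closure (Group.conjugatesOfSet (A : Set G)) ≤ M
    rw [Subgroup.closure_le]
    intro c hc
    rw [Group.mem_conjugatesOfSet_iff] at hc
    obtain ⟨a, ha, hconj⟩ := hc
    obtain ⟨g, rfl⟩ := isConj_iff.mp hconj
    exact hall g (conj_mem_conj_smul ha)
  have hNCtop : Subgroup.normalClosure (A : Set G) ≠ ⊤ := by
    intro e
    rw [e] at hNC
    exact hM.1 (top_le_iff.mp hNC)
  have h1 := hyp _ Subgroup.le_normalClosure hNCtop
  exact hns (Subgroup.IsSubnormal.trans Subgroup.le_normalClosure h1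
    (Subgroup.Normal.isSubnormal Subgroup.normalClosure_normal))

theorem subnormal_of_join {G : Type u} [Group G] [Finite G] (A : Subgroup G)
    (h : ∀ g : G, (A.subgroupOf (A ⊔ MulAut.conj g • A)).IsSubnormal) : A.IsSubnormal :=
  subnormal_of_join_aux _ G rfl A h

end Cfsg.Agent.Helper1
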