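import Mathlib
import Cfsg.Agent.Helper1.Repl
import Cfsg.Agent.Helper1.PStab
import Cfsg.Agent.Helper12.Goldschmidt
import Cfsg.Prelude.Def_PLocal

set_option autoImplicit false

namespace Cfsg.Agent.Helper1

open scoped commutatorElement

section ZJ

variable {G : Type*} [Group G]

/-- The subgroup generated by the `e`-abelian subgroups of `D` of largest order. -/
def JE (e : ℕ) (D : Subgroup G) : Subgroup G := sSup (maxE e D)

/-- The subgroup generated by the elements of `Z(J_e(D))` killed by `e`. -/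
def ZE (e : ℕ) (D : Subgroup G) : Subgroup G :=
  Subgroup.closure {x : G | x ∈ JE e D ∧ (∀ y ∈ JE e D, y * x = x * y) ∧ x ^ e = 1}

theorem isEAb_bot (e : ℕ) : IsEAb e (⊥ : Subgroup G) := by
  refine ⟨fun x hx y hy => ?_, fun a ha => ?_⟩
  · rw [Subgroup.mem_bot] at hx hy; rw [hx, hy]
  · rw [Subgroup.mem_bot] at ha; rw [ha, one_pow]

theorem maxE_nonempty [Finite G] (e : ℕ) (D : Subgroup G) : ∃ A, A ∈ maxE e D := by
  obtain ⟨A, hA, hmax⟩ := Set.exists_max_image {A : Subgroup G | A ≤ D ∧ IsEAb e A}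
    (fun A => Nat.card A) (Set.toFinite _) ⟨⊥, bot_le, isEAb_bot e⟩
  exact ⟨A, hA.1, hA.2, fun B hB hBe => hmax B ⟨hB, hBe⟩⟩

theorem JE_le (e : ℕ) (D : Subgroup G) : JE e D ≤ D := sSup_le (fun A hA => hA.1)

theorem le_JE {e : ℕ} {D A : Subgroup G} (hA : A ∈ maxE e D) : A ≤ JE e D := le_sSup hA

theorem isEAb_sup_zpowers {e : ℕ} {A : Subgroup G} (hA : IsEAb e A) (x : G)
    (hx : ∀ a ∈ A, a * x = x * a) (hxe : x ^ e = 1) : IsEAb e (A ⊔ Subgroup.zpowers x) := by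
  have hS : A ⊔ Subgroup.zpowers x = Subgroup.closure ((A : Set G) ∪ {x}) := by
    rw [Subgroup.closure_union, Subgroup.closure_eq, Subgroup.zpowers_eq_closure]
  have hc : ∀ s ∈ (A : Set G) ∪ {x}, ∀ t ∈ (A : Set G) ∪ {x}, s * t = t * s := by
    rintro s (hs | hs) t (ht | ht)
    · exact hA.1 s hs t ht
    · rw [Set.mem_singleton_iff] at ht; rw [ht]; exact hx s hs
    · rw [Set.mem_singleton_iff] at hs; rw [hs]; exact (hx t ht).symm
    · rw [Set.mem_singleton_iff] at hs ht; rw [hs, ht]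
  rw [hS]
  refine ⟨closure_comm _ hc, closure_pow _ hc e ?_⟩
  rintro s (hs | hs)
  · exact hA.2 s hs
  · rw [Set.mem_singleton_iff] at hs; rw [hs]; exact hxe

theorem ZE_le_of_mem [Finite G] {e : ℕ} {D A : Subgroup G} (hA : A ∈ maxE e D) :
    ZE e D ≤ A := by
  unfold ZE
  rw [Subgroup.closure_le]
  rintro x ⟨hxJ, hxc, hxe⟩
  have h1 : IsEAb e (A ⊔ Subgroup.zpowers x) :=
    isEAb_sup_zpowers hA.2.1 x (fun a ha => hxc a (le_JE hA ha)) hxe
  have h2 : A ⊔ Subgroup.zpowers x ≤ D :=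
    sup_le hA.1 (by rw [Subgroup.zpowers_le]; exact JE_le e D hxJ)
  have h3 := hA.2.2 _ h2 h1
  have h4 : A = A ⊔ Subgroup.zpowers x := Subgroup.eq_of_le_of_card_ge le_sup_left h3
  show x ∈ A
  rw [h4]
  exact Subgroup.mem_sup_right (Subgroup.mem_zpowers x)

theorem ZE_le_JE (e : ℕ) (D : Subgroup G) : ZE e D ≤ JE e D := by
  unfold ZE
  rw [Subgroup.closure_le]
  exact fun x hx => hx.1

theorem ZE_comm (e : ℕ) (D : Subgroup G) : ∀ x ∈ ZE e D, ∀ y ∈ ZE e D, x * y = y * x := by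
  unfold ZE
  apply closure_comm
  rintro x ⟨hxJ, -, -⟩ y ⟨-, hyc, -⟩
  exact hyc x hxJ

theorem ZE_pow (e : ℕ) (D : Subgroup G) : ∀ x ∈ ZE e D, x ^ e = 1 := by
  have hc : ∀ x ∈ {x : G | x ∈ JE e D ∧ (∀ y ∈ JE e D, y * x = x * y) ∧ x ^ e = 1},
      ∀ y ∈ {x : G | x ∈ JE e D ∧ (∀ y ∈ JE e D, y * x = x * y) ∧ x ^ e = 1}, x * y = y * x := by
    rintro x ⟨hxJ, -, -⟩ y ⟨-, hyc, -⟩
    exact hyc x hxJ
  unfold ZE
  exact closure_pow _ hc e (fun x hx => hx.2.2)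

theorem isEAb_map {G' : Type*} [Group G'] {e : ℕ} (φ : G →* G') {A : Subgroup G}
    (hA : IsEAb e A) : IsEAb e (A.map φ) := by
  refine ⟨?_, ?_⟩
  · rintro _ ⟨a, ha, rfl⟩ _ ⟨b, hb, rfl⟩
    rw [← map_mul, ← map_mul, hA.1 a ha b hb]
  · rintro _ ⟨a, ha, rfl⟩
    rw [← map_pow, hA.2 a ha, map_one]

theorem map_symm_map {G' : Type*} [Group G'] (φ : G ≃* G') (H : Subgroup G) :
    (H.map φ.toMonoidHom).map φ.symm.toMonoidHom = H := by
  rw [Subgroup.map_map]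
  have h : φ.symm.toMonoidHom.comp φ.toMonoidHom = MonoidHom.id G := by ext x; simp
  rw [h, Subgroup.map_id]

theorem map_map_symm {G' : Type*} [Group G'] (φ : G ≃* G') (H : Subgroup G') :
    (H.map φ.symm.toMonoidHom).map φ.toMonoidHom = H := by
  rw [Subgroup.map_map]
  have h : φ.toMonoidHom.comp φ.symm.toMonoidHom = MonoidHom.id G' := by ext x; simp
  rw [h, Subgroup.map_id]

theorem maxE_map {G' : Type*} [Group G'] {e : ℕ} (φ : G ≃* G') {D A : Subgroup G}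
    (hA : A ∈ maxE e D) : A.map φ.toMonoidHom ∈ maxE e (D.map φ.toMonoidHom) := by
  refine ⟨Subgroup.map_mono hA.1, isEAb_map _ hA.2.1, fun B' hB' hB'e => ?_⟩
  have h1 : B'.map φ.symm.toMonoidHom ≤ D := by
    have h0 := Subgroup.map_mono (f := φ.symm.toMonoidHom) hB'
    rwa [map_symm_map] at h0
  have h2 := hA.2.2 _ h1 (isEAb_map _ hB'e)
  rw [Subgroup.card_map_of_injective φ.symm.injective] at h2
  rw [Subgroup.card_map_of_injective φ.injective]
  exact h2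

theorem JE_map_le {G' : Type*} [Group G'] (e : ℕ) (φ : G ≃* G') (D : Subgroup G) :
    (JE e D).map φ.toMonoidHom ≤ JE e (D.map φ.toMonoidHom) := by
  rw [Subgroup.map_le_iff_le_comap]
  unfold JE
  apply sSup_le
  intro A hA
  rw [← Subgroup.map_le_iff_le_comap]
  exact le_sSup (maxE_map φ hA)

theorem JE_map {G' : Type*} [Group G'] (e : ℕ) (φ : G ≃* G') (D : Subgroup G) :
    (JE e D).map φ.toMonoidHom = JE e (D.map φ.toMonoidHom) := by
  apply le_antisymm (JE_map_le e φ D)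
  have h1 := JE_map_le e φ.symm (D.map φ.toMonoidHom)
  rw [map_symm_map] at h1
  have h2 := Subgroup.map_mono (f := φ.toMonoidHom) h1
  rwa [map_map_symm] at h2

theorem ZE_map_le {G' : Type*} [Group G'] (e : ℕ) (φ : G ≃* G') (D : Subgroup G) :
    (ZE e D).map φ.toMonoidHom ≤ ZE e (D.map φ.toMonoidHom) := by
  rw [Subgroup.map_le_iff_le_comap]
  have hJ := JE_map e φ D
  have key : Subgroup.closure {x : G | x ∈ JE e D ∧ (∀ y ∈ JE e D, y * x = x * y) ∧ x ^ e = 1}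
      ≤ (ZE e (D.map φ.toMonoidHom)).comap φ.toMonoidHom := by
    rw [Subgroup.closure_le]
    rintro x ⟨hxJ, hxc, hxe⟩
    show φ.toMonoidHom x ∈ Subgroup.closure {x : G' | x ∈ JE e (D.map φ.toMonoidHom) ∧
      (∀ y ∈ JE e (D.map φ.toMonoidHom), y * x = x * y) ∧ x ^ e = 1}
    apply Subgroup.subset_closure
    refine ⟨?_, ?_, ?_⟩
    · rw [← hJ]; exact Subgroup.mem_map_of_mem _ hxJ
    · intro y hy
      rw [← hJ] at hy
      obtain ⟨y', hy', rfl⟩ := hy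
      rw [← map_mul, ← map_mul, hxc y' hy']
    · rw [← map_pow, hxe, map_one]
  exact key

theorem ZE_map {G' : Type*} [Group G'] (e : ℕ) (φ : G ≃* G') (D : Subgroup G) :
    (ZE e D).map φ.toMonoidHom = ZE e (D.map φ.toMonoidHom) := by
  apply le_antisymm (ZE_map_le e φ D)
  have h1 := ZE_map_le e φ.symm (D.map φ.toMonoidHom)
  rw [map_symm_map] at h1
  have h2 := Subgroup.map_mono (f := φ.toMonoidHom) h1
  rwa [map_map_symm] at h2

theorem normalizer_le_normalizer_ZE (e : ℕ) (D : Subgroup G) :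
    Subgroup.normalizer (D : Set G) ≤ Subgroup.normalizer ((ZE e D : Subgroup G) : Set G) := by
  intro g hg
  rw [mem_normalizer_iff_conj_smul, conj_smul_eq_map] at hg ⊢
  rw [ZE_map, hg]

theorem maxE_sub_iff {e : ℕ} {D D₁ A₀ : Subgroup G} (hD₁ : D₁ ≤ D) (hA₀ : A₀ ∈ maxE e D)
    (hA₀D₁ : A₀ ≤ D₁) (A : Subgroup G) : A ∈ maxE e D₁ ↔ A ∈ maxE e D ∧ A ≤ D₁ := by
  constructor
  · intro hA
    refine ⟨⟨hA.1.trans hD₁, hA.2.1, fun B hB hBe => ?_⟩, hA.1⟩
    exact (hA₀.2.2 B hB hBe).trans (hA.2.2 A₀ hA₀D₁ hA₀.2.1)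
  · rintro ⟨hA, hAD₁⟩
    exact ⟨hAD₁, hA.2.1, fun B hB hBe => hA.2.2 B (hB.trans hD₁) hBe⟩

theorem ZE_le_ZE_of [Finite G] {e : ℕ} {D D₁ A₀ : Subgroup G} (hD₁ : D₁ ≤ D)
    (hA₀ : A₀ ∈ maxE e D) (hA₀D₁ : A₀ ≤ D₁) : ZE e D ≤ ZE e D₁ := by
  have hA₀' : A₀ ∈ maxE e D₁ := (maxE_sub_iff hD₁ hA₀ hA₀D₁ A₀).mpr ⟨hA₀, hA₀D₁⟩
  have hJ : JE e D₁ ≤ JE e D := by
    unfold JE
    exact sSup_le_sSup (fun A hA => ((maxE_sub_iff hD₁ hA₀ hA₀D₁ A).mp hA).1)
  have hZ := ZE_le_of_mem hA₀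
  have key : Subgroup.closure {x : G | x ∈ JE e D ∧ (∀ y ∈ JE e D, y * x = x * y) ∧ x ^ e = 1}
      ≤ ZE e D₁ := by
    rw [Subgroup.closure_le]
    rintro y ⟨hyJ, hyc, hye⟩
    have hy : y ∈ ZE e D := Subgroup.subset_closure ⟨hyJ, hyc, hye⟩
    show y ∈ Subgroup.closure {x : G | x ∈ JE e D₁ ∧ (∀ y ∈ JE e D₁, y * x = x * y) ∧ x ^ e = 1}
    exact Subgroup.subset_closure ⟨le_JE hA₀' (hZ hy), fun z hz => hyc z (hJ hz), hye⟩
  exact key

theorem ZE_eq_of_maxE_eq {e : ℕ} {D D₁ : Subgroup G} (h : maxE e D₁ = maxE e D) :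
    ZE e D₁ = ZE e D := by
  have hJ : JE e D₁ = JE e D := by unfold JE; rw [h]
  unfold ZE; rw [hJ]

theorem quad_of_normalizes (V X : Subgroup G)
    (hX : ∀ x ∈ X, ∀ y ∈ X, x * y = y * x) (hVX : V ≤ Subgroup.normalizer (X : Set G))
    (x : G) (hx : x ∈ X) :
    ⁅⁅V, Subgroup.zpowers x⁆, Subgroup.zpowers x⁆ = ⊥ := by
  rw [Subgroup.commutator_eq_bot_iff_le_centralizer]
  have hzX : Subgroup.zpowers x ≤ X := by rw [Subgroup.zpowers_le]; exact hx
  refine le_trans ?_ (?_ : X ≤ Subgroup.centralizer ((Subgroup.zpowers x : Subgroup G) : Set G))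
  · rw [Subgroup.commutator_le]
    intro v hv z hz
    rw [commutatorElement_def]
    exact X.mul_mem ((Subgroup.mem_normalizer_iff.mp (hVX hv) z).mp (hzX hz)) (X.inv_mem (hzX hz))
  · intro y hy
    rw [Subgroup.mem_centralizer_iff]
    intro h hh
    exact hX h (hzX hh) y hy

theorem comap_pcore_le {p : ℕ} [Fact p.Prime] [Finite G] (C : Subgroup G) [C.Normal]
    (hC : IsPGroup p C) :
    (Cfsg.pCore p (G ⧸ C)).comap (QuotientGroup.mk' C) ≤ Cfsg.pCore p G := by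
  apply Helper9.le_pCore inferInstance
  rintro ⟨t, ht⟩
  have h1 : QuotientGroup.mk' C t ∈ Cfsg.pCore p (G ⧸ C) := ht
  obtain ⟨k, hk⟩ := Helper9.pCore_isPGroup (G := G ⧸ C) p ⟨_, h1⟩
  have hk' : (QuotientGroup.mk' C t) ^ (p ^ k) = 1 := by
    have h0 := congrArg Subtype.val hk
    simpa using h0
  have h2 : t ^ (p ^ k) ∈ C := by
    apply mk'_eq_one_iff'.mp
    rw [map_pow]; exact hk'
  obtain ⟨j, hj⟩ := hC ⟨_, h2⟩
  have hj' : (t ^ (p ^ k)) ^ (p ^ j) = 1 := by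
    have h0 := congrArg Subtype.val hj
    simpa using h0
  refine ⟨k + j, Subtype.ext ?_⟩
  show t ^ (p ^ (k + j)) = 1
  rw [pow_add, pow_mul]
  exact hj'

theorem frattini_central {p : ℕ} [Fact p.Prime] [Finite G] (P : Sylow p G) (C : Subgroup G)
    [C.Normal] (g : G) :
    ∃ n ∈ Subgroup.normalizer ((((P : Subgroup G) ⊓
        (Cfsg.pCore p (G ⧸ C)).comap (QuotientGroup.mk' C) : Subgroup G)) : Set G),
      ∃ c ∈ C, g = n * c := by
  obtain ⟨T, hT⟩ : ∃ T : Subgroup G,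
      T = (Cfsg.pCore p (G ⧸ C)).comap (QuotientGroup.mk' C) := ⟨_, rfl⟩
  rw [← hT]
  have hTn : T.Normal := by rw [hT]; infer_instance
  obtain ⟨R, hRP, hRT, hRidx, -⟩ := Helper12.exists_sylow_of_normal P T hTn
  have hidx : ¬ p ∣ ((P : Subgroup G) ⊓ T).relIndex T := fun h =>
    hRidx (dvd_trans h (Subgroup.relIndex_dvd_of_le_left _ (le_inf hRP hRT)))
  obtain ⟨l, hl, hgl⟩ := Helper12.frattini_relIndex hTn inf_le_right
    (P.isPGroup'.to_le inf_le_left) hidx g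
  have hπ : Function.Surjective (QuotientGroup.mk' C) := QuotientGroup.mk'_surjective C
  have hl' : QuotientGroup.mk' C l⁻¹ ∈ Cfsg.pCore p (G ⧸ C) := by
    have h0 : l⁻¹ ∈ T := T.inv_mem hl
    rw [hT] at h0; exact h0
  have hle := normal_pgroup_le_sylow (Cfsg.pCore p (G ⧸ C)) (Helper9.pCore_isPGroup p)
    (Sylow.mapSurjective hπ P)
  have h1 := hle hl'
  rw [Sylow.coe_mapSurjective] at h1
  obtain ⟨y, hy, hyl⟩ := h1
  have hyT : y ∈ T := by rw [hT, Subgroup.mem_comap, hyl]; exact hl'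
  refine ⟨g * l * y, Subgroup.mul_mem _ hgl
    (Subgroup.le_normalizer (Subgroup.mem_inf.mpr ⟨hy, hyT⟩)), y⁻¹ * l⁻¹, ?_, by group⟩
  apply mk'_eq_one_iff'.mp
  rw [map_mul, map_inv, hyl, inv_mul_cancel]

theorem commutator_lt_of_pgroup {p : ℕ} [Fact p.Prime] [Finite G] (B : Subgroup G)
    (hB : IsPGroup p B) (hne : B ≠ ⊥) : ⁅B, B⁆ < B := by
  haveI : Nontrivial ↥B := (Subgroup.nontrivial_iff_ne_bot B).mpr hne
  haveI := hB.isNilpotent
  have h := Group.IsSolvable.commutator_lt_top_of_nontrivial ↥B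
  have h2 : (⁅(⊤ : Subgroup ↥B), (⊤ : Subgroup ↥B)⁆ : Subgroup ↥B).map B.subtype
      < (⊤ : Subgroup ↥B).map B.subtype :=
    Subgroup.map_subtype_lt_map_subtype.mpr h
  rw [Subgroup.map_commutator] at h2
  have h3 : (⊤ : Subgroup ↥B).map B.subtype = B := by
    rw [← MonoidHom.range_eq_map, Subgroup.range_subtype]
  rwa [h3] at h2

theorem commutator_le_of_normalClosure (B Y : Subgroup G) [hB : B.Normal] [hY : Y.Normal]
    (S : Set G) (hS : ∀ s ∈ S, ∀ b ∈ B, s * b * s⁻¹ * b⁻¹ ∈ Y)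
    (hcl : B ≤ Subgroup.normalClosure S) : ⁅B, B⁆ ≤ Y := by
  let M : Subgroup G :=
    { carrier := {g | ∀ b ∈ B, g * b * g⁻¹ * b⁻¹ ∈ Y}
      one_mem' := fun b _ => by
        have e : (1 : G) * b * 1⁻¹ * b⁻¹ = 1 := by group
        rw [e]; exact Y.one_mem
      mul_mem' := fun {g₁ g₂} h₁ h₂ b hb => by
        have e : g₁ * g₂ * b * (g₁ * g₂)⁻¹ * b⁻¹
            = g₁ * (g₂ * b * g₂⁻¹ * b⁻¹) * g₁⁻¹ * (g₁ * b * g₁⁻¹ * b⁻¹) := by group
        rw [e]; exact Y.mul_mem (hY.conj_mem _ (h₂ b hb) g₁) (h₁ b hb)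
      inv_mem' := fun {g} h b hb => by
        have e : g⁻¹ * b * g⁻¹⁻¹ * b⁻¹ = g⁻¹ * (g * b * g⁻¹ * b⁻¹)⁻¹ * g⁻¹⁻¹ := by group
        rw [e]; exact hY.conj_mem _ (Y.inv_mem (h b hb)) g⁻¹ }
  haveI hMn : M.Normal := by
    refine ⟨fun g hg h b hb => ?_⟩
    have e : h * g * h⁻¹ * b * (h * g * h⁻¹)⁻¹ * b⁻¹
        = h * (g * (h⁻¹ * b * h⁻¹⁻¹) * g⁻¹ * (h⁻¹ * b * h⁻¹⁻¹)⁻¹) * h⁻¹ := by group
    rw [e]
    exact hY.conj_mem _ (hg _ (hB.conj_mem b hb h⁻¹)) h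
  have h1 : Subgroup.normalClosure S ≤ M :=
    Subgroup.normalClosure_le_normal (fun s hs => hS s hs)
  rw [Subgroup.commutator_le]
  intro g hg b hb
  rw [commutatorElement_def]
  exact h1 (hcl hg) b hb

/-- Glauberman's ZJ-theorem, generic form: `D` strongly closed in the Sylow subgroup `P`,
`e = 0` (abelian version) or `e` odd (exponent-`e` version). -/
theorem generic_ZJ {p : ℕ} [Fact p.Prime] [Finite G] (hp2 : p ≠ 2) {e : ℕ} (he : e = 0 ∨ Odd e)
    (P : Sylow p G) (D : Subgroup G) (hDP : D ≤ (P : Subgroup G))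
    (hcl : ∀ x ∈ D, ∀ g : G, g * x * g⁻¹ ∈ (P : Subgroup G) → g * x * g⁻¹ ∈ D)
    (hc : Subgroup.centralizer ((Cfsg.pCore p G : Subgroup G) : Set G) ≤ Cfsg.pCore p G)
    (hst : ∀ (V : Subgroup G) [V.Normal], IsPGroup p V → ∀ a ∈ (P : Subgroup G),
      ⁅⁅V, Subgroup.zpowers a⁆, Subgroup.zpowers a⁆ = ⊥ →
      (QuotientGroup.mk a : G ⧸ Subgroup.centralizer (V : Set G)) ∈
        Cfsg.pCore p (G ⧸ Subgroup.centralizer (V : Set G))) :
    (ZE e D).Normal := by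
  have hQp : IsPGroup p (Cfsg.pCore p G) := Helper9.pCore_isPGroup p
  have hQP : Cfsg.pCore p G ≤ (P : Subgroup G) := normal_pgroup_le_sylow _ hQp P
  have hDp : IsPGroup p D := P.isPGroup'.to_le hDP
  have hPD : (P : Subgroup G) ≤ Subgroup.normalizer (D : Set G) :=
    le_normalizer_of_conj_mem _ _ (fun a ha x hx =>
      hcl x hx a (Subgroup.mul_mem _ (Subgroup.mul_mem _ ha (hDP hx)) (Subgroup.inv_mem _ ha)))
  obtain ⟨Z, hZ⟩ : ∃ Z : Subgroup G, Z = ZE e D := ⟨_, rfl⟩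
  have hPZ : (P : Subgroup G) ≤ Subgroup.normalizer (Z : Set G) := by
    rw [hZ]; exact hPD.trans (normalizer_le_normalizer_ZE e D)
  have hZD : Z ≤ D := by rw [hZ]; exact (ZE_le_JE e D).trans (JE_le e D)
  have hZc : ∀ x ∈ Z, ∀ y ∈ Z, x * y = y * x := by rw [hZ]; exact ZE_comm e D
  have hZQ : Z ≤ Cfsg.pCore p G := by
    intro z hz
    have h1 := hst (Cfsg.pCore p G) hQp z (hDP (hZD hz))
      (quad_of_normalizes (Cfsg.pCore p G) Z hZc (hQP.trans hPZ) z hz)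
    exact comap_pcore_le (Subgroup.centralizer ((Cfsg.pCore p G : Subgroup G) : Set G))
      (hQp.to_le hc) (Subgroup.mem_comap.mpr h1)
  have main : ∀ n : ℕ, ∀ B : Subgroup G, B.Normal → IsPGroup p B → Nat.card B = n →
      (Z ⊓ B).Normal := by
    intro n
    induction n using Nat.strong_induction_on with
    | _ n IH =>
    intro B hBn hBp hBcard
    by_contra hnot
    haveI := hBn
    have hBQ : B ≤ Cfsg.pCore p G := Helper9.le_pCore hBn hBp
    have hBP : B ≤ (P : Subgroup G) := hBQ.trans hQP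
    have hLB : Subgroup.normalClosure ((Z ⊓ B : Subgroup G) : Set G) ≤ B :=
      Subgroup.normalClosure_le_normal (fun x hx => (Subgroup.mem_inf.mp hx).2)
    have hBcl : B ≤ Subgroup.normalClosure ((Z ⊓ B : Subgroup G) : Set G) := by
      by_contra hne
      have hlt : Nat.card ↥(Subgroup.normalClosure ((Z ⊓ B : Subgroup G) : Set G))
          < Nat.card B := by
        by_contra h
        exact hne (le_of_eq (Subgroup.eq_of_le_of_card_ge hLB (not_lt.mp h)).symm)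
      have h1 := IH _ (by rw [← hBcard]; exact hlt) _ inferInstance (hBp.to_le hLB) rfl
      have h2 : Z ⊓ Subgroup.normalClosure ((Z ⊓ B : Subgroup G) : Set G) = Z ⊓ B :=
        le_antisymm (inf_le_inf_left Z hLB) (le_inf inf_le_left Subgroup.le_normalClosure)
      rw [h2] at h1
      exact hnot h1
    have hBne : B ≠ ⊥ := by
      intro h0
      apply hnot
      rw [h0, inf_bot_eq]
      infer_instance
    have hder_lt : ⁅B, B⁆ < B := commutator_lt_of_pgroup B hBp hBne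
    have hder_card : Nat.card ↥(⁅B, B⁆ : Subgroup G) < Nat.card B := by
      by_contra h
      exact hder_lt.ne (Subgroup.eq_of_le_of_card_ge hder_lt.le (not_lt.mp h))
    haveI hYn : (Z ⊓ ⁅B, B⁆).Normal :=
      IH _ (by rw [← hBcard]; exact hder_card) _ inferInstance (hBp.to_le hder_lt.le) rfl
    have hderZ : ⁅B, B⁆ ≤ Z := by
      have h1 : ⁅B, B⁆ ≤ Z ⊓ ⁅B, B⁆ := by
        apply commutator_le_of_normalClosure B (Z ⊓ ⁅B, B⁆) ((Z ⊓ B : Subgroup G) : Set G) _ hBcl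
        intro s hs b hb
        obtain ⟨hsZ, hsB⟩ := Subgroup.mem_inf.mp hs
        refine Subgroup.mem_inf.mpr ⟨?_, ?_⟩
        · have h2 : s * b * s⁻¹ * b⁻¹ = s * (b * s⁻¹ * b⁻¹) := by group
          rw [h2]
          exact Z.mul_mem hsZ
            ((Subgroup.mem_normalizer_iff.mp (hPZ (hBP hb)) s⁻¹).mp (Z.inv_mem hsZ))
        · have h2 : s * b * s⁻¹ * b⁻¹ = ⁅s, b⁆ := (commutatorElement_def s b).symm
          rw [h2]
          exact Subgroup.commutator_mem_commutator hsB hb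
      exact h1.trans inf_le_left
    have hBD : B ≤ D := by
      have h1 : Subgroup.normalClosure ((Z ⊓ B : Subgroup G) : Set G) ≤ D := by
        unfold Subgroup.normalClosure
        rw [Subgroup.closure_le]
        intro y hy
        obtain ⟨a, ha, hay⟩ := Group.mem_conjugatesOfSet_iff.mp hy
        obtain ⟨c, rfl⟩ := isConj_iff.mp hay
        have ha' := Subgroup.mem_inf.mp ha
        exact hcl a (hZD ha'.1) c (hBP (hBn.conj_mem a ha'.2 c))
      exact hBcl.trans h1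
    obtain ⟨A₀, hA₀⟩ := maxE_nonempty e D
    obtain ⟨A, hA, hAmax⟩ := Set.exists_max_image (maxE e D) (fun A => Nat.card ↥(A ⊓ B))
      (Set.toFinite _) ⟨A₀, hA₀⟩
    have hBNA : B ≤ Subgroup.normalizer (A : Set G) := by
      by_contra h
      obtain ⟨A', hA', hlt, -⟩ := replacement hp2 he D B A hDp hBD hA
        (hderZ.trans (by rw [hZ]; exact ZE_le_of_mem hA)) h
      exact absurd (hAmax A' hA') (not_le.mpr hlt)
    obtain ⟨T, hT⟩ : ∃ T : Subgroup G,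
        T = (Cfsg.pCore p (G ⧸ Subgroup.centralizer (B : Set G))).comap
          (QuotientGroup.mk' (Subgroup.centralizer (B : Set G))) := ⟨_, rfl⟩
    haveI hTn : T.Normal := by rw [hT]; infer_instance
    have hquad : ∀ X : Subgroup G, X ≤ D → (∀ x ∈ X, ∀ y ∈ X, x * y = y * x) →
        B ≤ Subgroup.normalizer (X : Set G) → X ≤ T := by
      intro X hXD hX hBX x hx
      rw [hT]
      exact Subgroup.mem_comap.mpr (hst B hBp x (hDP (hXD hx))
        (quad_of_normalizes B X hX hBX x hx))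
    have hAT : A ≤ T := hquad A hA.1 hA.2.1.1 hBNA
    obtain ⟨D₁, hD₁⟩ : ∃ D₁ : Subgroup G, D₁ = D ⊓ T := ⟨_, rfl⟩
    have hD₁D : D₁ ≤ D := by rw [hD₁]; exact inf_le_left
    have hAD₁ : A ≤ D₁ := by rw [hD₁]; exact le_inf hA.1 hAT
    have hfr : ∀ g : G, ∃ n ∈ Subgroup.normalizer ((D₁ : Subgroup G) : Set G),
        ∃ c ∈ Subgroup.centralizer (B : Set G), g = n * c := by
      intro g
      obtain ⟨n, hn, c, hc', hg⟩ := frattini_central P (Subgroup.centralizer (B : Set G)) g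
      rw [← hT] at hn
      refine ⟨n, ?_, c, hc', hg⟩
      have hle : Subgroup.normalizer ((((P : Subgroup G) ⊓ T : Subgroup G)) : Set G)
          ≤ Subgroup.normalizer ((D₁ : Subgroup G) : Set G) := by
        apply le_normalizer_of_conj_mem
        intro a ha x hx
        rw [hD₁] at hx ⊢
        obtain ⟨hxD, hxT⟩ := Subgroup.mem_inf.mp hx
        have h1 : a * x * a⁻¹ ∈ (P : Subgroup G) ⊓ T :=
          (Subgroup.mem_normalizer_iff.mp ha x).mp (Subgroup.mem_inf.mpr ⟨hDP hxD, hxT⟩)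
        exact Subgroup.mem_inf.mpr
          ⟨hcl x hxD a (Subgroup.mem_inf.mp h1).1, (Subgroup.mem_inf.mp h1).2⟩
      exact hle hn
    have hND₁Z : Subgroup.normalizer ((D₁ : Subgroup G) : Set G)
        ≤ Subgroup.normalizer ((ZE e D₁ : Subgroup G) : Set G) :=
      normalizer_le_normalizer_ZE e D₁
    have hXn : (ZE e D₁ ⊓ B).Normal := by
      refine ⟨fun x hx g => ?_⟩
      obtain ⟨hx1, hx2⟩ := Subgroup.mem_inf.mp hx
      obtain ⟨n, hn, c, hc', rfl⟩ := hfr g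
      have h1 : c * x * c⁻¹ = x := by
        have h2 := Subgroup.mem_centralizer_iff.mp hc' x hx2
        rw [← h2]; group
      have h3 : n * c * x * (n * c)⁻¹ = n * (c * x * c⁻¹) * n⁻¹ := by group
      rw [h3, h1]
      exact Subgroup.mem_inf.mpr
        ⟨(Subgroup.mem_normalizer_iff.mp (hND₁Z hn) x).mp hx1, hBn.conj_mem x hx2 n⟩
    have hZZ₁ : Z ≤ ZE e D₁ := by rw [hZ]; exact ZE_le_ZE_of hD₁D hA hAD₁
    have hBZ₁ : B ≤ ZE e D₁ := by
      have h1 : Subgroup.normalClosure ((Z ⊓ B : Subgroup G) : Set G) ≤ ZE e D₁ ⊓ B :=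
        Subgroup.normalClosure_le_normal (fun x hx => Subgroup.mem_inf.mpr
          ⟨hZZ₁ (Subgroup.mem_inf.mp hx).1, (Subgroup.mem_inf.mp hx).2⟩)
      exact (hBcl.trans h1).trans inf_le_left
    have hall : ∀ A' ∈ maxE e D, A' ≤ D₁ := by
      by_contra hcon
      have hne : {A' : Subgroup G | A' ∈ maxE e D ∧ ¬ A' ≤ D₁}.Nonempty := by
        by_contra hemp
        apply hcon
        intro A' hA'
        by_contra h
        exact hemp ⟨A', hA', h⟩
      obtain ⟨A₂, hA₂, hA₂max⟩ := Set.exists_max_image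
        {A' : Subgroup G | A' ∈ maxE e D ∧ ¬ A' ≤ D₁}
        (fun A => Nat.card ↥(A ⊓ B)) (Set.toFinite _) hne
      have hnN : ¬ B ≤ Subgroup.normalizer (A₂ : Set G) := by
        intro hN
        apply hA₂.2
        rw [hD₁]
        exact le_inf hA₂.1.1 (hquad A₂ hA₂.1.1 hA₂.1.2.1.1 hN)
      obtain ⟨A₃, hA₃, hlt, hA₃N⟩ := replacement hp2 he D B A₂ hDp hBD hA₂.1
        (hderZ.trans (by rw [hZ]; exact ZE_le_of_mem hA₂.1)) hnN
      have hA₃D₁ : A₃ ≤ D₁ := by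
        by_contra h
        exact absurd (hA₂max A₃ ⟨hA₃, h⟩) (not_le.mpr hlt)
      have hA₃' : A₃ ∈ maxE e D₁ := (maxE_sub_iff hD₁D hA hAD₁ A₃).mpr ⟨hA₃, hA₃D₁⟩
      exact hnN ((hBZ₁.trans (ZE_le_of_mem hA₃')).trans hA₃N)
    have hmax : maxE e D₁ = maxE e D := by
      ext A'
      rw [maxE_sub_iff hD₁D hA hAD₁ A']
      exact ⟨fun h => h.1, fun h => ⟨h, hall A' h⟩⟩
    have hZeq : ZE e D₁ = Z := by rw [hZ]; exact ZE_eq_of_maxE_eq hmax
    rw [hZeq] at hXn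
    exact hnot hXn
  have hfin := main _ (Cfsg.pCore p G) inferInstance hQp rfl
  rw [inf_of_le_left hZQ, hZ] at hfin
  exact hfin

end ZJ

end Cfsg.Agent.Helper1
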