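import Mathlib
import Cfsg.Agent.Helper1.ZJ
import Cfsg.Prelude.Def_PLocal
import Cfsg.Prelude.Def_LocalEven

set_option autoImplicit false

namespace Cfsg.Agent.Helper1

open scoped commutatorElement

section ZJBridge

variable {G : Type*} [Group G]

theorem isEAb_zero_iff (A : Subgroup G) : IsEAb 0 A ↔ IsMulCommutative ↥A := by
  rw [← Subgroup.le_centralizer_iff_isMulCommutative]
  constructor
  · intro h x hx
    rw [Subgroup.mem_centralizer_iff]
    intro y hy
    exact h.1 y hy x hx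
  · intro h
    refine ⟨fun x hx y hy => ?_, fun a _ => pow_zero a⟩
    exact Subgroup.mem_centralizer_iff.mp (h hy) x hx

theorem isEAb_iff_elementary (p : ℕ) (A : Subgroup G) :
    IsEAb p A ↔ Cfsg.IsElementaryAbelian p A := by
  unfold Cfsg.IsElementaryAbelian
  rw [← Subgroup.le_centralizer_iff_isMulCommutative]
  constructor
  · intro h
    exact ⟨fun x hx => Subgroup.mem_centralizer_iff.mpr (fun y hy => h.1 y hy x hx), h.2⟩
  · intro h
    exact ⟨fun x hx y hy => Subgroup.mem_centralizer_iff.mp (h.1 hy) x hx, h.2⟩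

theorem maxAbelian_eq (Q : Type*) [Group Q] :
    Cfsg.maxAbelianSubgroups Q = maxE 0 (⊤ : Subgroup Q) := by
  ext A
  constructor
  · rintro ⟨h1, h2⟩
    exact ⟨le_top, (isEAb_zero_iff A).mpr h1, fun B _ hB => h2 B ((isEAb_zero_iff B).mp hB)⟩
  · rintro ⟨-, h1, h2⟩
    exact ⟨(isEAb_zero_iff A).mp h1, fun B hB => h2 B le_top ((isEAb_zero_iff B).mpr hB)⟩

theorem maxElementary_eq (p : ℕ) (Q : Type*) [Group Q] :
    Cfsg.maxElementaryAbelianSubgroups p Q = maxE p (⊤ : Subgroup Q) := by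
  ext A
  constructor
  · rintro ⟨h1, h2⟩
    exact ⟨le_top, (isEAb_iff_elementary p A).mpr h1,
      fun B _ hB => h2 B ((isEAb_iff_elementary p B).mp hB)⟩
  · rintro ⟨-, h1, h2⟩
    exact ⟨(isEAb_iff_elementary p A).mp h1,
      fun B hB => h2 B le_top ((isEAb_iff_elementary p B).mpr hB)⟩

theorem thompsonA_eq (Q : Type*) [Group Q] :
    Cfsg.thompsonSubgroupA Q = JE 0 (⊤ : Subgroup Q) := by
  unfold Cfsg.thompsonSubgroupA JE
  rw [maxAbelian_eq]

theorem thompson_eq (p : ℕ) (Q : Type*) [Group Q] :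
    Cfsg.thompsonSubgroup p Q = JE p (⊤ : Subgroup Q) := by
  unfold Cfsg.thompsonSubgroup JE
  rw [maxElementary_eq]

theorem isEAb_subgroupOf {e : ℕ} {B : Subgroup G} (D : Subgroup G) (hB : IsEAb e B) :
    IsEAb e (B.subgroupOf D) := by
  refine ⟨fun x hx y hy => Subtype.ext
    (hB.1 _ (Subgroup.mem_subgroupOf.mp hx) _ (Subgroup.mem_subgroupOf.mp hy)),
    fun a ha => Subtype.ext ?_⟩
  show (a : G) ^ e = 1
  exact hB.2 _ (Subgroup.mem_subgroupOf.mp ha)

theorem card_subgroupOf_of_le {B D : Subgroup G} (h : B ≤ D) :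
    Nat.card ↥(B.subgroupOf D) = Nat.card ↥B :=
  Nat.card_congr (Subgroup.subgroupOfEquivOfLe h).toEquiv

theorem maxE_subtype_map {e : ℕ} (D : Subgroup G) {A' : Subgroup ↥D}
    (hA' : A' ∈ maxE e (⊤ : Subgroup ↥D)) : A'.map D.subtype ∈ maxE e D := by
  refine ⟨Subgroup.map_subtype_le A', isEAb_map _ hA'.2.1, fun B hB hBe => ?_⟩
  rw [Subgroup.card_map_of_injective D.subtype_injective, ← card_subgroupOf_of_le hB]
  exact hA'.2.2 _ le_top (isEAb_subgroupOf D hBe)

theorem maxE_subgroupOf {e : ℕ} {D A : Subgroup G} (hA : A ∈ maxE e D) :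
    A.subgroupOf D ∈ maxE e (⊤ : Subgroup ↥D) := by
  refine ⟨le_top, isEAb_subgroupOf D hA.2.1, fun B' _ hB'e => ?_⟩
  rw [card_subgroupOf_of_le hA.1, ← Subgroup.card_map_of_injective D.subtype_injective (K := B')]
  exact hA.2.2 _ (Subgroup.map_subtype_le B') (isEAb_map _ hB'e)

theorem JE_subtype (e : ℕ) (D : Subgroup G) :
    (JE e (⊤ : Subgroup ↥D)).map D.subtype = JE e D := by
  apply le_antisymm
  · rw [Subgroup.map_le_iff_le_comap]
    have key : sSup (maxE e (⊤ : Subgroup ↥D)) ≤ (JE e D).comap D.subtype := by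
      apply sSup_le
      intro A' hA'
      rw [← Subgroup.map_le_iff_le_comap]
      exact le_JE (maxE_subtype_map D hA')
    exact key
  · have key : sSup (maxE e D) ≤ (JE e (⊤ : Subgroup ↥D)).map D.subtype := by
      apply sSup_le
      intro A hA
      calc A = (A.subgroupOf D).map D.subtype := (Subgroup.map_subgroupOf_eq_of_le hA.1).symm
        _ ≤ _ := Subgroup.map_mono (le_JE (maxE_subgroupOf hA))
    exact key

theorem ZE_subtype (e : ℕ) (D : Subgroup G) :
    (ZE e (⊤ : Subgroup ↥D)).map D.subtype = ZE e D := by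
  have hJ := JE_subtype e D
  apply le_antisymm
  · rw [Subgroup.map_le_iff_le_comap]
    have key : Subgroup.closure {x : ↥D | x ∈ JE e (⊤ : Subgroup ↥D) ∧
        (∀ y ∈ JE e (⊤ : Subgroup ↥D), y * x = x * y) ∧ x ^ e = 1}
        ≤ (ZE e D).comap D.subtype := by
      rw [Subgroup.closure_le]
      rintro x ⟨hxJ, hxc, hxe⟩
      show (x : G) ∈ Subgroup.closure
        {x : G | x ∈ JE e D ∧ (∀ y ∈ JE e D, y * x = x * y) ∧ x ^ e = 1}
      apply Subgroup.subset_closure
      refine ⟨?_, ?_, ?_⟩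
      · rw [← hJ]; exact Subgroup.mem_map_of_mem D.subtype hxJ
      · intro y hy
        rw [← hJ] at hy
        obtain ⟨y', hy', rfl⟩ := hy
        exact congrArg Subtype.val (hxc y' hy')
      · exact congrArg Subtype.val hxe
    exact key
  · have key : Subgroup.closure
        {x : G | x ∈ JE e D ∧ (∀ y ∈ JE e D, y * x = x * y) ∧ x ^ e = 1}
        ≤ (ZE e (⊤ : Subgroup ↥D)).map D.subtype := by
      rw [Subgroup.closure_le]
      rintro x ⟨hxJ, hxc, hxe⟩
      rw [← hJ] at hxJ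
      obtain ⟨x', hx', rfl⟩ := hxJ
      refine Subgroup.mem_map_of_mem D.subtype (?_ : x' ∈ ZE e (⊤ : Subgroup ↥D))
      show x' ∈ Subgroup.closure {x : ↥D | x ∈ JE e (⊤ : Subgroup ↥D) ∧
        (∀ y ∈ JE e (⊤ : Subgroup ↥D), y * x = x * y) ∧ x ^ e = 1}
      apply Subgroup.subset_closure
      refine ⟨hx', fun y' hy' => Subtype.ext ?_, Subtype.ext hxe⟩
      exact hxc _ (by rw [← hJ]; exact Subgroup.mem_map_of_mem D.subtype hy')
    exact key

theorem thompsonAOf_eq (D : Subgroup G) : Cfsg.thompsonSubgroupAOf D = JE 0 D := by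
  unfold Cfsg.thompsonSubgroupAOf
  rw [thompsonA_eq, JE_subtype]

theorem thompsonOf_eq (p : ℕ) (D : Subgroup G) : Cfsg.thompsonSubgroupOf p D = JE p D := by
  unfold Cfsg.thompsonSubgroupOf
  rw [thompson_eq, JE_subtype]

theorem closure_center_eq (e : ℕ) (J : Subgroup G) :
    Subgroup.closure {x : G | x ∈ J ⊓ Subgroup.centralizer (J : Set G) ∧ x ^ e = 1}
      = Subgroup.closure {x : G | x ∈ J ∧ (∀ y ∈ J, y * x = x * y) ∧ x ^ e = 1} := by
  congr 1
  ext x
  constructor
  · rintro ⟨h1, h2⟩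
    exact ⟨(Subgroup.mem_inf.mp h1).1, Subgroup.mem_centralizer_iff.mp (Subgroup.mem_inf.mp h1).2,
      h2⟩
  · rintro ⟨h1, h2, h3⟩
    exact ⟨Subgroup.mem_inf.mpr ⟨h1, Subgroup.mem_centralizer_iff.mpr h2⟩, h3⟩

theorem ZE_zero_eq (D : Subgroup G) :
    ZE 0 D = JE 0 D ⊓ Subgroup.centralizer ((JE 0 D : Subgroup G) : Set G) := by
  unfold ZE
  rw [← closure_center_eq]
  have hS : {x : G | x ∈ JE 0 D ⊓ Subgroup.centralizer ((JE 0 D : Subgroup G) : Set G) ∧ x ^ 0 = 1}
      = ((JE 0 D ⊓ Subgroup.centralizer ((JE 0 D : Subgroup G) : Set G) : Subgroup G) : Set G) := by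
    ext x
    constructor
    · rintro ⟨h1, -⟩; exact h1
    · intro h1; exact ⟨h1, pow_zero x⟩
  rw [hS, Subgroup.closure_eq]

theorem centerThompsonAOf_eq (D : Subgroup G) : Cfsg.centerThompsonAOf D = ZE 0 D := by
  unfold Cfsg.centerThompsonAOf
  rw [thompsonAOf_eq, ZE_zero_eq]

theorem omegaOne_centerThompsonOf_eq (p : ℕ) (D : Subgroup G) :
    Cfsg.omegaOne p (Cfsg.centerThompsonOf p D) = ZE p D := by
  unfold Cfsg.centerThompsonOf Cfsg.omegaOne
  rw [thompsonOf_eq, closure_center_eq]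
  rfl

theorem omegaCenterThompson_map_eq (p : ℕ) (D : Subgroup G) :
    (Cfsg.omegaCenterThompson p ↥D).map D.subtype = ZE p D := by
  unfold Cfsg.omegaCenterThompson Cfsg.omegaOne
  rw [thompson_eq, closure_center_eq]
  exact ZE_subtype p D

theorem ZE_characteristic_of_normal {p : ℕ} [Fact p.Prime] [Finite G] (e : ℕ) (S : Sylow p G)
    (hn : (ZE e (S : Subgroup G)).Normal) : (ZE e (S : Subgroup G)).Characteristic := by
  rw [Subgroup.characteristic_iff_map_eq]
  intro φ
  rw [ZE_map]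
  obtain ⟨g, hg⟩ := MulAction.exists_smul_eq G S
    (Sylow.mapSurjective (f := φ.toMonoidHom) φ.surjective S)
  have h1 : (S : Subgroup G).map φ.toMonoidHom
      = (S : Subgroup G).map (MulAut.conj g).toMonoidHom := by
    rw [← Sylow.coe_mapSurjective (f := φ.toMonoidHom) φ.surjective S, ← hg,
      Helper12.sylow_smul_coe_eq_map]
  rw [h1, ← ZE_map]
  have h2 : g ∈ Subgroup.normalizer ((ZE e (S : Subgroup G) : Subgroup G) : Set G) := by
    rw [Subgroup.normalizer_eq_top_iff.mpr hn]; exact Subgroup.mem_top g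
  rw [mem_normalizer_iff_conj_smul, conj_smul_eq_map] at h2
  exact h2

theorem pstable_of_normalizer {p : ℕ} [Fact p.Prime] [Finite G] (V : Subgroup G) [hVn : V.Normal]
    (a : G) (ha : a ∈ Subgroup.normalizer (V : Set G))
    (h : (QuotientGroup.mk (s := (Subgroup.centralizer (V : Set G)).subgroupOf
        (Subgroup.normalizer (V : Set G))) (⟨a, ha⟩ : ↥(Subgroup.normalizer (V : Set G)))) ∈
      Cfsg.pCore p (↥(Subgroup.normalizer (V : Set G)) ⧸
        (Subgroup.centralizer (V : Set G)).subgroupOf (Subgroup.normalizer (V : Set G)))) :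
    (QuotientGroup.mk a : G ⧸ Subgroup.centralizer (V : Set G)) ∈
      Cfsg.pCore p (G ⧸ Subgroup.centralizer (V : Set G)) := by
  have hNtop : Subgroup.normalizer (V : Set G) = ⊤ := Subgroup.normalizer_eq_top_iff.mpr hVn
  obtain ⟨ψ, hψ⟩ : ∃ ψ : (↥(Subgroup.normalizer (V : Set G)) ⧸
      (Subgroup.centralizer (V : Set G)).subgroupOf (Subgroup.normalizer (V : Set G)))
        →* G ⧸ Subgroup.centralizer (V : Set G),
      ∀ x : ↥(Subgroup.normalizer (V : Set G)), ψ (QuotientGroup.mk x) = QuotientGroup.mk (x : G) :=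
    ⟨QuotientGroup.map _ _ (Subgroup.normalizer (V : Set G)).subtype le_rfl, fun x => rfl⟩
  have hsurj : Function.Surjective ψ := by
    intro y
    obtain ⟨g, rfl⟩ := QuotientGroup.mk_surjective y
    exact ⟨QuotientGroup.mk ⟨g, by rw [hNtop]; exact Subgroup.mem_top g⟩, hψ _⟩
  have hle : (Cfsg.pCore p (↥(Subgroup.normalizer (V : Set G)) ⧸
      (Subgroup.centralizer (V : Set G)).subgroupOf (Subgroup.normalizer (V : Set G)))).map ψ
      ≤ Cfsg.pCore p (G ⧸ Subgroup.centralizer (V : Set G)) :=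
    Helper9.le_pCore (Subgroup.Normal.map inferInstance ψ hsurj)
      (IsPGroup.map (Helper9.pCore_isPGroup p) ψ)
  have h1 := Subgroup.mem_map_of_mem ψ h
  rw [hψ] at h1
  exact hle h1

end ZJBridge

end Cfsg.Agent.Helper1
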