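import Mathlib
import Cfsg.Agent.Helper1.ZJBridge
import Cfsg.Agent.Helper1.FunNpc

set_option autoImplicit false

namespace Cfsg.Agent.Helper1

universe u

open Cfsg Pointwise

/-- The functor `Q ↦ Ω_e(Z(J_e(Q)))`. -/
def WZ (e : ℕ) (Q : Type u) [Group Q] : Subgroup Q := ZE e (⊤ : Subgroup Q)

theorem inducedFunctor_WZ {G : Type u} [Group G] (e : ℕ) (R : Subgroup G) :
    Cfsg.inducedFunctor (WZ e) R = ZE e R := by
  show (ZE e (⊤ : Subgroup ↥R)).map R.subtype = ZE e R
  exact ZE_subtype e R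

theorem center_pow_mem_ZE {Q : Type*} [Group Q] [Finite Q] (e : ℕ) (x : Q)
    (hx : x ∈ Subgroup.center Q) (hxe : x ^ e = 1) : x ∈ ZE e (⊤ : Subgroup Q) := by
  have hxc : ∀ y : Q, y * x = x * y := fun y => Subgroup.mem_center_iff.mp hx y
  obtain ⟨A, hA⟩ := maxE_nonempty e (⊤ : Subgroup Q)
  have hxJ : x ∈ JE e (⊤ : Subgroup Q) := by
    have h1 : IsEAb e (A ⊔ Subgroup.zpowers x) :=
      isEAb_sup_zpowers hA.2.1 x (fun a _ => hxc a) hxe
    have h3 := hA.2.2 _ le_top h1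
    have h4 : A = A ⊔ Subgroup.zpowers x := Subgroup.eq_of_le_of_card_ge le_sup_left h3
    apply le_JE hA
    rw [h4]
    exact Subgroup.mem_sup_right (Subgroup.mem_zpowers x)
  exact Subgroup.subset_closure ⟨hxJ, fun y _ => hxc y, hxe⟩

theorem WZ_ne_bot {p : ℕ} [Fact p.Prime] {e : ℕ} (he : e = 0 ∨ e = p) (Q : Type u) [Group Q]
    [Finite Q] (hQ : IsPGroup p Q) (hnt : Nontrivial Q) : WZ e Q ≠ ⊥ := by
  haveI := hnt
  have hp : p.Prime := Fact.out
  haveI hc : Nontrivial (Subgroup.center Q) := hQ.center_nontrivial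
  obtain ⟨x, hx, hx1, hxe⟩ : ∃ x ∈ Subgroup.center Q, x ≠ 1 ∧ x ^ e = 1 := by
    rcases he with he | he
    · obtain ⟨⟨z, hz⟩, hz1⟩ := exists_ne (1 : Subgroup.center Q)
      exact ⟨z, hz, fun h => hz1 (Subtype.ext h), by rw [he, pow_zero]⟩
    · obtain ⟨n, hn⟩ := (IsPGroup.iff_card).mp (hQ.to_subgroup (Subgroup.center Q))
      have hn0 : n ≠ 0 := by
        rintro rfl
        have h1 : 1 < Nat.card (Subgroup.center Q) := Finite.one_lt_card
        rw [hn, pow_zero] at h1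
        exact lt_irrefl _ h1
      have hdvd : p ∣ Nat.card (Subgroup.center Q) := by rw [hn]; exact dvd_pow_self p hn0
      obtain ⟨⟨x, hx⟩, hxo⟩ := exists_prime_orderOf_dvd_card' (G := ↥(Subgroup.center Q)) p hdvd
      have hxo' : orderOf x = p := by rw [← hxo, Subgroup.orderOf_mk]
      refine ⟨x, hx, ?_, ?_⟩
      · intro h; rw [h, orderOf_one] at hxo'; exact hp.ne_one hxo'.symm
      · rw [he, ← hxo']; exact pow_orderOf_eq_one x
  intro h
  have hmem : x ∈ WZ e Q := center_pow_mem_ZE e x hx hxe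
  rw [h, Subgroup.mem_bot] at hmem
  exact hx1 hmem

theorem WZ_char (p : ℕ) [Fact p.Prime] {e : ℕ} (he : e = 0 ∨ e = p) :
    Cfsg.IsCharPFunctor.{u} p (WZ e) := by
  refine ⟨fun Q _ _ hQ hnt => WZ_ne_bot he Q hQ hnt, fun Q R _ _ _ _ φ => ?_⟩
  show (ZE e (⊤ : Subgroup Q)).map φ.toMonoidHom = ZE e (⊤ : Subgroup R)
  rw [ZE_map, Subgroup.map_top_of_surjective _ φ.surjective]

theorem orderOf_mk'_eq {G : Type u} [Group G] {p : ℕ} (T : Subgroup G) [T.Normal]
    (hT : (Nat.card T).Coprime p) (X : Subgroup G) (hX : IsPGroup p X) (y : G) (hy : y ∈ X) :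
    orderOf (QuotientGroup.mk' T y) = orderOf y := by
  apply Nat.dvd_antisymm (orderOf_map_dvd _ y)
  apply orderOf_dvd_of_pow_eq_one
  apply Helper21.eq_one_of_mem_pgroup_of_mem_coprime hX hT (X.pow_mem hy _)
  apply mk'_eq_one_iff'.mp
  rw [map_pow, pow_orderOf_eq_one]

/-- A `p`-element whose image modulo a normal `p'`-subgroup `T` lies in the image of the
`p`-subgroup `R` is `T`-conjugate into `R`. -/
theorem exists_conj_mem_of_mk_mem {G : Type u} [Group G] [Finite G] {p : ℕ} [Fact p.Prime]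
    (T : Subgroup G) [hTn : T.Normal] (hT : (Nat.card T).Coprime p) (R : Subgroup G)
    (hR : IsPGroup p R) (Y : Subgroup G) (hY : IsPGroup p Y) (y : G) (hy : y ∈ Y)
    (h : QuotientGroup.mk' T y ∈ R.map (QuotientGroup.mk' T)) :
    ∃ t ∈ T, t * y * t⁻¹ ∈ R := by
  obtain ⟨r, hr, hry⟩ := h
  have hord : orderOf y = orderOf r := by
    rw [← orderOf_mk'_eq T hT Y hY y hy, ← orderOf_mk'_eq T hT R hR r hr, hry]
  have hTtop : Subgroup.normalizer (T : Set G) = ⊤ := Subgroup.normalizer_eq_top_iff.mpr hTn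
  have hXp : IsPGroup p (Subgroup.zpowers r) := hR.to_le (by rw [Subgroup.zpowers_le]; exact hr)
  have hcop : (Nat.card (Subgroup.zpowers r)).Coprime (Nat.card T) := by
    obtain ⟨k, hk⟩ := (IsPGroup.iff_card).mp hXp
    rw [hk]
    exact (Nat.Coprime.pow_right k hT).symm
  have hle : Subgroup.zpowers y ≤ T ⊔ Subgroup.zpowers r := by
    rw [Subgroup.zpowers_le]
    have h4 : r⁻¹ * y ∈ T :=
      mk'_eq_one_iff'.mp (by rw [map_mul, map_inv, hry, inv_mul_cancel])
    have h5 : y = r * (r⁻¹ * y) := by group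
    rw [h5]
    exact Subgroup.mul_mem _ ((le_sup_right : Subgroup.zpowers r ≤ T ⊔ Subgroup.zpowers r)
      (Subgroup.mem_zpowers r)) ((le_sup_left : T ≤ T ⊔ Subgroup.zpowers r) h4)
  haveI : Group.IsNilpotent (Subgroup.zpowers r) := hXp.isNilpotent
  obtain ⟨d, hd, hdc⟩ := sz2 T (Subgroup.zpowers r) (Subgroup.zpowers y)
    (by rw [hTtop]; exact le_top) hle
    (by rw [Nat.card_zpowers, Nat.card_zpowers, hord]) hcop (Or.inl inferInstance)
  refine ⟨d⁻¹, T.inv_mem hd, ?_⟩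
  have h6 : y ∈ MulAut.conj d • Subgroup.zpowers r := by rw [hdc]; exact Subgroup.mem_zpowers y
  rw [mem_conj_smul] at h6
  rw [inv_inv]
  exact (Subgroup.zpowers_le.mpr hr) h6

/-- The local hypothesis for strongly closed subgroups: some subgroup `D` of `R`, strongly closed
in `R`, has `N_G(W(D))` with a normal `p`-complement. -/
def SCLoc (p : ℕ) (W : ∀ (Q : Type u) [Group Q], Subgroup Q) :
    ∀ (G : Type u) [Group G], Subgroup G → Prop :=
  fun G _ R => ∃ D : Subgroup G, D ≤ R ∧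
    (∀ x ∈ D, ∀ g : G, g * x * g⁻¹ ∈ R → g * x * g⁻¹ ∈ D) ∧ FunLoc p W G D

theorem scLoc_npcLoc {p : ℕ} [Fact p.Prime] (W : ∀ (Q : Type u) [Group Q], Subgroup Q)
    (hW : Cfsg.IsCharPFunctor.{u} p W) : NpcLoc p (SCLoc p W) where
  inj := by
    intro G₁ G₂ _ _ _ _ f hf R hR h
    obtain ⟨D₂, hD₂R, hcl, hfun⟩ := h
    have hmap : (D₂.comap f).map f = D₂ :=
      Subgroup.map_comap_eq_self (hD₂R.trans (Subgroup.map_le_range f R))
    have hDR : D₂.comap f ≤ R := by
      intro x hx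
      obtain ⟨r, hr, hrx⟩ := hD₂R (Subgroup.mem_comap.mp hx)
      rw [← hf hrx]; exact hr
    refine ⟨D₂.comap f, hDR, ?_, ?_⟩
    · intro x hx g hg
      rw [Subgroup.mem_comap] at hx ⊢
      rw [map_mul, map_mul, map_inv]
      apply hcl _ hx
      rw [← map_inv, ← map_mul, ← map_mul]
      exact Subgroup.mem_map_of_mem f hg
    · exact (funLoc_npcLoc W hW).inj G₁ G₂ f hf (D₂.comap f) (hR.to_le hDR)
        (by rw [hmap]; exact hfun)
  quot := by
    intro G _ _ T _ hT R hR h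
    obtain ⟨D, hDR, hcl, hfun⟩ := h
    have hDp : IsPGroup p D := hR.to_le hDR
    refine ⟨D.map (QuotientGroup.mk' T), Subgroup.map_mono hDR, ?_,
      (funLoc_npcLoc W hW).quot G T hT D hDp hfun⟩
    rintro _ ⟨x, hx, rfl⟩ gb hgb
    obtain ⟨g, rfl⟩ := QuotientGroup.mk'_surjective T gb
    have hgb' : QuotientGroup.mk' T (g * x * g⁻¹) ∈ R.map (QuotientGroup.mk' T) := by
      rw [map_mul, map_mul, map_inv]; exact hgb
    obtain ⟨t, ht, htR⟩ := exists_conj_mem_of_mk_mem T hT R hR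
      (D.map (MulAut.conj g).toMonoidHom) (hDp.map _) (g * x * g⁻¹)
      (Helper12.conj_mem_map_conj D g hx) hgb'
    have h1 : (t * g) * x * (t * g)⁻¹ ∈ D := by
      apply hcl x hx
      have e : (t * g) * x * (t * g)⁻¹ = t * (g * x * g⁻¹) * t⁻¹ := by group
      rw [e]; exact htR
    have h2 : QuotientGroup.mk' T ((t * g) * x * (t * g)⁻¹) =
        QuotientGroup.mk' T g * QuotientGroup.mk' T x * (QuotientGroup.mk' T g)⁻¹ := by
      simp only [map_mul, map_inv, mk'_eq_one_iff'.mpr ht, one_mul]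
    rw [← h2]
    exact Subgroup.mem_map_of_mem _ h1
  loc := by
    intro G _ _ R hR hR1 key
    exact ⟨R, le_rfl, fun x _ g hg => hg, (funLoc_npcLoc W hW).loc G R hR hR1 key⟩
  top := by
    intro G _ _ R hR hN h
    obtain ⟨D, hDR, hcl, hfun⟩ := h
    have hRn : R.Normal := Subgroup.normalizer_eq_top_iff.mp hN
    have hDn : Subgroup.normalizer (D : Set G) = ⊤ := by
      rw [Subgroup.normalizer_eq_top_iff]
      exact ⟨fun x hx g => hcl x hx g (hRn.conj_mem x (hDR hx) g)⟩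
    exact (funLoc_npcLoc W hW).top G D (hR.to_le hDR) hDn hfun

/-- In a group with the endgame structure, `ZE e D` is normal for strongly closed `D`. -/
theorem ZE_normal_of_pStr {p : ℕ} [Fact p.Prime] (hp2 : p ≠ 2) {e : ℕ} (he : e = 0 ∨ Odd e)
    {G : Type u} [Group G] [Finite G] (hstr : PStr p G)
    (hc : Subgroup.centralizer ((Cfsg.pCore p G : Subgroup G) : Set G) ≤ Cfsg.pCore p G)
    (P : Sylow p G) (D : Subgroup G) (hDP : D ≤ (P : Subgroup G))
    (hcl : ∀ x ∈ D, ∀ g : G, g * x * g⁻¹ ∈ (P : Subgroup G) → g * x * g⁻¹ ∈ D) :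
    (ZE e D).Normal := by
  have hst := normalizerPStable_of_pStr hp2 hstr
  refine generic_ZJ hp2 he P D hDP hcl hc ?_
  intro V hVn hV a _ hq
  have ha : a ∈ Subgroup.normalizer (V : Set G) := by
    rw [Subgroup.normalizer_eq_top_iff.mpr hVn]; exact Subgroup.mem_top a
  exact pstable_of_normalizer V a ha (hst V hV a ha hq)

/-- The Glauberman–Thompson normal `p`-complement criterion for strongly closed subgroups. -/
theorem npc_of_ZE {p : ℕ} [Fact p.Prime] (hp2 : p ≠ 2) {e : ℕ} (he : e = 0 ∨ e = p)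
    {G : Type u} [Group G] [Finite G] (P : Sylow p G) (D : Subgroup G)
    (hD : Cfsg.IsStronglyClosed D (P : Subgroup G))
    (h : HasNormalPComplement p (Subgroup.normalizer ((ZE e D : Subgroup G) : Set G))) :
    HasNormalPComplement p G := by
  have hp : p.Prime := Fact.out
  have he' : e = 0 ∨ Odd e := he.imp id (fun h => by rw [h]; exact hp.odd_of_ne_two hp2)
  have hW : Cfsg.IsCharPFunctor.{u} p (WZ e) := WZ_char p he
  refine gen_npc p (scLoc_npcLoc (WZ e) hW) (Good := fun _ _ => True)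
    (fun _ _ _ _ _ => trivial) (fun _ _ _ _ _ _ => trivial) ?_ (Nat.card G) G rfl trivial P
    ⟨D, hD.1, hD.2, by unfold FunLoc; rw [inducedFunctor_WZ]; exact h⟩
  intro G' _ _ _ hG' P' hP' H _ hH hD2 hCH Mb _ hMb j₀ hj₀ h5a habel
  apply hG'
  have hstr : PStr p G' := by
    refine ⟨H, Mb.comap (QuotientGroup.mk' H), inferInstance, inferInstance, hH, habel,
      ⟨Nat.card Mb, hMb, fun a ha => comap_pow_card_mem H Mb a ha⟩, j₀, fun z => ?_⟩
    rw [Subgroup.mem_comap, map_pow]; exact hj₀ _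
  have hHeq : H = Cfsg.pCore p G' :=
    le_antisymm (Helper9.le_pCore inferInstance hH)
      (hD2 _ inferInstance (Helper9.pCore_isPGroup p))
  have hcen : Subgroup.centralizer ((Cfsg.pCore p G' : Subgroup G') : Set G')
      ≤ Cfsg.pCore p G' := by
    rw [← hHeq]; exact hCH
  obtain ⟨D', hD'P, hcl', hfun⟩ := hP'
  have hn : (ZE e D').Normal := ZE_normal_of_pStr hp2 he' hstr hcen P' D' hD'P hcl'
  unfold FunLoc at hfun
  rw [inducedFunctor_WZ] at hfun
  exact npc_of_eq_top _ (Subgroup.normalizer_eq_top_iff.mpr hn) hfun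

end Cfsg.Agent.Helper1
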