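import Mathlib
import Cfsg.Agent.Helper1.ZJNpc
import Cfsg.Agent.Helper12.AlpInd
import Cfsg.Agent.Helper9.Layer
import Cfsg.Prelude.Def_Local

set_option autoImplicit false

namespace Cfsg.Agent.Helper1

universe u

open Cfsg Pointwise
open scoped commutatorElement

/-- Lifting centralizing elements through a quotient by a normal `p'`-subgroup. -/
theorem exists_centralizer_of_map {G : Type u} [Group G] [Finite G] {p : ℕ} [Fact p.Prime]
    (T : Subgroup G) [hTn : T.Normal] (hT : (Nat.card T).Coprime p) (X : Subgroup G)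
    (hX : IsPGroup p X) (g : G)
    (hg : QuotientGroup.mk' T g ∈ Subgroup.centralizer
      ((X.map (QuotientGroup.mk' T) : Subgroup (G ⧸ T)) : Set (G ⧸ T))) :
    ∃ n ∈ Subgroup.centralizer (X : Set G), QuotientGroup.mk' T n = QuotientGroup.mk' T g := by
  obtain ⟨n, hn, hng⟩ := exists_normalizer_of_map T hT X hX g
    (Subgroup.centralizer_le_normalizer _ hg)
  refine ⟨n, ?_, hng⟩
  rw [Subgroup.mem_centralizer_iff]
  intro x hx
  have h1 : n * x * n⁻¹ ∈ X := (Subgroup.mem_normalizer_iff.mp hn x).mp hx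
  have h2 : n * x * n⁻¹ * x⁻¹ ∈ T := by
    apply mk'_eq_one_iff'.mp
    have h3 := Subgroup.mem_centralizer_iff.mp hg _
      (Subgroup.mem_map_of_mem (QuotientGroup.mk' T) hx)
    simp only [map_mul, map_inv, hng]
    rw [← h3]
    group
  have h4 : n * x * n⁻¹ * x⁻¹ = 1 :=
    Helper21.eq_one_of_mem_pgroup_of_mem_coprime hX hT (X.mul_mem h1 (X.inv_mem hx)) h2
  calc x * n = (n * x * n⁻¹ * x⁻¹)⁻¹ * (n * x) := by group
    _ = n * x := by rw [h4, inv_one, one_mul]

/-- Stability transfer to a quotient by a normal `p'`-subgroup. -/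
theorem pstable_quot {p : ℕ} [Fact p.Prime] {G : Type u} [Group G] [Finite G] (T : Subgroup G)
    [hTn : T.Normal] (hT : (Nat.card T).Coprime p) (V : Subgroup G) (hV : IsPGroup p V)
    [hVn : (V.map (QuotientGroup.mk' T)).Normal]
    (a : G) (ha : a ∈ Subgroup.normalizer (V : Set G))
    (h : (QuotientGroup.mk (s := (Subgroup.centralizer (V : Set G)).subgroupOf
        (Subgroup.normalizer (V : Set G))) (⟨a, ha⟩ : ↥(Subgroup.normalizer (V : Set G)))) ∈
      Cfsg.pCore p (↥(Subgroup.normalizer (V : Set G)) ⧸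
        (Subgroup.centralizer (V : Set G)).subgroupOf (Subgroup.normalizer (V : Set G)))) :
    (QuotientGroup.mk (QuotientGroup.mk' T a) : (G ⧸ T) ⧸ Subgroup.centralizer
        ((V.map (QuotientGroup.mk' T) : Subgroup (G ⧸ T)) : Set (G ⧸ T))) ∈
      Cfsg.pCore p ((G ⧸ T) ⧸ Subgroup.centralizer
        ((V.map (QuotientGroup.mk' T) : Subgroup (G ⧸ T)) : Set (G ⧸ T))) := by
  obtain ⟨φ, hφ⟩ : ∃ φ : ↥(Subgroup.normalizer (V : Set G)) →* (G ⧸ T) ⧸ Subgroup.centralizer
        ((V.map (QuotientGroup.mk' T) : Subgroup (G ⧸ T)) : Set (G ⧸ T)),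
      ∀ x : ↥(Subgroup.normalizer (V : Set G)),
        φ x = QuotientGroup.mk (QuotientGroup.mk' T (x : G)) :=
    ⟨(QuotientGroup.mk' _).comp ((QuotientGroup.mk' T).comp (Subgroup.subtype _)), fun x => rfl⟩
  have hker : (Subgroup.centralizer (V : Set G)).subgroupOf (Subgroup.normalizer (V : Set G))
      ≤ φ.ker := by
    intro x hx
    rw [Subgroup.mem_subgroupOf] at hx
    rw [MonoidHom.mem_ker, hφ, QuotientGroup.eq_one_iff, Subgroup.mem_centralizer_iff]
    rintro _ ⟨v, hv, rfl⟩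
    rw [← map_mul, ← map_mul, Subgroup.mem_centralizer_iff.mp hx v hv]
  obtain ⟨ψ, hψ⟩ : ∃ ψ : (↥(Subgroup.normalizer (V : Set G)) ⧸
        (Subgroup.centralizer (V : Set G)).subgroupOf (Subgroup.normalizer (V : Set G))) →*
        (G ⧸ T) ⧸ Subgroup.centralizer
          ((V.map (QuotientGroup.mk' T) : Subgroup (G ⧸ T)) : Set (G ⧸ T)),
      ∀ x : ↥(Subgroup.normalizer (V : Set G)), ψ (QuotientGroup.mk x) = φ x :=
    ⟨QuotientGroup.lift _ φ hker, fun x => rfl⟩
  have hsurj : Function.Surjective ψ := by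
    intro y
    obtain ⟨gb, rfl⟩ := QuotientGroup.mk_surjective y
    obtain ⟨g, rfl⟩ := QuotientGroup.mk'_surjective T gb
    have hg : QuotientGroup.mk' T g ∈ Subgroup.normalizer
        ((V.map (QuotientGroup.mk' T) : Subgroup (G ⧸ T)) : Set (G ⧸ T)) := by
      rw [Subgroup.normalizer_eq_top_iff.mpr hVn]; exact Subgroup.mem_top _
    obtain ⟨n, hn, hng⟩ := exists_normalizer_of_map T hT V hV g hg
    refine ⟨QuotientGroup.mk ⟨n, hn⟩, ?_⟩
    rw [hψ, hφ]
    show QuotientGroup.mk (QuotientGroup.mk' T n) = QuotientGroup.mk (QuotientGroup.mk' T g)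
    rw [hng]
  have hle : (Cfsg.pCore p (↥(Subgroup.normalizer (V : Set G)) ⧸
      (Subgroup.centralizer (V : Set G)).subgroupOf (Subgroup.normalizer (V : Set G)))).map ψ
      ≤ Cfsg.pCore p ((G ⧸ T) ⧸ Subgroup.centralizer
        ((V.map (QuotientGroup.mk' T) : Subgroup (G ⧸ T)) : Set (G ⧸ T))) :=
    Helper9.le_pCore (Subgroup.Normal.map inferInstance ψ hsurj)
      (IsPGroup.map (Helper9.pCore_isPGroup p) ψ)
  have h1 := Subgroup.mem_map_of_mem ψ h
  rw [hψ, hφ] at h1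
  exact hle h1

/-- Stability hypothesis used for the quotient by a normal `p'`-subgroup `T`. -/
def StabHyp (p : ℕ) {G : Type u} [Group G] (T : Subgroup G) [T.Normal] (S : Subgroup G) : Prop :=
  ∀ V : Subgroup G, V ≤ S → (T ⊔ V).Normal →
    V.map (QuotientGroup.mk' T) ≤ Cfsg.pCore p (G ⧸ T) →
    ∀ a ∈ S, ∀ ha : a ∈ Subgroup.normalizer (V : Set G),
      ⁅⁅V, Subgroup.zpowers a⁆, Subgroup.zpowers a⁆ = ⊥ →
      (QuotientGroup.mk (s := (Subgroup.centralizer (V : Set G)).subgroupOf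
        (Subgroup.normalizer (V : Set G))) (⟨a, ha⟩ : ↥(Subgroup.normalizer (V : Set G)))) ∈
      Cfsg.pCore p (↥(Subgroup.normalizer (V : Set G)) ⧸
        (Subgroup.centralizer (V : Set G)).subgroupOf (Subgroup.normalizer (V : Set G)))

theorem stable_quot_aux {p : ℕ} [Fact p.Prime] {G : Type u} [Group G] [Finite G]
    (T : Subgroup G) [hTn : T.Normal] (hT : (Nat.card T).Coprime p) (S : Sylow p G)
    (hstab : StabHyp p T (S : Subgroup G))
    (Vb : Subgroup (G ⧸ T)) [hVbn : Vb.Normal] (hVb : IsPGroup p Vb)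
    (a : G) (ha : a ∈ (S : Subgroup G))
    (hq : ⁅⁅Vb, Subgroup.zpowers (QuotientGroup.mk' T a)⁆,
      Subgroup.zpowers (QuotientGroup.mk' T a)⁆ = ⊥) :
    (QuotientGroup.mk (QuotientGroup.mk' T a) :
        (G ⧸ T) ⧸ Subgroup.centralizer (Vb : Set (G ⧸ T))) ∈
      Cfsg.pCore p ((G ⧸ T) ⧸ Subgroup.centralizer (Vb : Set (G ⧸ T))) := by
  obtain ⟨V, hVdef⟩ : ∃ V : Subgroup G,
      V = (S : Subgroup G) ⊓ Vb.comap (QuotientGroup.mk' T) := ⟨_, rfl⟩
  have hVS : V ≤ (S : Subgroup G) := by rw [hVdef]; exact inf_le_left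
  have hVp : IsPGroup p V := S.isPGroup'.to_le hVS
  have hSb : Vb ≤ (S : Subgroup G).map (QuotientGroup.mk' T) := by
    have h0 := normal_pgroup_le_sylow Vb hVb
      (Sylow.mapSurjective (f := QuotientGroup.mk' T) (QuotientGroup.mk'_surjective T) S)
    rwa [Sylow.coe_mapSurjective] at h0
  have hmap : V.map (QuotientGroup.mk' T) = Vb := by
    apply le_antisymm
    · rintro _ ⟨v, hv, rfl⟩
      rw [hVdef] at hv
      exact (Subgroup.mem_inf.mp hv).2
    · intro y hy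
      obtain ⟨s, hs, rfl⟩ := hSb hy
      exact ⟨s, by rw [hVdef]; exact Subgroup.mem_inf.mpr ⟨hs, hy⟩, rfl⟩
  have hsup : T ⊔ V = Vb.comap (QuotientGroup.mk' T) := by
    apply le_antisymm
    · apply sup_le (le_comap_mk' T Vb)
      rw [hVdef]; exact inf_le_right
    · intro x hx
      obtain ⟨s, hs, hsx⟩ := hSb (Subgroup.mem_comap.mp hx)
      have hsV : s ∈ V := by
        rw [hVdef]; refine Subgroup.mem_inf.mpr ⟨hs, ?_⟩
        rw [Subgroup.mem_comap, hsx]; exact hx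
      have h4 : s⁻¹ * x ∈ T :=
        mk'_eq_one_iff'.mp (by rw [map_mul, map_inv, hsx, inv_mul_cancel])
      have h5 : x = s * (s⁻¹ * x) := by group
      rw [h5]
      exact Subgroup.mul_mem _ ((le_sup_right : V ≤ T ⊔ V) hsV) ((le_sup_left : T ≤ T ⊔ V) h4)
  have hsupn : (T ⊔ V).Normal := by rw [hsup]; infer_instance
  have hSN : (S : Subgroup G) ≤ Subgroup.normalizer (V : Set G) := by
    apply le_normalizer_of_conj_mem
    intro s hs x hx
    rw [hVdef] at hx ⊢
    refine Subgroup.mem_inf.mpr ⟨?_, ?_⟩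
    · exact Subgroup.mul_mem _ (Subgroup.mul_mem _ hs (Subgroup.mem_inf.mp hx).1)
        (Subgroup.inv_mem _ hs)
    · exact (inferInstance : (Vb.comap (QuotientGroup.mk' T)).Normal).conj_mem x
        (Subgroup.mem_inf.mp hx).2 s
  have haN : a ∈ Subgroup.normalizer (V : Set G) := hSN ha
  have hzle : Subgroup.zpowers a ≤ Subgroup.normalizer (V : Set G) := by
    rw [Subgroup.zpowers_le]; exact haN
  have hquad : ⁅⁅V, Subgroup.zpowers a⁆, Subgroup.zpowers a⁆ = ⊥ := by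
    have hle1 : ⁅V, Subgroup.zpowers a⁆ ≤ V := by
      rw [Subgroup.commutator_le]
      intro v hv z hz
      have h1 : z * v⁻¹ * z⁻¹ ∈ V :=
        (Subgroup.mem_normalizer_iff.mp (hzle hz) v⁻¹).mp (V.inv_mem hv)
      have e : ⁅v, z⁆ = v * (z * v⁻¹ * z⁻¹) := by rw [commutatorElement_def]; group
      rw [e]; exact V.mul_mem hv h1
    have hle2 : ⁅⁅V, Subgroup.zpowers a⁆, Subgroup.zpowers a⁆ ≤ V :=
      (Subgroup.commutator_mono hle1 le_rfl).trans hle1
    have hmap2 : (⁅⁅V, Subgroup.zpowers a⁆, Subgroup.zpowers a⁆).map (QuotientGroup.mk' T)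
        = ⊥ := by
      rw [Subgroup.map_commutator, Subgroup.map_commutator, hmap, MonoidHom.map_zpowers, hq]
    rw [eq_bot_iff]
    intro x hx
    rw [Subgroup.mem_bot]
    apply Helper21.eq_one_of_mem_pgroup_of_mem_coprime hVp hT (hle2 hx)
    apply mk'_eq_one_iff'.mp
    have h1 := Subgroup.mem_map_of_mem (QuotientGroup.mk' T) hx
    rw [hmap2, Subgroup.mem_bot] at h1
    exact h1
  have key := hstab V hVS hsupn (by rw [hmap]; exact Helper9.le_pCore hVbn hVb) a ha haN hquad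
  subst hmap
  exact pstable_quot T hT V hVp a haN key

theorem isPStable_stabHyp {p : ℕ} [Fact p.Prime] {G : Type u} [Group G] [Finite G]
    (hs : Cfsg.IsPStable p G) (S : Sylow p G) :
    StabHyp p (Cfsg.pPrimeCore p G) (S : Subgroup G) := by
  intro V hVS hn hVK a ha haN hquad
  have hVp : IsPGroup p V := S.isPGroup'.to_le hVS
  have hAp : IsPGroup p (Subgroup.zpowers a) :=
    S.isPGroup'.to_le (by rw [Subgroup.zpowers_le]; exact ha)
  have hnorm : ∀ z ∈ Subgroup.zpowers a, ∀ x ∈ V, z * x * z⁻¹ ∈ V := by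
    intro z hz x hx
    have hzN : z ∈ Subgroup.normalizer (V : Set G) := (Subgroup.zpowers_le.mpr haN) hz
    exact (Subgroup.mem_normalizer_iff.mp hzN x).mp hx
  have hVK' : V ≤ Cfsg.pPrimePCore p G := by
    intro x hx
    exact hVK (Subgroup.mem_map_of_mem _ hx)
  have h := hs.2.2 (Subgroup.zpowers a) V hAp hVp hnorm hVK' hn hquad
  apply h
  exact ⟨⟨a, haN⟩, Subgroup.mem_subgroupOf.mpr (Subgroup.mem_zpowers a), rfl⟩

theorem normalizerPStable_stabHyp {p : ℕ} {G : Type u} [Group G]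
    (hst : Cfsg.IsNormalizerPStable p G) (T : Subgroup G) [T.Normal] (S : Subgroup G)
    (hS : IsPGroup p S) : StabHyp p T S :=
  fun V hVS _ _ a _ ha hq => hst V (hS.to_le hVS) a ha hq

theorem constrained_quot {p : ℕ} [Fact p.Prime] {G : Type u} [Group G] [Finite G]
    (hc : Cfsg.IsPConstrained p G) :
    Subgroup.centralizer ((Cfsg.pCore p (G ⧸ Cfsg.pPrimeCore p G) :
      Subgroup (G ⧸ Cfsg.pPrimeCore p G)) : Set (G ⧸ Cfsg.pPrimeCore p G))
      ≤ Cfsg.pCore p (G ⧸ Cfsg.pPrimeCore p G) := by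
  obtain ⟨P₀⟩ : Nonempty (Sylow p ↥(Cfsg.pPrimePCore p G)) := inferInstance
  have h1 := hc P₀
  obtain ⟨V, hVdef⟩ : ∃ V : Subgroup G, V = (P₀ : Subgroup ↥(Cfsg.pPrimePCore p G)).map
      (Cfsg.pPrimePCore p G).subtype := ⟨_, rfl⟩
  rw [← hVdef] at h1
  have hVp : IsPGroup p V := by rw [hVdef]; exact P₀.isPGroup'.map _
  have hVK : V ≤ Cfsg.pPrimePCore p G := by rw [hVdef]; exact Subgroup.map_subtype_le _
  intro gb hgb
  obtain ⟨g, rfl⟩ := QuotientGroup.mk'_surjective (Cfsg.pPrimeCore p G) gb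
  have hg : QuotientGroup.mk' (Cfsg.pPrimeCore p G) g ∈ Subgroup.centralizer
      ((V.map (QuotientGroup.mk' (Cfsg.pPrimeCore p G)) : Subgroup (G ⧸ Cfsg.pPrimeCore p G)) :
        Set (G ⧸ Cfsg.pPrimeCore p G)) := by
    rw [Subgroup.mem_centralizer_iff] at hgb ⊢
    rintro _ ⟨v, hv, rfl⟩
    exact hgb _ (hVK hv)
  obtain ⟨n, hn, hng⟩ := exists_centralizer_of_map (Cfsg.pPrimeCore p G)
    (Helper9.pPrimeCore_coprime p) V hVp g hg
  rw [← hng]
  have h2 : n ∈ Cfsg.pPrimePCore p G := h1 hn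
  exact h2

theorem stronglyClosed_quot {p : ℕ} [Fact p.Prime] {G : Type u} [Group G] [Finite G]
    (T : Subgroup G) [hTn : T.Normal] (hT : (Nat.card T).Coprime p) (R D : Subgroup G)
    (hR : IsPGroup p R) (hDR : D ≤ R)
    (hcl : ∀ x ∈ D, ∀ g : G, g * x * g⁻¹ ∈ R → g * x * g⁻¹ ∈ D) :
    ∀ x ∈ D.map (QuotientGroup.mk' T), ∀ g : G ⧸ T,
      g * x * g⁻¹ ∈ R.map (QuotientGroup.mk' T) → g * x * g⁻¹ ∈ D.map (QuotientGroup.mk' T) := by
  have hDp : IsPGroup p D := hR.to_le hDR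
  rintro _ ⟨x, hx, rfl⟩ gb hgb
  obtain ⟨g, rfl⟩ := QuotientGroup.mk'_surjective T gb
  have hgb' : QuotientGroup.mk' T (g * x * g⁻¹) ∈ R.map (QuotientGroup.mk' T) := by
    rw [map_mul, map_mul, map_inv]; exact hgb
  obtain ⟨t, ht, htR⟩ := exists_conj_mem_of_mk_mem T hT R hR
    (D.map (MulAut.conj g).toMonoidHom) (hDp.map _) (g * x * g⁻¹)
    (Helper12.conj_mem_map_conj D g hx) hgb'
  have h1 : (t * g) * x * (t * g)⁻¹ ∈ D := by
    apply hcl x hx
    have e : (t * g) * x * (t * g)⁻¹ = t * (g * x * g⁻¹) * t⁻¹ := by group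
    rw [e]; exact htR
  have h2 : QuotientGroup.mk' T ((t * g) * x * (t * g)⁻¹) =
      QuotientGroup.mk' T g * QuotientGroup.mk' T x * (QuotientGroup.mk' T g)⁻¹ := by
    simp only [map_mul, map_inv, mk'_eq_one_iff'.mpr ht, one_mul]
  rw [← h2]
  exact Subgroup.mem_map_of_mem _ h1

/-- Glauberman's factorization: `G = T N_G(Ω(Z(J(D))))` for `T` a normal `p'`-subgroup with
`G / T` constrained, under the stability hypothesis. -/
theorem sup_normalizer_ZE_eq_top {p : ℕ} [Fact p.Prime] (hp2 : p ≠ 2) {e : ℕ}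
    (he : e = 0 ∨ e = p) {G : Type u} [Group G] [Finite G] (T : Subgroup G) [hTn : T.Normal]
    (hT : (Nat.card T).Coprime p)
    (hcen : Subgroup.centralizer ((Cfsg.pCore p (G ⧸ T) : Subgroup (G ⧸ T)) : Set (G ⧸ T))
      ≤ Cfsg.pCore p (G ⧸ T))
    (S : Sylow p G) (D : Subgroup G) (hDS : D ≤ (S : Subgroup G))
    (hcl : ∀ x ∈ D, ∀ g : G, g * x * g⁻¹ ∈ (S : Subgroup G) → g * x * g⁻¹ ∈ D)
    (hstab : StabHyp p T (S : Subgroup G)) :
    T ⊔ Subgroup.normalizer ((ZE e D : Subgroup G) : Set G) = ⊤ := by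
  have hp : p.Prime := Fact.out
  have he' : e = 0 ∨ Odd e := he.imp id (fun h => by rw [h]; exact hp.odd_of_ne_two hp2)
  have hDp : IsPGroup p D := S.isPGroup'.to_le hDS
  have hinj : ∀ x ∈ D, QuotientGroup.mk' T x = 1 → x = 1 := fun x hx h1 =>
    Helper21.eq_one_of_mem_pgroup_of_mem_coprime hDp hT hx (mk'_eq_one_iff'.mp h1)
  have hmapZ := Helper12.inducedFunctor_map (WZ_char p he) (QuotientGroup.mk' T) D hDp hinj
  rw [inducedFunctor_WZ, inducedFunctor_WZ] at hmapZ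
  obtain ⟨Sb, hSb⟩ : ∃ Sb : Sylow p (G ⧸ T),
      (Sb : Subgroup (G ⧸ T)) = (S : Subgroup G).map (QuotientGroup.mk' T) :=
    ⟨Sylow.mapSurjective (f := QuotientGroup.mk' T) (QuotientGroup.mk'_surjective T) S,
      Sylow.coe_mapSurjective _ S⟩
  have hn : (ZE e (D.map (QuotientGroup.mk' T))).Normal := by
    refine generic_ZJ hp2 he' Sb (D.map (QuotientGroup.mk' T))
      (by rw [hSb]; exact Subgroup.map_mono hDS) ?_ hcen ?_
    · rw [hSb]
      exact stronglyClosed_quot T hT (S : Subgroup G) D S.isPGroup' hDS hcl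
    · intro V hVn hV ab hab hq
      rw [hSb] at hab
      obtain ⟨a, ha, rfl⟩ := hab
      exact stable_quot_aux T hT S hstab V hV a ha hq
  rw [hmapZ] at hn
  rw [eq_top_iff]
  intro g _
  have hg : QuotientGroup.mk' T g ∈ Subgroup.normalizer
      (((ZE e D).map (QuotientGroup.mk' T) : Subgroup (G ⧸ T)) : Set (G ⧸ T)) := by
    rw [Subgroup.normalizer_eq_top_iff.mpr hn]; exact Subgroup.mem_top _
  have hZp : IsPGroup p (ZE e D) := hDp.to_le ((ZE_le_JE e D).trans (JE_le e D))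
  obtain ⟨n, hn', hng⟩ := exists_normalizer_of_map T hT (ZE e D) hZp g hg
  have h4 : g * n⁻¹ ∈ T := mk'_eq_one_iff'.mp (by rw [map_mul, map_inv, hng, mul_inv_cancel])
  have h5 : g = (g * n⁻¹) * n := by group
  rw [h5]
  exact Subgroup.mul_mem_sup h4 hn'

theorem ZE_normal_of_constrained_stable {p : ℕ} [Fact p.Prime] (hp2 : p ≠ 2) {G : Type u}
    [Group G] [Finite G] (hO : Cfsg.pPrimeCore p G = ⊥) (hc : Cfsg.IsPConstrained p G)
    (hs : Cfsg.IsPStable p G) (P : Sylow p G) : (ZE 0 (P : Subgroup G)).Normal := by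
  have h1 := sup_normalizer_ZE_eq_top hp2 (e := 0) (Or.inl rfl) (Cfsg.pPrimeCore p G)
    (Helper9.pPrimeCore_coprime p) (constrained_quot hc) P (P : Subgroup G) le_rfl
    (fun x _ g hg => hg) (isPStable_stabHyp hs P)
  rw [hO, bot_sup_eq] at h1
  exact Subgroup.normalizer_eq_top_iff.mp h1

theorem normalizer_le_of_normal_ZE {p : ℕ} [Fact p.Prime] {G : Type u} [Group G] [Finite G]
    (N : Subgroup G) (R : Subgroup ↥N) (hR : IsPGroup p R) (hn : (ZE 0 R).Normal) :
    N ≤ Subgroup.normalizer ((ZE 0 (R.map N.subtype) : Subgroup G) : Set G) := by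
  have h1 := Helper12.inducedFunctor_map (WZ_char p (Or.inl rfl)) N.subtype R hR
    (fun x _ hx => Subtype.ext hx)
  rw [inducedFunctor_WZ, inducedFunctor_WZ] at h1
  rw [h1]
  apply le_normalizer_of_conj_mem
  rintro n hn' _ ⟨y, hy, rfl⟩
  exact ⟨⟨n, hn'⟩ * y * ⟨n, hn'⟩⁻¹, hn.conj_mem y hy ⟨n, hn'⟩, rfl⟩

/-- The normalizers of the nontrivial subgroups of a Sylow `p`-subgroup `P` lie in
`N_G(Z(J(P)))`, when `Z(J)` of a Sylow subgroup is normal in every `p`-local subgroup. -/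
theorem local_le_aux {p : ℕ} [Fact p.Prime] {G : Type u} [Group G] [Finite G]
    (hloc : ∀ Q : Subgroup G, IsPGroup p Q → Q ≠ ⊥ →
      ∀ R : Sylow p ↥(Subgroup.normalizer (Q : Set G)),
        (ZE 0 (R : Subgroup ↥(Subgroup.normalizer (Q : Set G)))).Normal)
    (M : Subgroup G) :
    ∀ n : ℕ, ∀ P : Sylow p G,
      Subgroup.normalizer ((ZE 0 (P : Subgroup G) : Subgroup G) : Set G) = M →
      ∀ Q : Subgroup G, Q ≤ (P : Subgroup G) → Q ≠ ⊥ →
      Nat.card (P : Subgroup G) -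
        Nat.card ((P : Subgroup G) ⊓ Subgroup.normalizer (Q : Set G) : Subgroup G) = n →
      Subgroup.normalizer (Q : Set G) ≤ M := by
  intro n
  induction n using Nat.strong_induction_on with
  | _ n ih =>
  intro P hPM Q hQP hQ1 hn
  have hQp : IsPGroup p Q := P.isPGroup'.to_le hQP
  obtain ⟨R, hR⟩ : ∃ R : Subgroup G,
      R = (P : Subgroup G) ⊓ Subgroup.normalizer (Q : Set G) := ⟨_, rfl⟩
  rw [← hR] at hn
  have hRP : R ≤ (P : Subgroup G) := by rw [hR]; exact inf_le_left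
  have hRN : R ≤ Subgroup.normalizer (Q : Set G) := by rw [hR]; exact inf_le_right
  have hRp : IsPGroup p R := P.isPGroup'.to_le hRP
  have hQR : Q ≤ R := by rw [hR]; exact le_inf hQP Subgroup.le_normalizer
  have hR1 : R ≠ ⊥ := by
    intro h
    apply hQ1
    rw [h] at hQR
    exact le_bot_iff.mp hQR
  have hPM' : (P : Subgroup G) ≤ M := by
    rw [← hPM]; exact Subgroup.le_normalizer.trans (normalizer_le_normalizer_ZE 0 _)
  have hkey : ∀ Rs : Sylow p ↥(Subgroup.normalizer (Q : Set G)),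
      Subgroup.normalizer (Q : Set G) ≤ Subgroup.normalizer
        ((ZE 0 ((Rs : Subgroup ↥(Subgroup.normalizer (Q : Set G))).map
          (Subgroup.normalizer (Q : Set G)).subtype) : Subgroup G) : Set G) :=
    fun Rs => normalizer_le_of_normal_ZE _ _ Rs.isPGroup' (hloc Q hQp hQ1 Rs)
  by_cases hRP' : R = (P : Subgroup G)
  · have hPN : (P : Subgroup G) ≤ Subgroup.normalizer (Q : Set G) := by rw [← hRP']; exact hRN
    have h1 := hkey (P.subtype hPN)
    rw [Sylow.coe_subtype, Subgroup.map_subgroupOf_eq_of_le hPN, hPM] at h1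
    exact h1
  · have hlt : Nat.card R < Nat.card ((P : Subgroup G) ⊓ Subgroup.normalizer (R : Set G) :
        Subgroup G) := Helper12.card_lt_card_inf_normalizer P.isPGroup' hRP hRP'
    have hcardP : Nat.card ((P : Subgroup G) ⊓ Subgroup.normalizer (R : Set G) : Subgroup G)
        ≤ Nat.card (P : Subgroup G) := Subgroup.card_le_of_le inf_le_left
    have hNR : Subgroup.normalizer (R : Set G) ≤ M :=
      ih _ (by omega) P hPM R hRP hR1 rfl
    obtain ⟨Rs, hRs⟩ := Helper12.exists_sylow_map_ge hRp hRN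
    obtain ⟨R₁, hR₁⟩ : ∃ R₁ : Subgroup G,
        R₁ = (Rs : Subgroup ↥(Subgroup.normalizer (Q : Set G))).map
          (Subgroup.normalizer (Q : Set G)).subtype := ⟨_, rfl⟩
    have hk := hkey Rs
    rw [← hR₁] at hRs hk
    have hR₁p : IsPGroup p R₁ := by rw [hR₁]; exact Rs.isPGroup'.map _
    have hR₁N : R₁ ≤ Subgroup.normalizer (Q : Set G) := by
      rw [hR₁]; exact Subgroup.map_subtype_le _
    by_cases hRR₁ : R = R₁
    · rw [← hRR₁] at hk
      have hZne : ZE 0 R ≠ ⊥ := by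
        have h := inducedFunctor_ne_bot (WZ_char p (Or.inl rfl)) R hRp hR1
        rwa [inducedFunctor_WZ] at h
      have hZR : ZE 0 R ≤ R := (ZE_le_JE 0 R).trans (JE_le 0 R)
      have hle : (P : Subgroup G) ⊓ Subgroup.normalizer (R : Set G) ≤
          (P : Subgroup G) ⊓ Subgroup.normalizer ((ZE 0 R : Subgroup G) : Set G) :=
        inf_le_inf_left _ (normalizer_le_normalizer_ZE 0 R)
      have hcard2 := Subgroup.card_le_of_le hle
      have hcard3 : Nat.card ((P : Subgroup G) ⊓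
          Subgroup.normalizer ((ZE 0 R : Subgroup G) : Set G) : Subgroup G)
          ≤ Nat.card (P : Subgroup G) := Subgroup.card_le_of_le inf_le_left
      exact hk.trans (ih _ (by omega) P hPM (ZE 0 R) (hZR.trans hRP) hZne rfl)
    · have hlt2 : Nat.card R < Nat.card (R₁ ⊓ Subgroup.normalizer (R : Set G) : Subgroup G) :=
        Helper12.card_lt_card_inf_normalizer hR₁p hRs hRR₁
      obtain ⟨R₂, hR₂⟩ : ∃ R₂ : Subgroup G, R₂ = R₁ ⊓ Subgroup.normalizer (R : Set G) :=
        ⟨_, rfl⟩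
      rw [← hR₂] at hlt2
      have hR₂R₁ : R₂ ≤ R₁ := by rw [hR₂]; exact inf_le_left
      have hR₂NR : R₂ ≤ Subgroup.normalizer (R : Set G) := by rw [hR₂]; exact inf_le_right
      have hR₂p : IsPGroup p R₂ := hR₁p.to_le hR₂R₁
      have hR₂M : R₂ ≤ M := hR₂NR.trans hNR
      have hR₂N : R₂ ≤ Subgroup.normalizer (Q : Set G) := hR₂R₁.trans hR₁N
      have hRR₂ : R ≤ R₂ := by rw [hR₂]; exact le_inf hRs Subgroup.le_normalizer
      obtain ⟨m, hm, hmc⟩ := Helper12.exists_conj_mem_sylow_of_le P hPM' hR₂p hR₂M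
      have hR₂P₂ : R₂ ≤ ((m⁻¹ • P : Sylow p G) : Subgroup G) := by
        intro q hq
        have h1 : q ∈ (m⁻¹ • P : Sylow p G) := by
          rw [Helper12.mem_sylow_smul_iff, inv_inv]; exact hmc q hq
        exact h1
      have hZP₂ : ZE 0 ((m⁻¹ • P : Sylow p G) : Subgroup G) = ZE 0 (P : Subgroup G) := by
        have hmN : m⁻¹ ∈ Subgroup.normalizer ((ZE 0 (P : Subgroup G) : Subgroup G) : Set G) := by
          rw [hPM]; exact M.inv_mem hm
        rw [mem_normalizer_iff_conj_smul, conj_smul_eq_map] at hmN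
        rw [Helper12.sylow_smul_coe_eq_map, ← ZE_map 0 (MulAut.conj m⁻¹) (P : Subgroup G)]
        exact hmN
      have hP₂M : Subgroup.normalizer
          ((ZE 0 ((m⁻¹ • P : Sylow p G) : Subgroup G) : Subgroup G) : Set G) = M := by
        rw [hZP₂]; exact hPM
      have hcardP₂ : Nat.card ((m⁻¹ • P : Sylow p G) : Subgroup G)
          = Nat.card (P : Subgroup G) := by
        rw [Helper12.sylow_smul_coe_eq_map]
        exact Subgroup.card_map_of_injective (MulAut.conj m⁻¹).injective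
      have hle3 : R₂ ≤ ((m⁻¹ • P : Sylow p G) : Subgroup G) ⊓
          Subgroup.normalizer (Q : Set G) := le_inf hR₂P₂ hR₂N
      have hcard4 := Subgroup.card_le_of_le hle3
      have hcard5 : Nat.card (((m⁻¹ • P : Sylow p G) : Subgroup G) ⊓
          Subgroup.normalizer (Q : Set G) : Subgroup G)
          ≤ Nat.card ((m⁻¹ • P : Sylow p G) : Subgroup G) := Subgroup.card_le_of_le inf_le_left
      exact ih _ (by omega) (m⁻¹ • P) hP₂M Q ((hQR.trans hRR₂).trans hR₂P₂) hQ1 rfl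

end Cfsg.Agent.Helper1
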