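import Mathlib
import Cfsg.Agent.Helper1.ZJLocal
import Cfsg.Agent.Helper12.StrongFusion
import Cfsg.Agent.Helper24.PNormalCenter
import Cfsg.Agent.S3836
import Cfsg.Prelude.Def_ConjugacyFunctors
import Cfsg.Prelude.Def_EvenType
import Cfsg.Prelude.Def_TwoFusion

set_option autoImplicit false

namespace Cfsg.Agent.Helper1

universe u

open scoped commutatorElement

/-- Coprime fixed-point argument: conjugation by `k ∈ K` on a `p`-subgroup `B ≤ L` that lands in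
`L` is induced by an element of `K ⊓ L`. -/
theorem exists_inf_conj_eq {G : Type u} [Group G] [Finite G] {p : ℕ} [Fact p.Prime]
    (K L B : Subgroup G) (hK : (Nat.card K).Coprime p)
    (hLK : ∀ n ∈ L, ∀ c ∈ K, n * c * n⁻¹ ∈ K) (hBL : B ≤ L) (hB : IsPGroup p B)
    (k : G) (hk : k ∈ K) (hkB : ∀ b ∈ B, k * b * k⁻¹ ∈ L) :
    ∃ c ∈ K ⊓ L, ∀ b ∈ B, c⁻¹ * b * c = k * b * k⁻¹ := by
  classical
  have hmem : ∀ (b : ↥B) (c : ↥(K ⊓ L)),
      (b : G) * (c : G) * (k * (b : G)⁻¹ * k⁻¹) ∈ K ⊓ L := by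
    intro b c
    have hb : (b : G) ∈ L := hBL b.2
    have hc := Subgroup.mem_inf.mp c.2
    refine Subgroup.mem_inf.mpr ⟨?_, ?_⟩
    · have e : (b : G) * (c : G) * (k * (b : G)⁻¹ * k⁻¹)
          = ((b : G) * (c : G) * (b : G)⁻¹) * ((b : G) * k * (b : G)⁻¹) * k⁻¹ := by group
      rw [e]
      exact K.mul_mem (K.mul_mem (hLK _ hb _ hc.1) (hLK _ hb _ hk)) (K.inv_mem hk)
    · have e : k * (b : G)⁻¹ * k⁻¹ = (k * (b : G) * k⁻¹)⁻¹ := by group
      rw [e]
      exact L.mul_mem (L.mul_mem hb hc.2) (L.inv_mem (hkB _ b.2))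
  letI act : MulAction ↥B ↥(K ⊓ L) :=
    { smul := fun b c => ⟨(b : G) * (c : G) * (k * (b : G)⁻¹ * k⁻¹), hmem b c⟩
      one_smul := fun c => Subtype.ext (by
        show ((1 : ↥B) : G) * (c : G) * (k * ((1 : ↥B) : G)⁻¹ * k⁻¹) = (c : G)
        rw [Subgroup.coe_one]; group)
      mul_smul := fun b b' c => Subtype.ext (by
        show ((b * b' : ↥B) : G) * (c : G) * (k * ((b * b' : ↥B) : G)⁻¹ * k⁻¹)
          = (b : G) * ((b' : G) * (c : G) * (k * (b' : G)⁻¹ * k⁻¹)) * (k * (b : G)⁻¹ * k⁻¹)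
        rw [Subgroup.coe_mul]; group) }
  have hsm : ∀ (b : ↥B) (c : ↥(K ⊓ L)),
      ((b • c : ↥(K ⊓ L)) : G) = (b : G) * (c : G) * (k * (b : G)⁻¹ * k⁻¹) := fun b c => rfl
  have hnd : ¬ p ∣ Nat.card ↥(K ⊓ L) := fun hdvd =>
    (Nat.Prime.coprime_iff_not_dvd (Fact.out : p.Prime)).mp hK.symm
      (hdvd.trans (Subgroup.card_dvd_of_le inf_le_left))
  obtain ⟨c, hc⟩ := hB.nonempty_fixed_point_of_prime_not_dvd_card ↥(K ⊓ L) hnd
  refine ⟨(c : G), c.2, fun b hb => ?_⟩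
  have h1 := MulAction.mem_fixedPoints.mp hc ⟨b, hb⟩
  have h2 : b * (c : G) * (k * b⁻¹ * k⁻¹) = (c : G) := by
    rw [← hsm ⟨b, hb⟩ c, h1]
  calc (c : G)⁻¹ * b * (c : G)
      = (c : G)⁻¹ * (b * (c : G) * (k * b⁻¹ * k⁻¹)) * (k * b * k⁻¹) := by group
    _ = (c : G)⁻¹ * (c : G) * (k * b * k⁻¹) := by rw [h2]
    _ = k * b * k⁻¹ := by group

/-- A factorization `N = K L` with `K` a `p'`-group normalized by `L` shows that `L` controls
strong fusion in any `p`-subgroup of `L`. -/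
theorem fusion_of_factor {G : Type u} [Group G] [Finite G] {p : ℕ} [Fact p.Prime]
    (N K L T' : Subgroup G) (hK : (Nat.card K).Coprime p)
    (hLK : ∀ n ∈ L, ∀ c ∈ K, n * c * n⁻¹ ∈ K) (hT'L : T' ≤ L) (hT' : IsPGroup p T')
    (hfac : ∀ h ∈ N, ∃ k ∈ K, ∃ n ∈ L, h = k * n)
    (A : Set G) (h : G) (hh : h ∈ N) (hA : A ⊆ T')
    (hhA : (fun a => h * a * h⁻¹) '' A ⊆ T') :
    ∃ x ∈ L, ∀ a ∈ A, x * a * x⁻¹ = h * a * h⁻¹ := by
  obtain ⟨k, hk, n, hn, hkn⟩ := hfac h hh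
  obtain ⟨B, hBdef⟩ : ∃ B : Subgroup G, B = Helper12.cjs n⁻¹ T' ⊓ Helper12.cjs k T' :=
    ⟨_, rfl⟩
  have hmemB : ∀ b : G, b ∈ B ↔ n⁻¹ * b * n ∈ T' ∧ k * b * k⁻¹ ∈ T' := by
    intro b
    rw [hBdef, Subgroup.mem_inf, Helper12.mem_cjs_iff, Helper12.mem_cjs_iff, inv_inv]
  have hcp : IsPGroup p (Helper12.cjs k T') := hT'.map _
  have hBp : IsPGroup p B := by
    rw [hBdef]
    exact hcp.to_le inf_le_right
  have hBL : B ≤ L := by
    intro b hb
    have h1 := hT'L ((hmemB b).mp hb).1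
    have e : b = n * (n⁻¹ * b * n) * n⁻¹ := by group
    rw [e]
    exact L.mul_mem (L.mul_mem hn h1) (L.inv_mem hn)
  have hkB : ∀ b ∈ B, k * b * k⁻¹ ∈ L := fun b hb => hT'L ((hmemB b).mp hb).2
  obtain ⟨c, hc, hcb⟩ := exists_inf_conj_eq K L B hK hLK hBL hBp k hk hkB
  refine ⟨c⁻¹ * n, L.mul_mem (L.inv_mem (Subgroup.mem_inf.mp hc).2) hn, fun a ha => ?_⟩
  have hu : n * a * n⁻¹ ∈ B := by
    rw [hmemB]
    constructor
    · have e : n⁻¹ * (n * a * n⁻¹) * n = a := by group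
      rw [e]; exact hA ha
    · have e : k * (n * a * n⁻¹) * k⁻¹ = h * a * h⁻¹ := by rw [hkn]; group
      rw [e]; exact hhA ⟨a, ha, rfl⟩
  have h3 := hcb _ hu
  calc c⁻¹ * n * a * (c⁻¹ * n)⁻¹ = c⁻¹ * (n * a * n⁻¹) * c := by group
    _ = k * (n * a * n⁻¹) * k⁻¹ := h3
    _ = h * a * h⁻¹ := by rw [hkn]; group

/-- A `p`-subgroup of index prime to `p` is a Sylow `p`-subgroup. -/
theorem exists_sylow_coe_eq {G : Type u} [Group G] [Finite G] {p : ℕ} [Fact p.Prime]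
    (R : Subgroup G) (hR : IsPGroup p R) (hidx : ¬ p ∣ R.index) :
    ∃ S : Sylow p G, (S : Subgroup G) = R := by
  obtain ⟨S, hRS⟩ := hR.exists_le_sylow
  refine ⟨S, le_antisymm ?_ hRS⟩
  have h1 : R.relIndex (S : Subgroup G) * (S : Subgroup G).index = R.index :=
    Subgroup.relIndex_mul_index hRS
  have h2 : R.relIndex (S : Subgroup G) ∣ Nat.card (S : Subgroup G) :=
    Subgroup.relIndex_dvd_card _ _
  obtain ⟨n, hn⟩ := IsPGroup.iff_card.mp S.isPGroup'
  rw [hn] at h2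
  obtain ⟨j, -, hj⟩ := (Nat.dvd_prime_pow (Fact.out : p.Prime)).mp h2
  rcases Nat.eq_zero_or_pos j with h0 | hpos
  · rw [h0, pow_zero] at hj
    exact Subgroup.relIndex_eq_one.mp hj
  · exfalso
    apply hidx
    rw [← h1, hj]
    exact Dvd.dvd.mul_right (dvd_pow_self p hpos.ne') _

/-- `ZE` commutes with the inclusion of a subgroup. -/
theorem ZE_map_subtype {G : Type u} [Group G] (e : ℕ) (N : Subgroup G) (D : Subgroup ↥N) :
    (ZE e D).map N.subtype = ZE e (D.map N.subtype) := by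
  obtain ⟨ψ, hψ⟩ : ∃ ψ : ↥D ≃* ↥(D.map N.subtype),
      ∀ x : ↥D, ((ψ x : ↥(D.map N.subtype)) : G) = N.subtype (x : ↥N) :=
    ⟨D.equivMapOfInjective N.subtype N.subtype_injective,
      fun x => Subgroup.coe_equivMapOfInjective_apply D N.subtype N.subtype_injective x⟩
  have h1 := ZE_subtype e D
  have h2 := ZE_subtype e (D.map N.subtype)
  have h3 := ZE_map e ψ (⊤ : Subgroup ↥D)
  have h4 : (⊤ : Subgroup ↥D).map ψ.toMonoidHom = ⊤ := by
    rw [eq_top_iff]
    intro y _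
    exact ⟨ψ.symm y, Subgroup.mem_top _, ψ.apply_symm_apply y⟩
  rw [h4] at h3
  rw [← h1, ← h2, ← h3, Subgroup.map_map, Subgroup.map_map]
  congr 1
  apply MonoidHom.ext
  intro x
  exact (hψ x).symm

/-- `ZE e X` is nontrivial for a nontrivial `p`-group `X`. -/
theorem ZE_ne_bot {G : Type u} [Group G] [Finite G] {p : ℕ} [Fact p.Prime] {e : ℕ}
    (he : e = 0 ∨ e = p) (X : Subgroup G) (hX : IsPGroup p X) (hne : X ≠ ⊥) : ZE e X ≠ ⊥ := by
  have h0 : ZE e X = (WZ e ↥X).map X.subtype := (inducedFunctor_WZ e X).symm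
  rw [h0]
  intro h
  rw [Subgroup.map_eq_bot_iff_of_injective _ X.subtype_injective] at h
  exact WZ_ne_bot he ↥X hX ((Subgroup.nontrivial_iff_ne_bot X).mpr hne) h

/-- The union of the conjugates of `D`. -/
def conjSet {G : Type u} [Group G] (D : Subgroup G) : Set G :=
  {x | ∃ d ∈ D, ∃ g : G, x = g * d * g⁻¹}

theorem mem_conjSet {G : Type u} [Group G] (D : Subgroup G) (x : G) :
    x ∈ conjSet D ↔ ∃ d ∈ D, ∃ g : G, x = g * d * g⁻¹ := Iff.rfl

theorem conjSet_conj {G : Type u} [Group G] (D : Subgroup G) (g x : G) :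
    g * x * g⁻¹ ∈ conjSet D ↔ x ∈ conjSet D := by
  rw [mem_conjSet, mem_conjSet]
  constructor
  · rintro ⟨d, hd, y, hy⟩
    refine ⟨d, hd, g⁻¹ * y, ?_⟩
    calc x = g⁻¹ * (g * x * g⁻¹) * g := by group
      _ = g⁻¹ * (y * d * y⁻¹) * g := by rw [hy]
      _ = g⁻¹ * y * d * (g⁻¹ * y)⁻¹ := by group
  · rintro ⟨d, hd, y, hy⟩
    refine ⟨d, hd, g * y, ?_⟩
    rw [hy]; group

/-- The subgroup of `R` generated by the conjugates of elements of `D` lying in `R`. -/
def DR {G : Type u} [Group G] (D R : Subgroup G) : Subgroup G :=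
  Subgroup.closure ((R : Set G) ∩ conjSet D)

theorem DR_le {G : Type u} [Group G] (D R : Subgroup G) : DR D R ≤ R :=
  (Subgroup.closure_le R).mpr Set.inter_subset_left

theorem DR_map {G : Type u} [Group G] (D R : Subgroup G) (g : G) :
    DR D (R.map (MulAut.conj g).toMonoidHom) = (DR D R).map (MulAut.conj g).toMonoidHom := by
  unfold DR
  rw [MonoidHom.map_closure]
  congr 1
  ext x
  constructor
  · rintro ⟨hx1, hx2⟩
    obtain ⟨r, hr, rfl⟩ := hx1
    have hx2' : g * r * g⁻¹ ∈ conjSet D := hx2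
    exact ⟨r, ⟨hr, (conjSet_conj D g r).mp hx2'⟩, rfl⟩
  · rintro ⟨r, ⟨hr, hr2⟩, rfl⟩
    have h2 : g * r * g⁻¹ ∈ conjSet D := (conjSet_conj D g r).mpr hr2
    exact ⟨Subgroup.mem_map_of_mem _ hr, h2⟩

theorem DR_eq_inf {G : Type u} [Group G] {D P : Subgroup G}
    (hD : Cfsg.IsStronglyClosed D P) {R : Subgroup G} (hR : R ≤ P) : DR D R = R ⊓ D := by
  unfold DR
  have hset : (R : Set G) ∩ conjSet D = ((R ⊓ D : Subgroup G) : Set G) := by
    ext x
    constructor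
    · rintro ⟨hx1, hx2⟩
      obtain ⟨d, hd, g, rfl⟩ := (mem_conjSet D x).mp hx2
      exact Subgroup.mem_inf.mpr ⟨hx1, hD.2 d hd g (hR hx1)⟩
    · intro hx
      have hx' := Subgroup.mem_inf.mp hx
      exact ⟨hx'.1, (mem_conjSet D x).mpr ⟨x, hx'.2, 1, by group⟩⟩
  rw [hset, Subgroup.closure_eq]

/-- The conjugacy functor attached to `ZE e` and the conjugates of `D`. -/
noncomputable def WD {G : Type u} [Group G] (e : ℕ) (D R : Subgroup G) : Subgroup G :=
  @ite _ (DR D R = ⊥) (Classical.propDecidable _) R (ZE e (DR D R))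

theorem WD_of_eq_bot {G : Type u} [Group G] (e : ℕ) {D R : Subgroup G} (h : DR D R = ⊥) :
    WD e D R = R := by
  unfold WD
  rw [if_pos h]

theorem WD_of_ne_bot {G : Type u} [Group G] (e : ℕ) {D R : Subgroup G} (h : DR D R ≠ ⊥) :
    WD e D R = ZE e (DR D R) := by
  unfold WD
  rw [if_neg h]

theorem WD_isConjugacyFunctor {G : Type u} [Group G] [Finite G] {p : ℕ} [Fact p.Prime] {e : ℕ}
    (he : e = 0 ∨ e = p) (D : Subgroup G) : Cfsg.IsConjugacyFunctor p (WD e D) := by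
  intro R hR
  refine ⟨?_, ?_, ?_⟩
  · by_cases h : DR D R = ⊥
    · exact (WD_of_eq_bot e h).le
    · rw [WD_of_ne_bot e h]
      exact ((ZE_le_JE e _).trans (JE_le e _)).trans (DR_le D R)
  · intro hne
    by_cases h : DR D R = ⊥
    · rw [WD_of_eq_bot e h]; exact hne
    · rw [WD_of_ne_bot e h]
      exact ZE_ne_bot he _ (hR.to_le (DR_le D R)) h
  · intro g
    have hmap := DR_map D R g
    by_cases h : DR D R = ⊥
    · have h' : DR D (R.map (MulAut.conj g).toMonoidHom) = ⊥ := by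
        rw [hmap, h, Subgroup.map_bot]
      rw [WD_of_eq_bot e h, WD_of_eq_bot e h']
    · have h' : DR D (R.map (MulAut.conj g).toMonoidHom) ≠ ⊥ := by
        rw [hmap]
        intro h2
        exact h ((Subgroup.map_eq_bot_iff_of_injective _ (MulAut.conj g).injective).mp h2)
      rw [WD_of_ne_bot e h, WD_of_ne_bot e h', hmap]
      exact (ZE_map e (MulAut.conj g) (DR D R)).symm

/-- A nontrivial strongly closed subgroup contains a nontrivial central element of `P`. -/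
theorem exists_central_of_stronglyClosed {G : Type u} [Group G] [Finite G] {p : ℕ}
    [Fact p.Prime] (P : Sylow p G) (D : Subgroup G)
    (hD : Cfsg.IsStronglyClosed D (P : Subgroup G)) (hDne : D ≠ ⊥) :
    ∃ z ∈ D, (∀ x ∈ (P : Subgroup G), x * z = z * x) ∧ z ≠ 1 := by
  haveI hn : (D.subgroupOf (P : Subgroup G)).Normal := by
    constructor
    intro d hd x
    rw [Subgroup.mem_subgroupOf] at hd ⊢
    have h1 : ((x * d * x⁻¹ : ↥(P : Subgroup G)) : G) ∈ (P : Subgroup G) := (x * d * x⁻¹).2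
    exact hD.2 (d : G) hd (x : G) h1
  have hne : D.subgroupOf (P : Subgroup G) ≠ ⊥ := by
    intro h
    apply hDne
    rw [eq_bot_iff]
    intro d hd
    have h1 : (⟨d, hD.1 hd⟩ : ↥(P : Subgroup G)) ∈ D.subgroupOf (P : Subgroup G) :=
      Subgroup.mem_subgroupOf.mpr hd
    rw [h, Subgroup.mem_bot] at h1
    rw [Subgroup.mem_bot]
    exact congrArg Subtype.val h1
  obtain ⟨z, hz, hzc, hz1⟩ :=
    Helper24.pgroup_normal_inf_center P.isPGroup' (D.subgroupOf (P : Subgroup G)) hne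
  refine ⟨(z : G), Subgroup.mem_subgroupOf.mp hz, ?_, ?_⟩
  · intro x hx
    have h2 := Subgroup.mem_center_iff.mp hzc ⟨x, hx⟩
    exact congrArg Subtype.val h2
  · intro h
    apply hz1
    exact Subtype.ext h

/-- The local step: in a `p`-constrained subgroup `N` the functor controls strong fusion. -/
theorem csf_local {G : Type u} [Group G] [Finite G] {p : ℕ} [Fact p.Prime] (hp2 : p ≠ 2)
    {e : ℕ} (he : e = 0 ∨ e = p) (P : Sylow p G) (D : Subgroup G)
    (hD : Cfsg.IsStronglyClosed D (P : Subgroup G))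
    (hst : Cfsg.IsNormalizerPStable p G)
    (N : Subgroup G) (hcN : Cfsg.IsPConstrained p ↥N)
    (hidx : ¬ p ∣ ((P : Subgroup G) ⊓ N).relIndex N)
    (hXne : ((P : Subgroup G) ⊓ N) ⊓ D ≠ ⊥) :
    Cfsg.ControlsStrongFusionIn p (WD e D) N := by
  obtain ⟨T', hT'⟩ : ∃ T' : Subgroup G, T' = (P : Subgroup G) ⊓ N := ⟨_, rfl⟩
  rw [← hT'] at hidx hXne
  have hT'P : T' ≤ (P : Subgroup G) := by rw [hT']; exact inf_le_left
  have hT'N : T' ≤ N := by rw [hT']; exact inf_le_right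
  have hT'p : IsPGroup p T' := P.isPGroup'.to_le hT'P
  obtain ⟨X, hX⟩ : ∃ X : Subgroup G, X = T' ⊓ D := ⟨_, rfl⟩
  rw [← hX] at hXne
  have hXT' : X ≤ T' := by rw [hX]; exact inf_le_left
  have hXN : X ≤ N := hXT'.trans hT'N
  have hDR : DR D T' = X := by rw [hX]; exact DR_eq_inf hD hT'P
  have hWT' : WD e D T' = ZE e X := by
    rw [WD_of_ne_bot e (by rw [hDR]; exact hXne), hDR]
  obtain ⟨S', hS'⟩ := exists_sylow_coe_eq (T'.subgroupOf N)
    (hT'p.comap_of_injective N.subtype N.subtype_injective) hidx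
  have hKc : (Nat.card ↥(Cfsg.pPrimeCore p ↥N)).Coprime p := Helper9.pPrimeCore_coprime p
  have hcen := constrained_quot hcN
  have hstab : StabHyp p (Cfsg.pPrimeCore p ↥N) (S' : Subgroup ↥N) :=
    normalizerPStable_stabHyp (Cfsg.Agent.S3836.result hst N) (Cfsg.pPrimeCore p ↥N)
      (S' : Subgroup ↥N) S'.isPGroup'
  obtain ⟨D'', hD''⟩ : ∃ D'' : Subgroup ↥N, D'' = X.subgroupOf N := ⟨_, rfl⟩
  have hD''S' : D'' ≤ (S' : Subgroup ↥N) := by
    rw [hS', hD'']
    intro x hx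
    exact Subgroup.mem_subgroupOf.mpr (hXT' (Subgroup.mem_subgroupOf.mp hx))
  have hcl : ∀ x ∈ D'', ∀ g : ↥N, g * x * g⁻¹ ∈ (S' : Subgroup ↥N) → g * x * g⁻¹ ∈ D'' := by
    intro x hx g hg
    rw [hS'] at hg
    rw [hD''] at hx ⊢
    have hx' : (x : G) ∈ X := Subgroup.mem_subgroupOf.mp hx
    have hg' : ((g * x * g⁻¹ : ↥N) : G) ∈ T' := Subgroup.mem_subgroupOf.mp hg
    rw [Subgroup.mem_subgroupOf]
    rw [hX] at hx' ⊢
    have hx2 := Subgroup.mem_inf.mp hx'
    refine Subgroup.mem_inf.mpr ⟨hg', ?_⟩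
    have h1 : (g : G) * (x : G) * (g : G)⁻¹ ∈ (P : Subgroup G) := hT'P hg'
    exact hD.2 (x : G) hx2.2 (g : G) h1
  have hfac := sup_normalizer_ZE_eq_top hp2 he (Cfsg.pPrimeCore p ↥N) hKc hcen S' D'' hD''S'
    hcl hstab
  have hZmap : (ZE e D'').map N.subtype = ZE e X := by
    rw [ZE_map_subtype, hD'', Subgroup.map_subgroupOf_eq_of_le hXN]
  have hS'norm : ∀ x : ↥N, x ∈ (S' : Subgroup ↥N) →
      x ∈ Subgroup.normalizer ((D'' : Subgroup ↥N) : Set ↥N) := by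
    intro x hx
    rw [Subgroup.mem_normalizer_iff]
    intro d
    constructor
    · intro hd
      exact hcl d hd x ((S' : Subgroup ↥N).mul_mem
        ((S' : Subgroup ↥N).mul_mem hx (hD''S' hd)) ((S' : Subgroup ↥N).inv_mem hx))
    · intro hd
      have h1 : x⁻¹ * (x * d * x⁻¹) * x⁻¹⁻¹ ∈ (S' : Subgroup ↥N) :=
        (S' : Subgroup ↥N).mul_mem ((S' : Subgroup ↥N).mul_mem
          ((S' : Subgroup ↥N).inv_mem hx) (hD''S' hd))
          ((S' : Subgroup ↥N).inv_mem ((S' : Subgroup ↥N).inv_mem hx))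
      have h2 := hcl _ hd x⁻¹ h1
      have e1 : x⁻¹ * (x * d * x⁻¹) * x⁻¹⁻¹ = d := by group
      rw [e1] at h2
      exact h2
  obtain ⟨K, hKdef⟩ : ∃ K : Subgroup G, K = (Cfsg.pPrimeCore p ↥N).map N.subtype := ⟨_, rfl⟩
  obtain ⟨L, hLdef⟩ : ∃ L : Subgroup G,
      L = (Subgroup.normalizer ((ZE e D'' : Subgroup ↥N) : Set ↥N)).map N.subtype := ⟨_, rfl⟩
  have hKcard : (Nat.card K).Coprime p := by
    rw [hKdef, Subgroup.card_map_of_injective N.subtype_injective]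
    exact hKc
  have hLK : ∀ n ∈ L, ∀ c ∈ K, n * c * n⁻¹ ∈ K := by
    intro n hn c hc
    rw [hLdef] at hn
    rw [hKdef] at hc ⊢
    obtain ⟨n', -, rfl⟩ := hn
    obtain ⟨c', hc', rfl⟩ := hc
    exact ⟨n' * c' * n'⁻¹,
      (inferInstance : (Cfsg.pPrimeCore p ↥N).Normal).conj_mem c' hc' n', by
        simp only [map_mul, map_inv]⟩
  have hT'L : T' ≤ L := by
    intro t ht
    rw [hLdef]
    have hmem : (⟨t, hT'N ht⟩ : ↥N) ∈ (S' : Subgroup ↥N) := by
      rw [hS']; exact Subgroup.mem_subgroupOf.mpr ht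
    exact ⟨⟨t, hT'N ht⟩, normalizer_le_normalizer_ZE e D'' (hS'norm _ hmem), rfl⟩
  have hfac' : ∀ h ∈ N, ∃ k ∈ K, ∃ n ∈ L, h = k * n := by
    intro h hh
    have h1 : (⟨h, hh⟩ : ↥N) ∈ Cfsg.pPrimeCore p ↥N ⊔
        Subgroup.normalizer ((ZE e D'' : Subgroup ↥N) : Set ↥N) := by
      rw [hfac]; exact Subgroup.mem_top _
    obtain ⟨k', hk', n', hn', hkn⟩ := Subgroup.mem_sup_of_normal_left.mp h1
    refine ⟨(k' : G), ?_, (n' : G), ?_, ?_⟩
    · rw [hKdef]; exact Subgroup.mem_map_of_mem N.subtype hk'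
    · rw [hLdef]; exact Subgroup.mem_map_of_mem N.subtype hn'
    · exact (congrArg Subtype.val hkn).symm
  refine ⟨T', hT'N, hT'p, hidx, ?_⟩
  intro A h hh hA hhA
  rw [hWT']
  obtain ⟨x, hxL, hxa⟩ := fusion_of_factor N K L T' hKcard hLK hT'L hT'p hfac' A h hh hA hhA
  refine ⟨x, ?_, hxa⟩
  rw [hLdef] at hxL
  obtain ⟨x', hx', rfl⟩ := hxL
  refine Subgroup.mem_inf.mpr ⟨x'.2, ?_⟩
  rw [← hZmap]
  exact Subgroup.le_normalizer_map N.subtype (Subgroup.mem_map_of_mem N.subtype hx')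

/-- Under the hypotheses of the strongly closed ZJ-theorem with all `p`-local subgroups
constrained, `N_G(ZE e D)` controls strong fusion in `P`. -/
theorem ZE_controls_strong_fusion {G : Type u} [Group G] [Finite G] {p : ℕ} [Fact p.Prime]
    (hp2 : p ≠ 2) {e : ℕ} (he : e = 0 ∨ e = p) (P : Sylow p G) (D : Subgroup G)
    (hD : Cfsg.IsStronglyClosed D (P : Subgroup G)) (hst : Cfsg.IsNormalizerPStable p G)
    (hc : ∀ U : Subgroup G, U ≤ (P : Subgroup G) → U ≠ ⊥ →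
      Cfsg.IsPConstrained p ↥(Subgroup.normalizer (U : Set G)))
    (A : Set G) (hA : A ⊆ (P : Subgroup G)) :
    Cfsg.ControlsStrongFusionOf (Subgroup.normalizer ((ZE e D : Subgroup G) : Set G))
      (P : Subgroup G) A := by
  refine ⟨hA, fun g hg => ?_⟩
  by_cases hDne : D = ⊥
  · refine ⟨g, ?_, fun a _ => rfl⟩
    have hZ : ZE e D = ⊥ := by
      rw [eq_bot_iff]
      exact ((ZE_le_JE e D).trans (JE_le e D)).trans (le_of_eq hDne)
    rw [hZ, Subgroup.mem_normalizer_iff]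
    intro x
    rw [Subgroup.mem_bot, Subgroup.mem_bot]
    constructor
    · intro hx; rw [hx]; group
    · intro hx
      calc x = g⁻¹ * (g * x * g⁻¹) * g := by group
        _ = g⁻¹ * 1 * g := by rw [hx]
        _ = 1 := by group
  · have hW : Cfsg.IsConjugacyFunctor p (WD e D) := WD_isConjugacyFunctor he D
    have hDP : D ≤ (P : Subgroup G) := hD.1
    have hloc : ∀ T : Subgroup G, T ≠ ⊥ → Cfsg.IsWellPlaced p (WD e D) (P : Subgroup G) T →
        Cfsg.ControlsStrongFusionIn p (WD e D)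
          (Subgroup.normalizer ((T : Subgroup G) : Set G)) := by
      intro T hTne hwp
      have hTP : T ≤ (P : Subgroup G) := hwp.1
      have hidx := hwp.2 0
      rw [Helper12.functorTower_zero] at hidx
      refine csf_local hp2 he P D hD hst _ (hc T hTP hTne) hidx ?_
      obtain ⟨z, hzD, hzc, hz1⟩ := exists_central_of_stronglyClosed P D hD hDne
      intro hbot
      apply hz1
      have hz : z ∈ ((P : Subgroup G) ⊓ Subgroup.normalizer (T : Set G)) ⊓ D := by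
        refine Subgroup.mem_inf.mpr ⟨Subgroup.mem_inf.mpr ⟨hDP hzD, ?_⟩, hzD⟩
        rw [Subgroup.mem_normalizer_iff]
        intro t
        constructor
        · intro ht
          have e1 : z * t * z⁻¹ = t := by
            rw [← hzc t (hTP ht)]; group
          rw [e1]; exact ht
        · intro ht
          have h2 := hzc _ (hTP ht)
          have e1 : t = z * t * z⁻¹ := by
            calc t = z⁻¹ * ((z * t * z⁻¹) * z) := by group
              _ = z⁻¹ * (z * (z * t * z⁻¹)) := by rw [h2]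
              _ = z * t * z⁻¹ := by group
          rw [e1]; exact ht
      rw [hbot, Subgroup.mem_bot] at hz
      exact hz
    have hWP : WD e D (P : Subgroup G) = ZE e D := by
      have h1 : DR D (P : Subgroup G) = D := by
        rw [DR_eq_inf hD le_rfl]; exact inf_eq_right.mpr hDP
      rw [WD_of_ne_bot e (by rw [h1]; exact hDne), h1]
    have hgA : Helper12.cj g⁻¹ A ⊆ (P : Subgroup G) := by
      rintro _ ⟨a, ha, rfl⟩
      have e1 : g⁻¹⁻¹ * a * g⁻¹ = g * a * g⁻¹ := by rw [inv_inv]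
      show g⁻¹⁻¹ * a * g⁻¹ ∈ ((P : Subgroup G) : Set G)
      rw [e1]; exact hg ⟨a, ha, rfl⟩
    obtain ⟨y, hy, hya⟩ := Helper12.csf_global hW P hloc A g⁻¹ hA hgA
    rw [hWP] at hy
    refine ⟨y⁻¹, Subgroup.inv_mem _ hy, fun a ha => ?_⟩
    have h1 := hya a ha
    rw [inv_inv] at h1 ⊢
    exact h1.symm

end Cfsg.Agent.Helper1
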